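import Cfsg.Agent.H925.OrthPlane4
import Cfsg.Agent.H925.EvenFine
import Cfsg.Agent.H926.EvenA
import Cfsg.Agent.H922.MaxSubfield

/-!
# Orthogonal decompositions and the type of an even-dimensional quadratic space
-/

set_option autoImplicit false
set_option linter.unusedSectionVars false

namespace Cfsg.Agent.H926

open QuadraticMap Matrix Cfsg.Geo
open Cfsg.Agent.H922 (resBilin resBilin_apply resBilin_nondegenerate resBilin_isSymm polar_of_isometry toBilin_isSymm
  toBilin)

variable {ι : Type} [Fintype ι] [DecidableEq ι] {F : Type*} [Field F]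

/-- **Odd characteristic**: a Gram determinant `(-1)^m s²` (dimension `2 m`) forces plus type. -/
theorem plus_of_det [Finite F] {Q : (ι → F) → F} (hQ : IsNondegenerateQuadraticForm Q) (h2 : (2 : F) ≠ 0)
    {m : ℕ} (hm : Fintype.card ι = 2 * m) {κ : Type} [Fintype κ] [DecidableEq κ] (B : Module.Basis κ F (ι → F))
    {s : F} (hdet : (LinearMap.BilinForm.toMatrix B (toBilin hQ.polar_bilinear)).det = (-1) ^ m * s ^ 2) :
    IsPlusTypeOn Q ⊤ := by
  classical
  let c : Fin m ⊕ Fin m → F := Sum.elim (fun _ => 1) (fun _ => -1)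
  have hc : ∀ i, c i ≠ 0 := by
    rintro (i | i)
    · exact one_ne_zero
    · exact neg_ne_zero.2 one_ne_zero
  have hprod : ∏ i, c i = (-1) ^ m := by
    rw [Fintype.prod_sum_type]
    simp [c]
  have hnd : (toBilin hQ.polar_bilinear).Nondegenerate := by
    refine ⟨fun x hx => ?_, fun x hx => ?_⟩
    · by_contra h
      obtain ⟨y, hy⟩ := (hQ.nondegenerate x h).2
      exact hy (hx y)
    · by_contra h
      obtain ⟨y, hy⟩ := (hQ.nondegenerate x h).1
      exact hy (hx y)
  obtain ⟨v, hv⟩ := Cfsg.Agent.ClassicalGeometry.Discriminant.exists_basis_diag h2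
    (toBilin hQ.polar_bilinear) (toBilin_isSymm Q hQ.polar_bilinear) hnd B c
    (by rw [Fintype.card_sum, Fintype.card_fin, Module.finrank_fintype_fun_eq_card, hm, two_mul]) hc s
    (by rw [hdet, hprod, mul_comm])
  let w : Fin m → (ι → F) := fun i => v (Sum.inl i) + v (Sum.inr i)
  have hw : ∀ i j, toBilin hQ.polar_bilinear (w i) (w j) = 0 := by
    intro i j
    have e1 := hv (Sum.inl i) (Sum.inl j)
    have e2 := hv (Sum.inl i) (Sum.inr j)
    have e3 := hv (Sum.inr i) (Sum.inl j)
    have e4 := hv (Sum.inr i) (Sum.inr j)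
    rw [if_neg (by simp)] at e2 e3
    show toBilin hQ.polar_bilinear (v (Sum.inl i) + v (Sum.inr i)) (v (Sum.inl j) + v (Sum.inr j)) = 0
    rw [LinearMap.BilinForm.add_left, LinearMap.BilinForm.add_right, LinearMap.BilinForm.add_right, e1, e2, e3, e4]
    by_cases h : i = j
    · subst h; simp [c]
    · rw [if_neg (by simpa using h), if_neg (by simpa using h)]; ring
  have hli : LinearIndependent F w := by
    rw [Fintype.linearIndependent_iff]
    intro g hg i
    have h1 : ∑ k, (Sum.elim g g : Fin m ⊕ Fin m → F) k • v k = 0 := by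
      rw [Fintype.sum_sum_type]
      simp only [Sum.elim_inl, Sum.elim_inr]
      rw [← Finset.sum_add_distrib, ← hg]
      exact Finset.sum_congr rfl fun k _ => (smul_add _ _ _).symm
    have h2 := Fintype.linearIndependent_iff.1 v.linearIndependent _ h1 (Sum.inl i)
    exact h2
  refine ⟨Submodule.span F (Set.range w), le_top, ?_, ?_⟩
  · intro u hu
    obtain ⟨x, rfl⟩ := (Submodule.mem_span_range_iff_exists_fun F).1 hu
    have h3 : toBilin hQ.polar_bilinear (∑ i, x i • w i) (∑ i, x i • w i) = 0 := by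
      rw [LinearMap.BilinForm.sum_left]
      refine Finset.sum_eq_zero fun i _ => ?_
      rw [LinearMap.BilinForm.sum_right]
      refine Finset.sum_eq_zero fun j _ => ?_
      rw [LinearMap.BilinForm.smul_left, LinearMap.BilinForm.smul_right, hw, mul_zero, mul_zero]
    have h4 : polar Q (∑ i, x i • w i) (∑ i, x i • w i) = 0 := h3
    rw [polar_self_two hQ] at h4
    exact (mul_eq_zero.1 h4).resolve_left h2
  · rw [finrank_span_eq_card hli, finrank_top, Module.finrank_fintype_fun_eq_card, Fintype.card_fin, hm]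

/-- An even number of isometric members with `-1` a square: plus type (odd characteristic). -/
theorem plus_of_isometric_square [Finite F] {Q : (ι → F) → F} (hQ : IsNondegenerateQuadraticForm Q)
    (h2 : (2 : F) ≠ 0) {t k : ℕ} (ht : Even t) {D : Fin t → Submodule F (ι → F)}
    (hD : IsOrthogonalMDecomposition Q k D) (hsq : IsSquare (-1 : F)) : IsPlusTypeOn Q ⊤ := by
  have ht2 := hD.decomp.decomp.two_le
  have hcard := Cfsg.Agent.H922.mul_eq_card hD.decomp.decomp
  obtain ⟨u, rfl⟩ := ht
  let i₀ : Fin (u + u) := ⟨0, by omega⟩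
  obtain ⟨B, hB⟩ := H925.det_isometric hQ hD i₀ (Module.finBasisOfFinrankEq F (D i₀) (hD.decomp.decomp.finrank_eq i₀))
  obtain ⟨i, hi⟩ := hsq
  have hi0 : i ≠ 0 := by
    rintro rfl
    rw [mul_zero] at hi
    exact one_ne_zero (neg_eq_zero.1 hi)
  refine plus_of_det hQ h2 (m := u * k) (by rw [← hcard]; ring) B
    (s := (LinearMap.BilinForm.toMatrix (Module.finBasisOfFinrankEq F (D i₀) (hD.decomp.decomp.finrank_eq i₀))
      (resBilin hQ.polar_bilinear (D i₀))).det ^ u * (i ^ (u * k))⁻¹) ?_
  rw [hB]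
  set d := (LinearMap.BilinForm.toMatrix (Module.finBasisOfFinrankEq F (D i₀) (hD.decomp.decomp.finrank_eq i₀))
      (resBilin hQ.polar_bilinear (D i₀))).det
  have h3 : (i ^ (u * k)) ^ 2 = (-1) ^ (u * k) := by rw [hi, ← pow_mul, mul_comm (u * k) 2, pow_mul, pow_two]
  rw [mul_pow, inv_pow, h3]
  have h4 : ((-1 : F) ^ (u * k)) ≠ 0 := pow_ne_zero _ (neg_ne_zero.2 one_ne_zero)
  field_simp
  rw [← pow_mul, mul_two]

/-- If `-1` is not a square, every element or its negative is a square. -/
theorem isSquare_or_neg [Finite F] (h : ¬ IsSquare (-1 : F)) (a : F) : IsSquare a ∨ IsSquare (-a) := by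
  classical
  have := Fintype.ofFinite F
  by_cases ha : IsSquare a
  · exact Or.inl ha
  · right
    have h2 : ringChar F ≠ 2 := by
      intro h2
      exact h ((FiniteField.isSquare_of_char_two h2) _)
    have e1 := quadraticChar_neg_one_iff_not_isSquare.2 h
    have e2 := quadraticChar_neg_one_iff_not_isSquare.2 ha
    have h0 : -a ≠ 0 := by
      intro h0
      apply ha
      rw [neg_eq_zero.1 h0]
      exact ⟨0, by ring⟩
    have e3 : quadraticChar F (-a) = 1 := by
      rw [show -a = -1 * a by ring, map_mul, e1, e2]; norm_num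
    exact (quadraticChar_one_iff_isSquare h0).1 e3

/-- Minus type, dimension `2 m`, `m` odd, `-1` not a square: the members of an orthogonal decomposition into two
`m`-spaces are isometric. -/
theorem isometric_of_minus [Finite F] {Q : (ι → F) → F} (hQ : IsNondegenerateQuadraticForm Q) (h2 : (2 : F) ≠ 0)
    (hminus : ¬ IsPlusTypeOn Q ⊤) {m : ℕ} (hm : Odd m) (hn : Fintype.card ι = 2 * m)
    {D : Fin 2 → Submodule F (ι → F)} (hD : IsNondegenerateMDecomposition (polar Q) m D)
    (hsq : ¬ IsSquare (-1 : F)) : AreIsometricFor Q (D 0) (D 1) := by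
  let b : ∀ i, Module.Basis (Fin m) F (D i) := fun i =>
    Module.finBasisOfFinrankEq F (D i) (hD.decomp.finrank_eq i)
  obtain ⟨B, hB⟩ := H925.det_decomp hQ hD b
  rw [Fin.prod_univ_two] at hB
  have h0 := H925.det_ne_zero_on hQ (hD.nondegenerate 0) (b 0)
  set d0 := (LinearMap.BilinForm.toMatrix (b 0) (resBilin hQ.polar_bilinear (D 0))).det with hd0
  set d1 := (LinearMap.BilinForm.toMatrix (b 1) (resBilin hQ.polar_bilinear (D 1))).det with hd1
  have hs : IsSquare (d0 * d1) := by
    rcases isSquare_or_neg hsq (d0 * d1) with h | ⟨s, hs⟩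
    · exact h
    · exfalso
      refine hminus (plus_of_det hQ h2 hn B (s := s) ?_)
      rw [hB, hm.neg_one_pow]
      linear_combination -hs
  obtain ⟨s, hs⟩ := hs
  refine H925.isometric_of_det hQ h2 (hD.nondegenerate 0) (hD.nondegenerate 1) (b 0) (b 1) (s := s / d0) ?_
  rw [← hd0, ← hd1]
  field_simp
  linear_combination hs

/-- A member of plus type forces plus type. -/
theorem plus_of_member_plus [Finite F] {Q : (ι → F) → F} (hQ : IsNondegenerateQuadraticForm Q)
    {t k : ℕ} {D : Fin t → Submodule F (ι → F)}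
    (hD : IsOrthogonalMDecomposition Q k D) (i₀ : Fin t) (hp : IsPlusTypeOn Q (D i₀)) : IsPlusTypeOn Q ⊤ := by
  classical
  obtain ⟨U, hUD, hU, hUd⟩ := hp
  obtain ⟨Φ, hΦQ, -⟩ := H925.exists_power_iso hQ hD i₀
  have hcard := Cfsg.Agent.H922.mul_eq_card hD.decomp.decomp
  have hk := hD.decomp.decomp.finrank_eq i₀
  let L : (Fin t → U) →ₗ[F] (ι → F) :=
    Φ.toLinearMap ∘ₗ (LinearMap.pi fun i => Submodule.inclusion hUD ∘ₗ LinearMap.proj i)
  have hL : ∀ x, L x = Φ (fun i => Submodule.inclusion hUD (x i)) := fun x => rfl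
  have hinj : Function.Injective L := by
    intro x y h
    rw [hL, hL] at h
    have h1 := Φ.injective h
    funext i
    exact Submodule.inclusion_injective hUD (congrFun h1 i)
  refine ⟨LinearMap.range L, le_top, ?_, ?_⟩
  · rintro _ ⟨x, rfl⟩
    rw [hL, hΦQ]
    exact Finset.sum_eq_zero fun i _ => hU _ (x i).2
  · rw [LinearMap.finrank_range_of_inj hinj, Module.finrank_pi_fintype, Finset.sum_const, Finset.card_univ,
      Fintype.card_fin, finrank_top, Module.finrank_fintype_fun_eq_card, ← hcard, ← hk, ← hUd, smul_eq_mul]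
    ring

/-- Isometric subspaces have the same type. -/
theorem plus_of_isometric {Q : (ι → F) → F} {W W' : Submodule F (ι → F)} (h : AreIsometricFor Q W W')
    (hp : IsPlusTypeOn Q W) : IsPlusTypeOn Q W' := by
  obtain ⟨e, he⟩ := h
  obtain ⟨U, hUW, hU, hUd⟩ := hp
  let U₁ : Submodule F W := U.comap W.subtype
  have hU₁d : Module.finrank F U₁ = Module.finrank F U := (Submodule.comapSubtypeEquivOfLe hUW).finrank_eq
  have hinj : Function.Injective (W'.subtype ∘ₗ e.toLinearMap) :=
    W'.injective_subtype.comp e.injective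
  refine ⟨U₁.map (W'.subtype ∘ₗ e.toLinearMap), ?_, ?_, ?_⟩
  · rintro _ ⟨x, _, rfl⟩
    exact (e x).2
  · rintro _ ⟨x, hx, rfl⟩
    show Q ((e x : W') : ι → F) = 0
    rw [he]
    exact hU _ hx
  · rw [← (Submodule.equivMapOfInjective _ hinj U₁).finrank_eq, hU₁d, hUd, e.finrank_eq]

end Cfsg.Agent.H926
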