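import Mathlib

/-!
# Arithmetic of `(q^n - 1) / ((q - 1) gcd(n, q - 1))`, `n` an odd prime
-/

set_option autoImplicit false

namespace Cfsg.Agent.H926.Cc

section

variable {n q d : ℕ}

theorem dvd_pow_sub_one (hd : d * ((q - 1) * Nat.gcd n (q - 1)) = q ^ n - 1) : d ∣ q ^ n - 1 :=
  ⟨_, hd.symm⟩

theorem gcd_pos' (hn : n.Prime) : 0 < Nat.gcd n (q - 1) := Nat.gcd_pos_of_pos_left _ hn.pos

theorem one_lt_pow' (hn : n.Prime) (hq : 2 ≤ q) : 1 < q ^ n := Nat.one_lt_pow hn.ne_zero (by omega)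

theorem d_pos (hn : n.Prime) (hq : 2 ≤ q) (hd : d * ((q - 1) * Nat.gcd n (q - 1)) = q ^ n - 1) :
    0 < d := by
  have h1 := one_lt_pow' hn hq
  rcases Nat.eq_zero_or_pos d with rfl | h
  · rw [zero_mul] at hd; omega
  · exact h

/-- existence of `d` -/
theorem exists_d (hn : n.Prime) (hq : 2 ≤ q) : ∃ d, d * ((q - 1) * Nat.gcd n (q - 1)) = q ^ n - 1 := by
  have h1 : (q - 1) * (∑ i ∈ Finset.range n, q ^ i) = q ^ n - 1 := by
    rw [Nat.geomSum_eq hq]
    exact Nat.mul_div_cancel' (by simpa using Nat.sub_dvd_pow_sub_pow q 1 n)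
  have h2 : Nat.gcd n (q - 1) ∣ ∑ i ∈ Finset.range n, q ^ i := by
    rcases (Nat.dvd_prime hn).1 (Nat.gcd_dvd_left n (q - 1)) with h | h
    · rw [h]; exact one_dvd _
    · rw [h]
      have h3 : n ∣ q - 1 := by rw [← h]; exact Nat.gcd_dvd_right _ _
      rw [← ZMod.natCast_eq_zero_iff]
      have h4 : ((q : ℕ) : ZMod n) = 1 := by
        have h6 : ((q - 1 : ℕ) : ZMod n) = 0 := (ZMod.natCast_eq_zero_iff _ _).2 h3
        rw [Nat.cast_sub (by omega), Nat.cast_one, sub_eq_zero] at h6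
        exact h6
      push_cast
      rw [h4]
      simp
  obtain ⟨d, hd⟩ := h2
  exact ⟨d, by rw [← h1, hd]; ring⟩

/-- The prime `n` does not divide `d`. -/
theorem not_dvd (hn : n.Prime) (h3 : 3 ≤ n) (hq : 2 ≤ q)
    (hd : d * ((q - 1) * Nat.gcd n (q - 1)) = q ^ n - 1) : ¬ n ∣ d := by
  intro hnd
  have : Fact n.Prime := ⟨hn⟩
  have hodd : Odd n := hn.odd_of_ne_two (by omega)
  have hd0 := d_pos hn hq hd
  have h1 := one_lt_pow' hn hq
  -- `n ∣ q - 1`
  have h2 : ((q : ℕ) : ZMod n) ^ n = 1 := by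
    have h3 : n ∣ q ^ n - 1 := hnd.trans (dvd_pow_sub_one hd)
    have h4 : ((q ^ n - 1 : ℕ) : ZMod n) = 0 := (ZMod.natCast_eq_zero_iff _ _).2 h3
    rw [Nat.cast_sub h1.le, Nat.cast_pow, Nat.cast_one, sub_eq_zero] at h4
    exact h4
  rw [ZMod.pow_card] at h2
  have hq1 : n ∣ q - 1 := by
    rw [← ZMod.natCast_eq_zero_iff, Nat.cast_sub (by omega), h2, Nat.cast_one, sub_self]
  have hnq : ¬ n ∣ q := by
    intro h
    have h4 : ((q : ℕ) : ZMod n) = 0 := (ZMod.natCast_eq_zero_iff _ _).2 h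
    rw [h4] at h2
    exact zero_ne_one h2
  have hg : Nat.gcd n (q - 1) = n := Nat.gcd_eq_left hq1
  have hv := padicValNat.pow_sub_pow (p := n) hodd (x := q) (y := 1) (by omega) hq1 hnq hn.ne_zero
  rw [one_pow, padicValNat_self, ← hd, hg, padicValNat.mul hd0.ne' (by
      have : 0 < q - 1 := by omega
      exact (Nat.mul_pos this hn.pos).ne'), padicValNat.mul (by omega) hn.ne_zero,
    padicValNat_self] at hv
  have h5 : 1 ≤ padicValNat n d := one_le_padicValNat_of_dvd hd0.ne' hnd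
  omega

theorem geom (_hn : n.Prime) (hq : 2 ≤ q) (hd : d * ((q - 1) * Nat.gcd n (q - 1)) = q ^ n - 1) :
    d * Nat.gcd n (q - 1) = ∑ i ∈ Finset.range n, q ^ i := by
  rw [Nat.geomSum_eq hq, ← hd]
  have h5 : d * ((q - 1) * Nat.gcd n (q - 1)) = (d * Nat.gcd n (q - 1)) * (q - 1) := by ring
  rw [h5, Nat.mul_div_cancel _ (by omega)]

theorem not_dvd_sub_one (hn : n.Prime) (h3 : 3 ≤ n) (hq : 2 ≤ q)
    (hd : d * ((q - 1) * Nat.gcd n (q - 1)) = q ^ n - 1) {s : ℕ} (hs : s.Prime) (hsd : s ∣ d) :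
    ¬ s ∣ q - 1 := by
  intro h4
  have : Fact s.Prime := ⟨hs⟩
  have hq1 : ((q : ℕ) : ZMod s) = 1 := by
    have h6 : ((q - 1 : ℕ) : ZMod s) = 0 := (ZMod.natCast_eq_zero_iff _ _).2 h4
    rw [Nat.cast_sub (by omega), Nat.cast_one, sub_eq_zero] at h6
    exact h6
  have h5 : ((d * Nat.gcd n (q - 1) : ℕ) : ZMod s) = 0 :=
    (ZMod.natCast_eq_zero_iff _ _).2 (hsd.mul_right _)
  rw [geom hn hq hd] at h5
  push_cast at h5
  rw [hq1] at h5
  simp only [one_pow, Finset.sum_const, Finset.card_range, nsmul_eq_mul, mul_one] at h5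
  have h6 : s ∣ n := (ZMod.natCast_eq_zero_iff _ _).1 h5
  have h7 : s = n := (Nat.prime_dvd_prime_iff_eq hs hn).1 h6
  rw [h7] at hsd
  exact not_dvd hn h3 hq hd hsd

theorem coprime_mul (hn : n.Prime) (h3 : 3 ≤ n) (hq : 2 ≤ q)
    (hd : d * ((q - 1) * Nat.gcd n (q - 1)) = q ^ n - 1) : Nat.Coprime d (n * (q - 1)) := by
  apply Nat.Coprime.mul_right
  · rw [Nat.coprime_comm, hn.coprime_iff_not_dvd]
    exact not_dvd hn h3 hq hd
  · rw [Nat.coprime_iff_gcd_eq_one]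
    by_contra hne
    obtain ⟨s, hs, hsd⟩ := Nat.exists_prime_and_dvd hne
    exact not_dvd_sub_one hn h3 hq hd hs (hsd.trans (Nat.gcd_dvd_left _ _))
      (hsd.trans (Nat.gcd_dvd_right _ _))

theorem prime_mod (hn : n.Prime) (h3 : 3 ≤ n) (hq : 2 ≤ q)
    (hd : d * ((q - 1) * Nat.gcd n (q - 1)) = q ^ n - 1) {s : ℕ} (hs : s.Prime) (hsd : s ∣ d) :
    s % n = 1 := by
  have : Fact s.Prime := ⟨hs⟩
  have h1 := one_lt_pow' hn hq
  have h2 : ((q : ℕ) : ZMod s) ^ n = 1 := by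
    have h3 : s ∣ q ^ n - 1 := hsd.trans (dvd_pow_sub_one hd)
    have h4 : ((q ^ n - 1 : ℕ) : ZMod s) = 0 := (ZMod.natCast_eq_zero_iff _ _).2 h3
    rw [Nat.cast_sub h1.le, Nat.cast_pow, Nat.cast_one, sub_eq_zero] at h4
    exact h4
  have hq0 : ((q : ℕ) : ZMod s) ≠ 0 := by
    intro h
    rw [h, zero_pow hn.ne_zero] at h2
    exact zero_ne_one h2
  rcases (Nat.dvd_prime hn).1 (orderOf_dvd_of_pow_eq_one h2) with h4 | h4
  · exfalso
    rw [orderOf_eq_one_iff] at h4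
    apply not_dvd_sub_one hn h3 hq hd hs hsd
    rw [← ZMod.natCast_eq_zero_iff, Nat.cast_sub (by omega), h4, Nat.cast_one, sub_self]
  · have h5 : orderOf ((q : ℕ) : ZMod s) ∣ s - 1 := ZMod.orderOf_dvd_card_sub_one hq0
    rw [h4] at h5
    obtain ⟨k, hk⟩ := h5
    have h6 := hs.two_le
    have h7 : s = 1 + n * k := by omega
    rw [h7, Nat.add_mul_mod_self_left, Nat.mod_eq_of_lt (by omega)]

theorem prime_gt (hn : n.Prime) (h3 : 3 ≤ n) (hq : 2 ≤ q)
    (hd : d * ((q - 1) * Nat.gcd n (q - 1)) = q ^ n - 1) {s : ℕ} (hs : s.Prime) (hsd : s ∣ d) :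
    n < s := by
  have h1 := prime_mod hn h3 hq hd hs hsd
  have h2 := hs.two_le
  by_contra h
  rcases Nat.lt_or_ge s n with h4 | h4
  · rw [Nat.mod_eq_of_lt h4] at h1; omega
  · have : s = n := by omega
    rw [this, Nat.mod_self] at h1
    omega

theorem sq_lt_two_pow (h5 : 5 ≤ n) : n ^ 2 + 1 ≤ 2 ^ n := by
  induction n, h5 using Nat.le_induction with
  | base => norm_num
  | succ k hk ih =>
    rw [pow_succ 2 k]
    nlinarith

theorem sq_lt_three_pow (h5 : 5 ≤ n) : 2 * n ^ 2 + 1 ≤ 3 ^ n := by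
  induction n, h5 using Nat.le_induction with
  | base => norm_num
  | succ k hk ih =>
    rw [pow_succ 3 k]
    nlinarith

theorem sq_lt_four_pow (h5 : 5 ≤ n) : n ^ 2 ≤ 4 ^ (n - 2) := by
  induction n, h5 using Nat.le_induction with
  | base => norm_num
  | succ k hk ih =>
    have : k + 1 - 2 = (k - 2) + 1 := by omega
    rw [this, pow_succ 4]
    nlinarith

theorem sq_le (hn : n.Prime) (h5 : 5 ≤ n) (hq : 2 ≤ q)
    (hd : d * ((q - 1) * Nat.gcd n (q - 1)) = q ^ n - 1) : n ^ 2 ≤ d := by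
  rcases Nat.lt_or_ge q 4 with h4 | h4
  · interval_cases q
    · have h1 := sq_lt_two_pow h5
      simp only [Nat.reduceSub, Nat.gcd_one_right, mul_one] at hd
      omega
    · have h1 := sq_lt_three_pow h5
      have h2 : Nat.gcd n 2 = 1 := by
        rw [Nat.gcd_comm]
        exact (Nat.coprime_primes Nat.prime_two hn).2 (by omega)
      simp only [Nat.reduceSub, h2, mul_one] at hd
      omega
  · have hg : Nat.gcd n (q - 1) ≤ q - 1 := Nat.gcd_le_right _ (by omega)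
    have h1 : q ^ n - 1 ≤ d * ((q - 1) * (q - 1)) := by
      rw [← hd]
      exact Nat.mul_le_mul_left _ (Nat.mul_le_mul_left _ hg)
    have h2 : q ^ (n - 2) * ((q - 1) * (q - 1)) ≤ q ^ n - 1 := by
      have h3 : q ^ n = q ^ (n - 2) * (q * q) := by
        rw [← sq, ← pow_add]
        congr 1
        omega
      have h4' : 1 ≤ q ^ (n - 2) := Nat.one_le_pow _ _ (by omega)
      obtain ⟨k, rfl⟩ : ∃ k, q = k + 1 := ⟨q - 1, by omega⟩
      rw [h3, Nat.add_sub_cancel]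
      have : (k + 1) ^ (n - 2) * (k * k) + 1 ≤ (k + 1) ^ (n - 2) * ((k + 1) * (k + 1)) := by
        nlinarith
      omega
    have h3 : q ^ (n - 2) ≤ d := by
      have h6 : 0 < (q - 1) * (q - 1) := Nat.mul_pos (by omega) (by omega)
      exact Nat.le_of_mul_le_mul_right (h2.trans h1) h6
    calc n ^ 2 ≤ 4 ^ (n - 2) := sq_lt_four_pow h5
      _ ≤ q ^ (n - 2) := Nat.pow_le_pow_left h4 _
      _ ≤ d := h3

end

end Cfsg.Agent.H926.Cc
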