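import Cfsg.Agent.H873.Tv
import Cfsg.Agent.H926.CcExcl
import Cfsg.Agent.H926.CcNum

/-!
# The Singer torus of `SL_n(q)`, `n` prime: orders, root property
-/

set_option autoImplicit false

namespace Cfsg.Agent.H926.Cc

open Module Matrix Cfsg.Geo
open scoped Matrix MatrixGroups

/-- The fixed points of the Frobenius map. -/
theorem exists_of_pow_card_eq {F K : Type*} [Field F] [Finite F] [Field K] (i : F →+* K) {x : K}
    (hx : x ^ Nat.card F = x) : ∃ a : F, x = i a := by
  let _ : Fintype F := Fintype.ofFinite F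
  rw [Nat.card_eq_fintype_card] at hx
  have hdeg : (Polynomial.X ^ Fintype.card F - Polynomial.X : Polynomial F).natDegree = Fintype.card F :=
    FiniteField.X_pow_card_sub_X_natDegree_eq F Fintype.one_lt_card
  have hmon : (Polynomial.X ^ Fintype.card F - Polynomial.X : Polynomial F).Monic :=
    Polynomial.monic_X_pow_sub (by rw [Polynomial.degree_X]; exact_mod_cast Fintype.one_lt_card)
  have h1 : (Polynomial.X ^ Fintype.card F - Polynomial.X : Polynomial F) =
      ∏ a : F, (Polynomial.X - Polynomial.C a) := by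
    have h3 := Polynomial.prod_multiset_X_sub_C_of_monic_of_roots_card_eq hmon (by
      rw [FiniteField.roots_X_pow_card_sub_X, hdeg]
      rfl)
    rw [FiniteField.roots_X_pow_card_sub_X] at h3
    exact h3.symm
  have h2 : Polynomial.eval₂ i x (Polynomial.X ^ Fintype.card F - Polynomial.X) = 0 := by
    rw [Polynomial.eval₂_sub, Polynomial.eval₂_pow, Polynomial.eval₂_X, hx, sub_self]
  rw [h1, Polynomial.eval₂_finsetProd, Finset.prod_eq_zero_iff] at h2
  obtain ⟨a, -, ha⟩ := h2
  rw [Polynomial.eval₂_sub, Polynomial.eval₂_X, Polynomial.eval₂_C, sub_eq_zero] at ha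
  exact ⟨a, ha⟩

variable {ι : Type} [Fintype ι] [DecidableEq ι] {F : Type*} [Field F] {E : Type*} [Field E]
  [Algebra F E] [Finite F] [FiniteDimensional F E]

omit [FiniteDimensional F E] in
theorem exists_of_pow_eq_one {x : E} (hx : x ^ (Nat.card F - 1) = 1) : ∃ a : F, x = algebraMap F E a := by
  apply exists_of_pow_card_eq
  have h1 : 1 ≤ Nat.card F := Nat.card_pos
  calc x ^ Nat.card F = x ^ (Nat.card F - 1 + 1) := by rw [Nat.sub_add_cancel h1]
    _ = x := by rw [pow_succ, hx, one_mul]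

omit [Finite F] in
theorem card_E : Nat.card E = Nat.card F ^ finrank F E := Module.natCard_eq_pow_finrank

/-- The norm-one group. -/
noncomputable def U1 (F E : Type*) [Field F] [Field E] [Algebra F E] : Subgroup Eˣ :=
  (Units.map (Algebra.norm F : E →* F)).ker

omit [Finite F] [FiniteDimensional F E] in
theorem mem_U1 {u : Eˣ} : u ∈ U1 F E ↔ Algebra.norm F (u : E) = 1 := by
  rw [U1, MonoidHom.mem_ker, Units.ext_iff]
  rfl

omit [FiniteDimensional F E] in
theorem pow_card_sub_one (c : F) (hc : c ≠ 0) : c ^ (Nat.card F - 1) = 1 := by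
  let _ : Fintype F := Fintype.ofFinite F
  rw [Nat.card_eq_fintype_card]
  exact FiniteField.pow_card_sub_one_eq_one c hc

theorem card_U1 : Nat.card (U1 F E) * (Nat.card F - 1) = Nat.card F ^ finrank F E - 1 := by
  have : Finite E := Module.finite_of_finite F
  have h1 := (U1 F E).card_mul_index
  have h2 : (U1 F E).index = Nat.card F - 1 := by
    rw [U1, Subgroup.index_ker, MonoidHom.range_eq_top.2 (FiniteField.unitsMap_norm_surjective F E),
      Subgroup.card_top, Nat.card_units]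
  rw [h2, Nat.card_units, card_E (F := F) (E := E)] at h1
  exact h1

/-- Norm one elements with `n`-th power in `F`. -/
theorem root_aux (hp : (finrank F E).Prime) (h3 : 3 ≤ finrank F E) {a : E}
    (ha : Algebra.norm F a = 1) (hroot : ∃ c : F, a ^ finrank F E = algebraMap F E c) :
    ∃ c : F, a = algebraMap F E c := by
  have : Finite E := Module.finite_of_finite F
  set n := finrank F E with hn
  set q := Nat.card F with hq
  have hq2 : 2 ≤ q := Finite.one_lt_card
  have ha0 : a ≠ 0 := by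
    rintro rfl
    rw [Algebra.norm_zero] at ha
    exact zero_ne_one ha
  obtain ⟨c, hc⟩ := hroot
  have hc0 : c ≠ 0 := by
    rintro rfl
    rw [map_zero] at hc
    exact ha0 (pow_eq_zero_iff hp.ne_zero |>.1 hc)
  have h1 : a ^ (n * (q - 1)) = 1 := by
    rw [pow_mul, hc, ← map_pow, pow_card_sub_one c hc0, map_one]
  -- the norm
  have h2 : a ^ (∑ i ∈ Finset.range n, q ^ i) = 1 := by
    have h4 := FiniteField.algebraMap_norm_eq_pow (K := F) (x := a)
    rw [ha, map_one, card_E (F := F), ← Nat.geomSum_eq hq2] at h4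
    exact h4.symm
  obtain ⟨d, hd⟩ : ∃ d, d * ((q - 1) * Nat.gcd n (q - 1)) = q ^ n - 1 := exists_d hp hq2
  rw [← geom hp hq2 hd] at h2
  have hcop := coprime_mul hp h3 hq2 hd
  have h5 : Nat.Coprime (orderOf a) d :=
    (Nat.Coprime.coprime_dvd_right (orderOf_dvd_of_pow_eq_one h1) hcop).symm
  have h6 : orderOf a ∣ Nat.gcd n (q - 1) :=
    h5.dvd_of_dvd_mul_left (orderOf_dvd_of_pow_eq_one h2)
  exact exists_of_pow_eq_one (orderOf_dvd_iff_pow_eq_one.1 (h6.trans (Nat.gcd_dvd_right _ _)))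

/-- The matrix of a unit. -/
def toGLE (φ : E →ₐ[F] Matrix ι ι F) : Eˣ →* GL ι F := Units.map (φ : E →* Matrix ι ι F)

omit [Finite F] [FiniteDimensional F E] in
theorem coe_toGLE (φ : E →ₐ[F] Matrix ι ι F) (u : Eˣ) : ((toGLE φ u : GL ι F) : Matrix ι ι F) = φ u := rfl

section SL

variable [Nonempty ι] {φ : E →ₐ[F] Matrix ι ι F} {L : Subgroup (GL ι F)}

omit [Nonempty ι] in
theorem norm_eq_one (hfr : finrank F E = Fintype.card ι) {g : GL ι F} {a : E}
    (h : (g : Matrix ι ι F) = φ a) : g ∈ specialLinear ι F ↔ Algebra.norm F a = 1 := by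
  rw [Cfsg.Agent.H873.mem_specialLinear_iff, h, det_phi φ hfr]

/-- Root property for subgroups of `SL_n`. -/
theorem rootProp_SL (hp : (finrank F E).Prime) (h3 : 3 ≤ finrank F E)
    (hfr : finrank F E = Fintype.card ι) (hL : L ≤ specialLinear ι F) : RootProp φ L := by
  intro g hg a hga hc
  rw [← hfr] at hc
  exact root_aux hp h3 ((norm_eq_one hfr hga).1 (hL hg)) hc

theorem range_eq_Cs (hfr : finrank F E = Fintype.card ι) (hL : L ≤ specialLinear ι F)
    (hU : ∀ u ∈ U1 F E, toGLE φ u ∈ L) :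
    (((toGLE φ).comp (U1 F E).subtype).codRestrict L fun u => hU u u.2).range = Cs φ L := by
  ext g
  rw [mem_Cs]
  constructor
  · rintro ⟨u, rfl⟩
    exact ⟨((u : Eˣ) : E), rfl⟩
  · rintro ⟨a, ha⟩
    have ha0 := phi_ne_zero φ _ ha
    have h1 : Units.mk0 a ha0 ∈ U1 F E := mem_U1.2 ((norm_eq_one hfr ha).1 (hL g.2))
    refine ⟨⟨Units.mk0 a ha0, h1⟩, ?_⟩
    apply Subtype.ext
    apply Units.ext
    exact ha.symm

theorem card_Cs (hfr : finrank F E = Fintype.card ι) (hL : L ≤ specialLinear ι F)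
    (hU : ∀ u ∈ U1 F E, toGLE φ u ∈ L) :
    Nat.card (Cs φ L) * (Nat.card F - 1) = Nat.card F ^ finrank F E - 1 := by
  rw [← card_U1 (F := F) (E := E), ← range_eq_Cs hfr hL hU]
  congr 1
  refine (Nat.card_congr (MonoidHom.ofInjective (f := ((toGLE φ).comp (U1 F E).subtype).codRestrict L
    fun u => hU u u.2) ?_).toEquiv).symm
  intro u v huv
  apply Subtype.ext
  apply Units.ext
  apply φ.toRingHom.injective
  have h1 := congrArg (fun g : L => ((g : GL ι F) : Matrix ι ι F)) huv
  exact h1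

theorem isCyclic_Dq (hfr : finrank F E = Fintype.card ι) (hL : L ≤ specialLinear ι F)
    (hU : ∀ u ∈ U1 F E, toGLE φ u ∈ L) : IsCyclic (Dq φ L) := by
  have : Finite E := Module.finite_of_finite F
  have h1 : IsCyclic (((toGLE φ).comp (U1 F E).subtype).codRestrict L fun u => hU u u.2).range :=
    isCyclic_of_surjective _ (MonoidHom.rangeRestrict_surjective _)
  rw [range_eq_Cs hfr hL hU] at h1
  exact isCyclic_of_surjective ((QuotientGroup.mk' (Zs L)).subgroupMap (Cs φ L))
    ((QuotientGroup.mk' (Zs L)).subgroupMap_surjective (Cs φ L))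

/-- The scalars in `SL_n`. -/
theorem card_Zs (hL : L ≤ specialLinear ι F)
    (hZ : ∀ c : Fˣ, c ^ Fintype.card ι = 1 → ∃ g ∈ L, (g : Matrix ι ι F) = (c : F) • (1 : Matrix ι ι F)) :
    Nat.card (Zs L) = Nat.gcd (Fintype.card ι) (Nat.card F - 1) := by
  have h1 := IsCyclic.card_powMonoidHom_ker (G := Fˣ) (Fintype.card ι)
  rw [Nat.card_units, Nat.gcd_comm] at h1
  rw [← h1]
  choose g hg hgc using hZ
  symm
  refine Nat.card_congr (Equiv.ofBijective (fun c : (powMonoidHom (Fintype.card ι) : Fˣ →* Fˣ).ker =>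
    (⟨⟨g c.1 c.2, hg c.1 c.2⟩, mem_Zs.2 ⟨c.1, hgc c.1 c.2⟩⟩ : Zs L)) ⟨?_, ?_⟩)
  · intro c d hcd
    have h2 : g c.1 c.2 = g d.1 d.2 := congrArg (fun z : Zs L => ((z : L) : GL ι F)) hcd
    have h3 : (c.1 : F) • (1 : Matrix ι ι F) = (d.1 : F) • (1 : Matrix ι ι F) := by
      rw [← hgc c.1 c.2, ← hgc d.1 d.2, h2]
    apply Subtype.ext
    apply Units.ext
    obtain ⟨i⟩ := ‹Nonempty ι›
    have h4 := congrFun (congrFun h3 i) i
    simpa using h4
  · intro z
    obtain ⟨c, hc⟩ := mem_Zs.1 z.2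
    have h2 : c ^ Fintype.card ι = 1 := by
      have h3 := (Cfsg.Agent.H873.mem_specialLinear_iff _).1 (hL (z : L).2)
      rw [hc, Matrix.det_smul, Matrix.det_one, mul_one] at h3
      exact Units.ext (by rw [Units.val_pow_eq_pow_val, h3]; rfl)
    refine ⟨⟨c, h2⟩, ?_⟩
    apply Subtype.ext
    apply Subtype.ext
    apply Units.ext
    show ((g c h2 : GL ι F) : Matrix ι ι F) = _
    rw [hgc, hc]

theorem card_Dq (hfr : finrank F E = Fintype.card ι) (hL : L ≤ specialLinear ι F)
    (hU : ∀ u ∈ U1 F E, toGLE φ u ∈ L) (hcZ : Nat.card (Zs L) = Nat.gcd (Fintype.card ι) (Nat.card F - 1)) :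
    Nat.card (Dq φ L) * ((Nat.card F - 1) * Nat.gcd (finrank F E) (Nat.card F - 1)) =
      Nat.card F ^ finrank F E - 1 := by
  rw [← card_Cs hfr hL hU, hfr, ← hcZ]
  have h1 : (Zs L).relIndex (Cs φ L) = Nat.card (Dq φ L) := by
    have := Subgroup.relIndex_ker (Cs φ L) (QuotientGroup.mk' (Zs L))
    rw [QuotientGroup.ker_mk'] at this
    exact this
  have h2 := Subgroup.relIndex_mul_relIndex ⊥ (Zs L) (Cs φ L) bot_le (Zs_le_Cs φ L)
  rw [Subgroup.relIndex_bot_left, Subgroup.relIndex_bot_left, h1] at h2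
  rw [← h2]
  ring

end SL

end Cfsg.Agent.H926.Cc
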