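import Cfsg.Agent.H926.CcSimple

/-!
# The order of a group with a CC subgroup
-/

set_option autoImplicit false

namespace Cfsg.Agent.H926.Cc

open Subgroup

variable {G : Type*} [Group G] {C : Subgroup G}

/-- A group with a nonnormal CC subgroup `C` of order prime to `n = |N(C) : C|` has order at least
`n |C| (|C| + 1)`. -/
theorem CC.card_ge [Finite G] (h : CC C) {n : ℕ} (hidx : C.relIndex (normalizer (C : Set G)) = n)
    (hcop : Nat.Coprime (Nat.card C) n) (hnn : ¬ C.Normal) :
    n * Nat.card C * (Nat.card C + 1) ≤ Nat.card G := by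
  set N := normalizer (C : Set G) with hN
  have hCN : C ≤ N := le_normalizer
  -- elements of `N` of order dividing `|C|` are in `C`
  have key : ∀ y ∈ N, y ^ Nat.card C = 1 → y ∈ C := by
    intro y hyN hy
    have : (C.subgroupOf N).Normal := normal_subgroupOf_of_le_normalizer le_rfl
    have h1 : y ^ n ∈ C := by
      have h2 := (C.subgroupOf N).pow_index_mem ⟨y, hyN⟩
      rw [mem_subgroupOf] at h2
      rw [← hidx]
      exact h2
    have h2 : orderOf y ∣ Nat.card C := orderOf_dvd_of_pow_eq_one hy
    have h3 : Nat.Coprime (orderOf y) n := Nat.Coprime.coprime_dvd_left h2 hcop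
    obtain ⟨m, hm⟩ := exists_pow_eq_self_of_coprime h3.symm
    rw [← hm]
    exact C.pow_mem h1 m
  obtain ⟨g, hg⟩ : ∃ g, g ∉ N := by
    by_contra hcon
    push Not at hcon
    exact hnn (normalizer_eq_top_iff.1 (eq_top_iff.2 fun x _ => hcon x))
  have hfree : ∀ x ∈ C, g⁻¹ * x * g ∈ N → x = 1 := by
    intro x hx hxg
    by_contra hx1
    have h1 : g⁻¹ * x * g ∈ C := by
      apply key _ hxg
      have h2 : (g⁻¹ * x * g) ^ Nat.card C = g⁻¹ * x ^ Nat.card C * g := by
        have := conj_pow (i := Nat.card C) (a := g⁻¹) (b := x)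
        rw [inv_inv] at this
        exact this
      have h3 : x ^ Nat.card C = 1 := by
        have := pow_card_eq_one' (x := (⟨x, hx⟩ : C))
        exact congrArg Subtype.val this
      rw [h2, h3, mul_one, inv_mul_cancel]
    apply hg
    refine h.mem_normalizer_of_conj h1 (x := g⁻¹ * x * g) ?_ ?_
    · intro h2
      apply hx1
      calc x = g * (g⁻¹ * x * g) * g⁻¹ := by group
        _ = 1 := by rw [h2]; group
    · have : g * (g⁻¹ * x * g) * g⁻¹ = x := by group
      rw [this]; exact hx
  have hX : Nat.card C + 1 ≤ Nat.card (G ⧸ N) := by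
    let _ : Fintype C := Fintype.ofFinite _
    let _ : Fintype (G ⧸ N) := Fintype.ofFinite _
    rw [Nat.card_eq_fintype_card, Nat.card_eq_fintype_card]
    refine Fintype.card_lt_of_injective_of_notMem (fun x : C => ((x * g : G) : G ⧸ N)) ?_
      (b := ((1 : G) : G ⧸ N)) ?_
    · intro x y hxy
      have h1 : (x * g : G)⁻¹ * (y * g) ∈ N := QuotientGroup.eq.1 hxy
      have h2 : g⁻¹ * ((x : G)⁻¹ * y) * g ∈ N := by
        have : g⁻¹ * ((x : G)⁻¹ * y) * g = (x * g : G)⁻¹ * (y * g) := by group
        rw [this]; exact h1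
      have h3 := hfree _ (C.mul_mem (C.inv_mem x.2) y.2) h2
      exact Subtype.ext (inv_mul_eq_one.1 h3)
    · rintro ⟨x, hx⟩
      have h1 : (x * g : G)⁻¹ * 1 ∈ N := QuotientGroup.eq.1 hx
      rw [mul_one] at h1
      have h2 : (x * g : G) ∈ N := by
        have := N.inv_mem h1
        rwa [inv_inv] at this
      apply hg
      have h3 : g = (x : G)⁻¹ * (x * g) := by group
      rw [h3]
      exact N.mul_mem (N.inv_mem (hCN x.2)) h2
  have hcN : Nat.card N = n * Nat.card C := by
    have := relIndex_mul_relIndex ⊥ C N bot_le hCN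
    rw [relIndex_bot_left, relIndex_bot_left, hidx] at this
    rw [← this, mul_comm]
  have hG : Nat.card G = Nat.card (G ⧸ N) * Nat.card N := card_eq_card_quotient_mul_card_subgroup N
  rw [hG, hcN, mul_comm]
  exact Nat.mul_le_mul_right _ hX

end Cfsg.Agent.H926.Cc
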