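import Cfsg.Agent.H926.EvenA
import Cfsg.Agent.H926.Sub2

/-!
# Rationality of the quadratic form from rationality of the polar form (helper926)

`quadRational_of_formRational` : `H` an irreducible group of isometries of `Q` inside `subfieldSubgroup F₀ P`,
`polar Q` is `F₀`-rational up to `ζ` on `P` ⇒ `ζ Q` is `F₀`-rational on `P`.  Every characteristic.
-/

set_option autoImplicit false
set_option linter.unusedSectionVars false

namespace Cfsg.Agent.H926

open QuadraticMap Matrix Cfsg.Geo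
open Cfsg.Agent.LieClassical.OrthCore Cfsg.Agent.LieClassical.OrthTrans Cfsg.Agent.LieClassical.OrthFinite

variable {ι : Type} [Fintype ι] [DecidableEq ι] {F : Type*} [Field F]

/-- Extension of an `F₀`-functional on the `F₀`-structure. -/
noncomputable def extFun (F₀ : Subfield F) (P : GL ι F) (φ : (ι → F₀) →ₗ[F₀] F₀) : (ι → F) →ₗ[F] F where
  toFun x := ∑ i, (φ (Pi.single i 1) : F) * (((P⁻¹ : GL ι F) : Matrix ι ι F) *ᵥ x) i
  map_add' x y := by
    rw [← Finset.sum_add_distrib]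
    refine Finset.sum_congr rfl fun i _ => ?_
    rw [Matrix.mulVec_add, Pi.add_apply, mul_add]
  map_smul' c x := by
    rw [RingHom.id_apply, smul_eq_mul, Finset.mul_sum]
    refine Finset.sum_congr rfl fun i _ => ?_
    rw [Matrix.mulVec_smul, Pi.smul_apply, smul_eq_mul]
    ring

theorem extFun_jmap (F₀ : Subfield F) (P : GL ι F) (φ : (ι → F₀) →ₗ[F₀] F₀) (u : ι → F₀) :
    extFun F₀ P φ (jmap F₀ P u) = (φ u : F) := by
  show ∑ i, (φ (Pi.single i 1) : F) * (((P⁻¹ : GL ι F) : Matrix ι ι F) *ᵥ (jmap F₀ P u)) i = _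
  have h1 : ((P⁻¹ : GL ι F) : Matrix ι ι F) *ᵥ (jmap F₀ P u) = fun i => (u i : F) := by
    unfold jmap
    rw [Matrix.mulVec_mulVec, ← Units.val_mul, inv_mul_cancel, Units.val_one, Matrix.one_mulVec]
  rw [h1]
  have h2 : φ u = ∑ i, φ (Pi.single i 1) * u i := by
    conv_lhs => rw [pi_eq_sum_univ' u]
    rw [map_sum]
    refine Finset.sum_congr rfl fun i _ => ?_
    rw [map_smul, smul_eq_mul, mul_comm]
  rw [h2]
  simp only [AddSubmonoidClass.coe_finsetSum, MulMemClass.coe_mul]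

theorem extFun_injective {F₀ : Subfield F} {P : GL ι F} {φ : (ι → F₀) →ₗ[F₀] F₀} (h : extFun F₀ P φ = 0) : φ = 0 := by
  refine LinearMap.ext fun u => Subtype.ext ?_
  rw [← extFun_jmap F₀ P φ, h]
  rfl

theorem jmap_span (F₀ : Subfield F) (P : GL ι F) (x : ι → F) : x ∈ Submodule.span F (Set.range (jmap F₀ P)) := by
  rw [exists_jmap_coord F₀ P x]
  exact Submodule.sum_mem _ fun i _ => Submodule.smul_mem _ _ (Submodule.subset_span ⟨_, rfl⟩)

theorem mulVec_jmap {F₀ : Subfield F} {P g : GL ι F} {g₀ : GL ι F₀} {c : Fˣ}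
    (h : ∀ i j, (((P⁻¹ * g * P : GL ι F) : Matrix ι ι F)) i j = (c : F) * ((g₀ : Matrix ι ι F₀) i j : F))
    (u : ι → F₀) : (g : Matrix ι ι F) *ᵥ (jmap F₀ P u) = (c : F) • jmap F₀ P ((g₀ : Matrix ι ι F₀) *ᵥ u) := by
  have h1 : (g : Matrix ι ι F) *ᵥ (jmap F₀ P u) =
      (P : Matrix ι ι F) *ᵥ (((P⁻¹ * g * P : GL ι F) : Matrix ι ι F) *ᵥ (fun i => (u i : F))) := by
    have h0 : g * P = P * (P⁻¹ * g * P) := by group
    unfold jmap
    rw [Matrix.mulVec_mulVec, Matrix.mulVec_mulVec, ← Units.val_mul, ← Units.val_mul, ← h0]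
  rw [h1]
  unfold jmap
  rw [← Matrix.mulVec_smul]
  congr 1
  funext i
  show ∑ j, ((P⁻¹ * g * P : GL ι F) : Matrix ι ι F) i j * (u j : F) =
    (c : F) * ((∑ j, (g₀ : Matrix ι ι F₀) i j * u j : F₀) : F)
  rw [AddSubmonoidClass.coe_finsetSum, Finset.mul_sum]
  refine Finset.sum_congr rfl fun j _ => ?_
  rw [h, MulMemClass.coe_mul, mul_assoc]

/-- **Rationality of the quadratic form from rationality of the polar form.** -/
theorem quadRational_of_formRational [Finite F] {Q : (ι → F) → F} (hQ : IsNondegenerateQuadraticForm Q)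
    (hn : 2 ≤ Fintype.card ι) {H : Subgroup (GL ι F)} (hH : H ≤ Cfsg.isometryGroup F Q)
    (hirr : ActsIrreducibly (matrixSet H)) {F₀ : Subfield F} {P : GL ι F} (hsub : H ≤ subfieldSubgroup F₀ P)
    {ζ : F} (hζ : ζ ≠ 0) (hR : IsFormRationalStructure (polar Q) F₀ ζ P) :
    IsQuadFormRationalStructure (fun v => ζ * Q v) F₀ P := by
  by_cases h2 : (2 : F) = 0
  swap
  · intro u hu
    have h := hR u u hu hu
    rw [polar_self_two hQ] at h
    have h3 : (2 : F)⁻¹ * (ζ * (2 * Q ((P : Matrix ι ι F) *ᵥ u))) ∈ F₀ :=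
      F₀.mul_mem (F₀.inv_mem (by rw [← one_add_one_eq_two]; exact F₀.add_mem F₀.one_mem F₀.one_mem)) h
    have h4 : (2 : F)⁻¹ * (ζ * (2 * Q ((P : Matrix ι ι F) *ᵥ u))) = ζ * Q ((P : Matrix ι ι F) *ᵥ u) := by
      field_simp
    rwa [h4] at h3
  have : Finite F₀ := inferInstance
  have h20 : (2 : F₀) = 0 := Subtype.ext h2
  have hRj : ∀ u v : ι → F₀, ζ * polar Q (jmap F₀ P u) (jmap F₀ P v) ∈ F₀ := fun u v =>
    hR _ _ (fun i => (u i).2) (fun i => (v i).2)
  -- `u, v` with nonzero polar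
  obtain ⟨u, v, huv⟩ : ∃ u v : ι → F₀, polar Q (jmap F₀ P u) (jmap F₀ P v) ≠ 0 := by
    by_contra hc
    push Not at hc
    have : Nonempty ι := Fintype.card_pos_iff.1 (by omega)
    obtain ⟨i⟩ := this
    have h0 : (Pi.single i 1 : ι → F) ≠ 0 := by
      intro h
      have := congrFun h i
      simp at this
    obtain ⟨y, hy⟩ := (hQ.nondegenerate _ h0).2
    apply hy
    have h3 : ∀ x y : ι → F, polar Q x y = 0 := by
      intro x y
      refine Submodule.span_induction (p := fun x _ => polar Q x y = 0) ?_ ?_ ?_ ?_ (jmap_span F₀ P x)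
      · rintro _ ⟨a, rfl⟩
        refine Submodule.span_induction (p := fun y _ => polar Q (jmap F₀ P a) y = 0) ?_ ?_ ?_ ?_ (jmap_span F₀ P y)
        · rintro _ ⟨b, rfl⟩
          exact hc a b
        · simpa using hQ.polar_bilinear.smul_right 0 (jmap F₀ P a) 0
        · intro x y _ _ hx hy
          rw [hQ.polar_bilinear.add_right, hx, hy, add_zero]
        · intro c x _ hx
          rw [hQ.polar_bilinear.smul_right, hx, mul_zero]
      · simpa using hQ.polar_bilinear.smul_left 0 0 y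
      · intro x z _ _ hx hz
        rw [hQ.polar_bilinear.add_left, hx, hz, add_zero]
      · intro c x _ hx
        rw [hQ.polar_bilinear.smul_left, hx, mul_zero]
    exact h3 _ _
  -- elements of `H` act on the `F₀`-structure
  have hact : ∀ g ∈ H, ∃ g₁ : Matrix ι ι F₀, ∀ w : ι → F₀,
      (g : Matrix ι ι F) *ᵥ (jmap F₀ P w) = jmap F₀ P (g₁ *ᵥ w) := by
    intro g hg
    obtain ⟨g₀, c, hgc⟩ := H925.mem_subfieldSubgroup_iff.1 (hsub hg)
    have hmul := mulVec_jmap hgc
    have h3 : polar Q (jmap F₀ P u) (jmap F₀ P v) =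
        (c : F) ^ 2 * polar Q (jmap F₀ P ((g₀ : Matrix ι ι F₀) *ᵥ u)) (jmap F₀ P ((g₀ : Matrix ι ι F₀) *ᵥ v)) := by
      rw [← polar_iso (hH hg), hmul, hmul, hQ.polar_bilinear.smul_left, hQ.polar_bilinear.smul_right]
      ring
    have hc2 : (c : F) ^ 2 ∈ F₀ := by
      have h4 := F₀.div_mem (hRj u v) (hRj ((g₀ : Matrix ι ι F₀) *ᵥ u) ((g₀ : Matrix ι ι F₀) *ᵥ v))
      have h5 : polar Q (jmap F₀ P ((g₀ : Matrix ι ι F₀) *ᵥ u)) (jmap F₀ P ((g₀ : Matrix ι ι F₀) *ᵥ v)) ≠ 0 := by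
        intro h0
        rw [h0, mul_zero] at h3
        exact huv h3
      rw [h3] at h4
      have h6 : ζ * ((c : F) ^ 2 * polar Q (jmap F₀ P ((g₀ : Matrix ι ι F₀) *ᵥ u))
          (jmap F₀ P ((g₀ : Matrix ι ι F₀) *ᵥ v))) /
          (ζ * polar Q (jmap F₀ P ((g₀ : Matrix ι ι F₀) *ᵥ u)) (jmap F₀ P ((g₀ : Matrix ι ι F₀) *ᵥ v))) =
          (c : F) ^ 2 := by field_simp
      rwa [h6] at h4
    obtain ⟨d, hd⟩ := exists_sq h20 (⟨(c : F) ^ 2, hc2⟩ : F₀)
    have hcd : (c : F) = d := by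
      have h4 : (d : F) ^ 2 = (c : F) ^ 2 := congrArg Subtype.val hd
      have h5 : ((c : F) - d) ^ 2 = 0 := by
        linear_combination h4 + ((c : F) ^ 2 - c * d) * h2
      exact sub_eq_zero.1 (pow_eq_zero_iff (two_ne_zero) |>.1 h5)
    refine ⟨d • (g₀ : Matrix ι ι F₀), fun w => ?_⟩
    rw [hmul, hcd, Matrix.smul_mulVec, jmap_smul]
  -- the `F₀`-subspace of vectors with rational value
  let T : Submodule F₀ (ι → F₀) :=
    { carrier := {w | ζ * Q (jmap F₀ P w) ∈ F₀}
      add_mem' := by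
        intro a b ha hb
        show ζ * Q (jmap F₀ P (a + b)) ∈ F₀
        rw [jmap_add, Q_add' Q, mul_add, mul_add]
        exact F₀.add_mem (F₀.add_mem ha hb) (hRj a b)
      zero_mem' := by
        show ζ * Q (jmap F₀ P 0) ∈ F₀
        have : jmap F₀ P 0 = 0 := by
          unfold jmap
          simp only [Pi.zero_apply, ZeroMemClass.coe_zero]
          exact Matrix.mulVec_zero _
        rw [this, Q_zero hQ, mul_zero]
        exact F₀.zero_mem
      smul_mem' := by
        intro c a ha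
        show ζ * Q (jmap F₀ P (c • a)) ∈ F₀
        rw [jmap_smul, hQ.smul]
        have : ζ * ((c : F) ^ 2 * Q (jmap F₀ P a)) = (c : F) ^ 2 * (ζ * Q (jmap F₀ P a)) := by ring
        rw [this]
        exact F₀.mul_mem (F₀.pow_mem c.2 2) ha }
  have hT : T = ⊤ := by
    by_contra hne
    obtain ⟨φ, hφ0, hφ⟩ := Submodule.exists_le_ker_of_lt_top T (lt_top_iff_ne_top.2 hne)
    -- the extension is `H`-invariant
    have hinv : ∀ g ∈ H, ∀ x, extFun F₀ P φ ((g : Matrix ι ι F) *ᵥ x) = extFun F₀ P φ x := by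
      intro g hg x
      obtain ⟨g₁, hg₁⟩ := hact g hg
      refine Submodule.span_induction (p := fun x _ => extFun F₀ P φ ((g : Matrix ι ι F) *ᵥ x) = extFun F₀ P φ x)
        ?_ ?_ ?_ ?_ (jmap_span F₀ P x)
      · rintro _ ⟨w, rfl⟩
        rw [hg₁, extFun_jmap, extFun_jmap]
        congr 1
        -- `g₁ w - w ∈ T`
        have hmem : g₁ *ᵥ w - w ∈ T := by
          show ζ * Q (jmap F₀ P (g₁ *ᵥ w - w)) ∈ F₀
          have h3 : jmap F₀ P (g₁ *ᵥ w - w) = jmap F₀ P (g₁ *ᵥ w) + jmap F₀ P ((-1 : F₀) • w) := by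
            rw [← jmap_add]; congr 1; rw [neg_one_smul, sub_eq_add_neg]
          rw [h3, Q_add' Q, jmap_smul, hQ.smul, hQ.polar_bilinear.smul_right, ← hg₁,
            H925.mem_iso_iff.1 (hH hg), hg₁]
          have h4 : ζ * (Q (jmap F₀ P w) + ((-1 : F₀) : F) ^ 2 * Q (jmap F₀ P w) +
              ((-1 : F₀) : F) * polar Q (jmap F₀ P (g₁ *ᵥ w)) (jmap F₀ P w)) =
              - (ζ * polar Q (jmap F₀ P (g₁ *ᵥ w)) (jmap F₀ P w)) := by
            have : ((-1 : F₀) : F) = -1 := by norm_num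
            rw [this]
            linear_combination (ζ * Q (jmap F₀ P w)) * h2
          rw [h4]
          exact F₀.neg_mem (hRj _ _)
        have := hφ hmem
        rw [LinearMap.mem_ker, map_sub, sub_eq_zero] at this
        exact this
      · rw [Matrix.mulVec_zero]
      · intro x y _ _ hx hy
        rw [Matrix.mulVec_add, map_add, map_add, hx, hy]
      · intro c x _ hx
        rw [Matrix.mulVec_smul, map_smul, map_smul, hx]
    rcases H924.irr_subspace hirr (LinearMap.ker (extFun F₀ P φ)) (fun h hh x hx => by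
      rw [LinearMap.mem_ker, hinv h hh]; exact hx) with hb | ht
    · have h3 := LinearMap.finrank_range_add_finrank_ker (extFun F₀ P φ)
      have h4 : Module.finrank F (LinearMap.range (extFun F₀ P φ)) ≤ 1 :=
        (Submodule.finrank_le _).trans (by rw [Module.finrank_self])
      rw [hb, finrank_bot, Module.finrank_fintype_fun_eq_card] at h3
      omega
    · exact hφ0 (extFun_injective (LinearMap.ker_eq_top.1 ht))
  intro w hw
  have : (fun i => (⟨w i, hw i⟩ : F₀)) ∈ T := by rw [hT]; exact Submodule.mem_top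
  exact this

end Cfsg.Agent.H926
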