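import Cfsg.Agent.H606.PQR.Pieces
import Cfsg.Agent.H800.Sp.B
import Cfsg.Agent.KFacts.Baby.RowB
import Cfsg.Agent.BabyM.Fi23B
import Cfsg.Agent.H849.FiModel
import Cfsg.Agent.MonsterP.Equiv
import Cfsg.Agent.NotCT.Orders
import Cfsg.Agent.S1698
import Cfsg.Agent.S5534

/-!
# S3988, rows `B` and `M`: the easy primes (helper926, task 3774)
-/

set_option autoImplicit false

namespace Cfsg.Agent.H926.PqrNot

open Cfsg Subgroup
open Cfsg.Agent.H562.PQR Cfsg.Agent.H606.PQR

universe u

/-- a simple group whose order is divisible by two primes is not commutative -/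
theorem nc (S : Type u) [Group S] [IsSimpleGroup S] {p q : ℕ} (hp : p.Prime) (hq : q.Prime)
    (hpq : p ≠ q) (h1 : p ∣ Nat.card S) (h2 : q ∣ Nat.card S) (h0 : Nat.card S ≠ 0) : ∃ x y : S, x * y ≠ y * x := by
  by_contra hc
  push Not at hc
  have hfin : Finite S := Nat.finite_of_card_ne_zero h0
  let _ : CommGroup S := { mul_comm := hc }
  have h3 : (Nat.card S).Prime := IsSimpleGroup.prime_card
  exact hpq (((Nat.prime_dvd_prime_iff_eq hp h3).1 h1).trans ((Nat.prime_dvd_prime_iff_eq hq h3).1 h2).symm)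

theorem eq_of {p q : ℕ} (hp : p.Prime) (hq : q.Prime) {k : ℕ} (h : p ∣ q ^ k) : p = q :=
  (Nat.prime_dvd_prime_iff_eq hp hq).1 (hp.dvd_of_dvd_pow h)

theorem eq_of' {p q : ℕ} (hp : p.Prime) (hq : q.Prime) (h : p ∣ q) : p = q :=
  (Nat.prime_dvd_prime_iff_eq hp hq).1 h

theorem cases_b {p : ℕ} (hp : p.Prime) (h : p ∣ 4154781481226426191177580544000000) :
    p = 2 ∨ p = 3 ∨ p = 5 ∨ p = 7 ∨ p = 11 ∨ p = 13 ∨ p = 17 ∨ p = 19 ∨ p = 23 ∨ p = 31 ∨ p = 47 := by
  rw [show (4154781481226426191177580544000000 : ℕ) = 2 ^ 41 * 3 ^ 13 * 5 ^ 6 * 7 ^ 2 * 11 * 13 * 17 * 19 * 23 * 31 * 47 by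
    norm_num] at h
  simp only [hp.dvd_mul] at h
  rcases h with (((((((((h | h) | h) | h) | h) | h) | h) | h) | h) | h) | h
  · exact Or.inl (eq_of hp (by norm_num) h)
  · exact Or.inr (Or.inl (eq_of hp (by norm_num) h))
  · exact Or.inr (Or.inr (Or.inl (eq_of hp (by norm_num) h)))
  · exact Or.inr (Or.inr (Or.inr (Or.inl (eq_of hp (by norm_num) h))))
  · have := eq_of' hp (by norm_num) h; omega
  · have := eq_of' hp (by norm_num) h; omega
  · have := eq_of' hp (by norm_num) h; omega
  · have := eq_of' hp (by norm_num) h; omega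
  · have := eq_of' hp (by norm_num) h; omega
  · have := eq_of' hp (by norm_num) h; omega
  · have := eq_of' hp (by norm_num) h; omega

theorem cases_m {p : ℕ} (hp : p.Prime) (h : p ∣ 808017424794512875886459904961710757005754368000000000) :
    p = 2 ∨ p = 3 ∨ p = 5 ∨ p = 7 ∨ p = 11 ∨ p = 13 ∨ p = 17 ∨ p = 19 ∨ p = 23 ∨ p = 29 ∨ p = 31 ∨ p = 41 ∨ p = 47 ∨
      p = 59 ∨ p = 71 := by
  rw [show (808017424794512875886459904961710757005754368000000000 : ℕ) =
    2 ^ 46 * 3 ^ 20 * 5 ^ 9 * 7 ^ 6 * 11 ^ 2 * 13 ^ 3 * 17 * 19 * 23 * 29 * 31 * 41 * 47 * 59 * 71 by norm_num] at h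
  simp only [hp.dvd_mul] at h
  rcases h with (((((((((((((h | h) | h) | h) | h) | h) | h) | h) | h) | h) | h) | h) | h) | h) | h
  · have := eq_of hp (by norm_num) h; omega
  · have := eq_of hp (by norm_num) h; omega
  · have := eq_of hp (by norm_num) h; omega
  · have := eq_of hp (by norm_num) h; omega
  · have := eq_of hp (by norm_num) h; omega
  · have := eq_of hp (by norm_num) h; omega
  · have := eq_of' hp (by norm_num) h; omega
  · have := eq_of' hp (by norm_num) h; omega
  · have := eq_of' hp (by norm_num) h; omega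
  · have := eq_of' hp (by norm_num) h; omega
  · have := eq_of' hp (by norm_num) h; omega
  · have := eq_of' hp (by norm_num) h; omega
  · have := eq_of' hp (by norm_num) h; omega
  · have := eq_of' hp (by norm_num) h; omega
  · have := eq_of' hp (by norm_num) h; omega

theorem card_B : Nat.card Spor.BabyMonster = 4154781481226426191177580544000000 := NotCT.Orders.b ⟨MulEquiv.refl _⟩

theorem finite_B : Finite Spor.BabyMonster := Nat.finite_of_card_ne_zero (by rw [card_B]; norm_num)

/-- the primes of `Th` -/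
theorem b_th {p : ℕ} (hp : p.Prime) (h : p ∣ 90745943887872000) : NotMin p Spor.BabyMonster := by
  have := finite_B
  have : Fact p.Prime := ⟨hp⟩
  obtain ⟨T, hT⟩ := H800.Sp.B.exists_th_B
  have hc : Nat.card T = 90745943887872000 := NotCT.Orders.th hT
  have hs : IsSimpleGroup T := by
    have := Cfsg.Agent.MSevenT.simple_th
    exact (MulEquiv.isSimpleGroup_congr hT.some).2 this
  refine NotMin.of_injective T.subtype T.subtype_injective ?_ ?_
  · exact not_isPSolvable_of_simple (nc T (p := 2) (q := 3) (by norm_num) (by norm_num) (by norm_num)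
      (by rw [hc]; norm_num) (by rw [hc]; norm_num) (by rw [hc]; norm_num)) hp (by rw [hc]; exact h)
  · rw [hc, card_B]; norm_num

/-- the primes of `Fi23` -/
theorem b_fi {p : ℕ} (hp : p.Prime) (h : p ∣ 4089470473293004800) : NotMin p Spor.BabyMonster := by
  have : Fact p.Prime := ⟨hp⟩
  have hfin : Finite Cfsg.Agent.BabyM.Inst.M.G := Cfsg.Agent.BabyM.Instance.all.finite_G
  obtain ⟨e⟩ := Cfsg.Agent.KFacts.Baby.RowB.exists_iso (K := Spor.BabyMonster) ⟨MulEquiv.refl _⟩
  refine NotMin.congr e ?_
  obtain ⟨M, hM⟩ := Cfsg.Agent.BabyM.Fi23B.main Cfsg.Agent.BabyM.Instance.all Cfsg.Agent.BabyM.Instance.ok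
    Cfsg.Agent.S1697.result
  have hB : Nat.card Cfsg.Agent.BabyM.Inst.M.G = 4154781481226426191177580544000000 :=
    Cfsg.Agent.BabyM.Instance.isB.2
  have hc : Nat.card M = 4089470473293004800 := hM.2
  have hs : IsSimpleGroup M := hM.1
  refine NotMin.of_injective M.subtype M.subtype_injective ?_ ?_
  · exact not_isPSolvable_of_simple (nc M (p := 2) (q := 3) (by norm_num) (by norm_num) (by norm_num)
      (by rw [hc]; norm_num) (by rw [hc]; norm_num) (by rw [hc]; norm_num)) hp (by rw [hc]; exact h)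
  · rw [hc, hB]; norm_num

/-- **piece BNot** -/
theorem piece_BNot : PieceBNot := by
  intro p hp h2 h47 hd
  rw [card_B] at hd
  rcases cases_b hp hd with h | h | h | h | h | h | h | h | h | h | h
  · exact absurd h h2
  · exact b_th hp (by rw [h]; norm_num)
  · exact b_th hp (by rw [h]; norm_num)
  · exact b_th hp (by rw [h]; norm_num)
  · exact b_fi hp (by rw [h]; norm_num)
  · exact b_th hp (by rw [h]; norm_num)
  · exact b_fi hp (by rw [h]; norm_num)
  · exact b_th hp (by rw [h]; norm_num)
  · exact b_fi hp (by rw [h]; norm_num)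
  · exact b_th hp (by rw [h]; norm_num)
  · exact absurd h h47

theorem card_M : Nat.card Spor.Monster = 808017424794512875886459904961710757005754368000000000 :=
  NotCT.Orders.m ⟨MulEquiv.refl _⟩

/-- the primes of `B` -/
theorem m_b {p : ℕ} (hp : p.Prime) (h : p ∣ 4154781481226426191177580544000000) : NotMin p Spor.Monster := by
  have : Fact p.Prime := ⟨hp⟩
  have := finite_B
  obtain ⟨y, -, h1, ⟨e⟩, -⟩ := Cfsg.Agent.S5534.result
  have hc : Nat.card ↥(centralizer ({y} : Set Spor.Monster)) = 2 * 4154781481226426191177580544000000 := by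
    have h2 := (center ↥(centralizer ({y} : Set Spor.Monster))).card_mul_index
    rw [h1, index_eq_card, Nat.card_congr e.toEquiv, card_B] at h2
    exact h2.symm
  have hs : IsSimpleGroup Spor.BabyMonster := Cfsg.Agent.S1704.result.1
  refine ⟨centralizer ({y} : Set Spor.Monster), fun h3 => ?_, fun h3 => ?_⟩
  · rw [h3, card_top, card_M] at hc
    norm_num at hc
  · have h4 : IsPSolvable p Spor.BabyMonster :=
      Cfsg.Agent.PLocal.PSolvable.isPSolvable_of_surjective
        (e.toMonoidHom.comp (QuotientGroup.mk' (center ↥(centralizer ({y} : Set Spor.Monster)))))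
        (e.surjective.comp (QuotientGroup.mk'_surjective _)) h3
    exact not_isPSolvable_of_simple (nc Spor.BabyMonster (p := 2) (q := 3) (by norm_num) (by norm_num) (by norm_num)
      (by rw [card_B]; norm_num) (by rw [card_B]; norm_num) (by rw [card_B]; norm_num)) hp (by rw [card_B]; exact h) h4

/-- the prime 29 -/
theorem m_fi : NotMin 29 Spor.Monster := by
  have : Fact (Nat.Prime 29) := ⟨by norm_num⟩
  obtain ⟨f⟩ := Cfsg.Agent.MonsterP.Equiv.equiv
  refine NotMin.congr f.symm ?_
  obtain ⟨x, t, π, D⟩ := H849.FiModel.exists_data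
  have hF := Cfsg.Agent.S1698.result
  have hcF : Nat.card ↥(_root_.commutator Spor.Fi24) = 1255205709190661721292800 := hF.2
  have hsF : IsSimpleGroup ↥(_root_.commutator Spor.Fi24) := hF.1
  have hfin : Finite ↥(_root_.commutator Spor.Fi24) := Nat.finite_of_card_ne_zero (by rw [hcF]; norm_num)
  have hcM : Nat.card ↥Cfsg.Agent.MonsterX.InstData.M.G = 808017424794512875886459904961710757005754368000000000 := by
    rw [← Nat.card_congr f.toEquiv, card_M]
  have hfinM : Finite ↥Cfsg.Agent.MonsterX.InstData.M.G := Nat.finite_of_card_ne_zero (by rw [hcM]; norm_num)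
  refine ⟨centralizer ({x} : Set ↥Cfsg.Agent.MonsterX.InstData.M.G), fun h3 => ?_, fun h3 => ?_⟩
  · -- `x` would be central
    have hker : Nat.card π.ker ≤ 3 := by
      have h5 : ∀ k : π.ker, ((k : centralizer ({x} : Set ↥Cfsg.Agent.MonsterX.InstData.M.G)) :
          ↥Cfsg.Agent.MonsterX.InstData.M.G) ∈ zpowers x := fun k => (D.ker k).1 k.2
      have h6 : Nat.card π.ker ≤ Nat.card (zpowers x) :=
        Nat.card_le_card_of_injective (fun k : π.ker => (⟨_, h5 k⟩ : zpowers x))
          fun a b hab => Subtype.ext (Subtype.ext (congrArg (fun z : zpowers x => (z : ↥Cfsg.Agent.MonsterX.InstData.M.G)) hab))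
      rwa [Nat.card_zpowers, D.ord] at h6
    have h9 : Nat.card ↥(centralizer ({x} : Set ↥Cfsg.Agent.MonsterX.InstData.M.G)) =
        808017424794512875886459904961710757005754368000000000 := by rw [h3, card_top, hcM]
    have h7 := π.ker.card_mul_index
    rw [index_ker, MonoidHom.range_eq_top.2 D.surj, card_top, hcF, h9] at h7
    have h8 : 808017424794512875886459904961710757005754368000000000 ≤ 3 * 1255205709190661721292800 := by
      rw [← h7]
      exact Nat.mul_le_mul_right _ hker
    norm_num at h8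
  · have h4 : IsPSolvable 29 ↥(_root_.commutator Spor.Fi24) :=
      Cfsg.Agent.PLocal.PSolvable.isPSolvable_of_surjective π D.surj h3
    exact not_isPSolvable_of_simple (nc ↥(_root_.commutator Spor.Fi24) (p := 2) (q := 3) (by norm_num) (by norm_num)
      (by norm_num) (by rw [hcF]; norm_num) (by rw [hcF]; norm_num) (by rw [hcF]; norm_num)) (by norm_num)
      (by rw [hcF]; norm_num) h4

/-- **piece MNot** -/
theorem piece_MNot : PieceMNot := by
  intro p hp h2 h41 h59 h71 hd
  rw [card_M] at hd
  rcases cases_m hp hd with h | h | h | h | h | h | h | h | h | h | h | h | h | h | h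
  · exact absurd h h2
  · exact m_b hp (by rw [h]; norm_num)
  · exact m_b hp (by rw [h]; norm_num)
  · exact m_b hp (by rw [h]; norm_num)
  · exact m_b hp (by rw [h]; norm_num)
  · exact m_b hp (by rw [h]; norm_num)
  · exact m_b hp (by rw [h]; norm_num)
  · exact m_b hp (by rw [h]; norm_num)
  · exact m_b hp (by rw [h]; norm_num)
  · rw [h]; exact m_fi
  · exact m_b hp (by rw [h]; norm_num)
  · exact absurd h h41
  · exact m_b hp (by rw [h]; norm_num)
  · exact absurd h h59
  · exact absurd h h71

end Cfsg.Agent.H926.PqrNot
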