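import Cfsg.Agent.H920.Trace
import Cfsg.Agent.H915.LD

/-!
# Deleted permutation modules from traces (helper926)

`exists_system` : `P ≤ GL(ι, F)` absolutely irreducible, `P` acts on `X`, `|X| = |ι| + 1`, `tr g = fix g - 1` on `P`:
there are vectors `v x` (`x : X`) permuted by `P` as the points, with sum zero, spanning the space.
-/

set_option autoImplicit false
set_option linter.unusedSectionVars false

namespace Cfsg.Agent.H926.PermTr

open Cfsg Cfsg.Geo Matrix Module
open Cfsg.Agent.H915.LD

universe u v

variable {ι : Type} [Fintype ι] [DecidableEq ι] {F : Type u} [Field F]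

/-- `δ` -/
def dl (F : Type*) [Field F] {α : Type*} [DecidableEq α] (x y : α) : F := if x = y then 1 else 0

theorem dl_self {α : Type*} [DecidableEq α] (x : α) : dl F x x = 1 := if_pos rfl

theorem dl_ne {α : Type*} [DecidableEq α] {x y : α} (h : x ≠ y) : dl F x y = 0 := if_neg h

/-- the images of the points -/
def bv (F : Type*) [Field F] (x : Option ι) : ι → F := fun y => dl F x (some y) - dl F x none

theorem bv_some (x : ι) : bv F (some x) = Pi.single x 1 := by
  funext y
  rw [bv, dl_ne (show (some x : Option ι) ≠ none by simp), sub_zero]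
  by_cases h : x = y
  · subst h
    rw [dl_self, Pi.single_eq_same]
  · rw [dl_ne (fun h' => h (Option.some.inj h')), Pi.single_eq_of_ne (Ne.symm h)]

theorem bv_none : bv F (none : Option ι) = fun _ => -1 := by
  funext y
  rw [bv, dl_ne (by simp), dl_self, zero_sub]

theorem sum_bv : ∑ x : Option ι, bv F x = 0 := by
  rw [Fintype.sum_option, bv_none]
  funext y
  have h1 : ∑ x : ι, bv F (some x) y = 1 := by
    rw [Finset.sum_eq_single y]
    · rw [bv_some, Pi.single_eq_same]
    · intro x _ hx
      rw [bv_some, Pi.single_eq_of_ne (Ne.symm hx)]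
    · intro h
      exact absurd (Finset.mem_univ _) h
  rw [Pi.add_apply, Finset.sum_apply, h1]
  exact neg_add_cancel 1

/-- the matrix of a permutation of `Option ι` -/
def pm (F : Type*) [Field F] (σ : Equiv.Perm (Option ι)) : Matrix ι ι F := Matrix.of fun y x => bv F (σ (some x)) y

theorem pm_mulVec (σ : Equiv.Perm (Option ι)) (x : Option ι) : pm F σ *ᵥ bv F x = bv F (σ x) := by
  cases x with
  | some x =>
    rw [bv_some, Matrix.mulVec_single_one]
    rfl
  | none =>
    have h1 : bv F (none : Option ι) = -∑ x : ι, bv F (some x) := by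
      have h := sum_bv (ι := ι) (F := F)
      rw [Fintype.sum_option] at h
      exact eq_neg_of_add_eq_zero_left h
    have h2 : bv F (σ none) = -∑ x : ι, bv F (σ (some x)) := by
      have h := sum_bv (ι := ι) (F := F)
      rw [← Equiv.sum_comp σ, Fintype.sum_option] at h
      exact eq_neg_of_add_eq_zero_left h
    rw [h1, Matrix.mulVec_neg, Matrix.mulVec_sum, h2]
    congr 1
    refine Finset.sum_congr rfl fun x _ => ?_
    rw [bv_some, Matrix.mulVec_single_one]
    rfl

theorem pm_mul (σ τ : Equiv.Perm (Option ι)) : pm F (σ * τ) = pm F σ * pm F τ := by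
  apply Matrix.ext_of_mulVec_single
  intro x
  rw [← Matrix.mulVec_mulVec]
  have h1 := pm_mulVec (F := F) τ (some x)
  have h2 := pm_mulVec (F := F) (σ * τ) (some x)
  rw [bv_some] at h1 h2
  rw [h1, h2, pm_mulVec]
  rfl

theorem pm_one : pm F (1 : Equiv.Perm (Option ι)) = 1 := by
  apply Matrix.ext_of_mulVec_single
  intro x
  have h2 := pm_mulVec (F := F) (1 : Equiv.Perm (Option ι)) (some x)
  rw [bv_some] at h2
  rw [h2, Matrix.one_mulVec, Equiv.Perm.one_apply, bv_some]

theorem pm_trace (σ : Equiv.Perm (Option ι)) :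
    (pm F σ).trace = ((Finset.univ.filter fun x => σ x = x).card : F) - 1 := by
  have h1 : (pm F σ).trace = ∑ x : ι, (dl F (σ (some x)) (some x) - dl F (σ (some x)) none) := rfl
  have h2 : ∑ x : Option ι, dl F (σ x) x = ((Finset.univ.filter fun x => σ x = x).card : F) := by
    rw [Finset.card_filter]
    push_cast
    rfl
  have h3 : ∑ x : Option ι, dl F (σ x) none = 1 := by
    rw [Equiv.sum_comp σ (fun x => dl F x none)]
    rw [Finset.sum_eq_single none]
    · exact dl_self _
    · intro x _ hx
      exact dl_ne hx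
    · intro h
      exact absurd (Finset.mem_univ _) h
  rw [Fintype.sum_option] at h2 h3
  rw [h1, Finset.sum_sub_distrib, ← h2]
  linear_combination -h3

/-- the deleted permutation representation -/
def pmRep (F : Type*) [Field F] (ι : Type) [Fintype ι] [DecidableEq ι] : Equiv.Perm (Option ι) →* GL ι F where
  toFun σ := ⟨pm F σ, pm F σ⁻¹, by rw [← pm_mul, mul_inv_cancel, pm_one], by rw [← pm_mul, inv_mul_cancel, pm_one]⟩
  map_one' := Units.ext pm_one
  map_mul' σ τ := Units.ext (pm_mul σ τ)

theorem span_bv : Submodule.span F (Set.range (bv F : Option ι → ι → F)) = ⊤ := by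
  rw [eq_top_iff]
  intro w _
  have h1 : w = ∑ x : ι, w x • bv F (some x) := by
    simp only [bv_some]
    funext y
    rw [Finset.sum_apply]
    simp only [Pi.smul_apply, smul_eq_mul]
    rw [Finset.sum_eq_single y]
    · rw [Pi.single_eq_same, mul_one]
    · intro x _ hx
      rw [Pi.single_eq_of_ne (Ne.symm hx), mul_zero]
    · intro h
      exact absurd (Finset.mem_univ _) h
  rw [h1]
  exact Submodule.sum_mem _ fun x _ => Submodule.smul_mem _ _ (Submodule.subset_span ⟨some x, rfl⟩)

theorem bv_ne [Nonempty ι] (x : Option ι) : bv F x ≠ 0 := by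
  cases x with
  | some x =>
    rw [bv_some]
    intro h
    have := congrFun h x
    rw [Pi.single_eq_same] at this
    exact one_ne_zero this
  | none =>
    rw [bv_none]
    obtain ⟨y⟩ := ‹Nonempty ι›
    intro h
    have := congrFun h y
    exact one_ne_zero (neg_eq_zero.1 this)

/-- **The deleted permutation module from its traces.** -/
theorem exists_system {P : Subgroup (GL ι F)} (habs : ActsAbsolutelyIrreducibly (matrixSet P)) {X : Type v} [Fintype X]
    [DecidableEq X] [MulAction P X] (hcard : Fintype.card X = Fintype.card ι + 1)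
    (htr : ∀ g : P, tr (g : GL ι F) = ((Finset.univ.filter fun x : X => g • x = x).card : F) - 1) :
    ∃ v : X → (ι → F), (∀ (g : P) (x : X), ((g : GL ι F) : Matrix ι ι F) *ᵥ v x = v (g • x)) ∧ ∑ x, v x = 0 ∧
      Submodule.span F (Set.range v) = ⊤ ∧ (Nonempty ι → ∀ x, v x ≠ 0) := by
  let e : X ≃ Option ι := Fintype.equivOfCardEq (by rw [hcard, Fintype.card_option])
  let π : P →* Equiv.Perm (Option ι) := (Equiv.permCongrHom e).toMonoidHom.comp (MulAction.toPermHom P X)
  have hπ : ∀ (g : P) (x : X), π g (e x) = e (g • x) := by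
    intro g x
    change e (MulAction.toPermHom P X g (e.symm (e x))) = _
    rw [e.symm_apply_apply]
    rfl
  obtain ⟨J, hJ⟩ := H920.exists_conj_of_trace P.subtype ((pmRep F ι).comp π)
    (by
      have h1 : (Set.range fun g : P => ((P.subtype g : GL ι F) : Matrix ι ι F)) = matrixSet P := by
        ext M
        constructor
        · rintro ⟨g, rfl⟩
          exact ⟨g, g.2, rfl⟩
        · rintro ⟨g, hg, rfl⟩
          exact ⟨⟨g, hg⟩, rfl⟩
      rw [h1]
      exact H920.adjoin_eq_top habs)
    (by
      intro g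
      have h1 : (((pmRep F ι).comp π g : GL ι F) : Matrix ι ι F) = pm F (π g) := rfl
      rw [h1, pm_trace]
      have h2 := htr g
      rw [tr] at h2
      change ((g : GL ι F) : Matrix ι ι F).trace = _
      rw [h2]
      congr 2
      apply Finset.card_bij (fun x _ => e x)
      · intro x hx
        rw [Finset.mem_filter] at hx ⊢
        exact ⟨Finset.mem_univ _, by rw [hπ, hx.2]⟩
      · intro x _ y _ hxy
        exact e.injective hxy
      · intro y hy
        rw [Finset.mem_filter] at hy
        refine ⟨e.symm y, ?_, e.apply_symm_apply y⟩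
        rw [Finset.mem_filter]
        refine ⟨Finset.mem_univ _, e.injective ?_⟩
        rw [← hπ, e.apply_symm_apply, hy.2])
  refine ⟨fun x => ((J⁻¹ : GL ι F) : Matrix ι ι F) *ᵥ bv F (e x), ?_, ?_, ?_, ?_⟩
  · intro g x
    have h1 : (g : GL ι F) * J⁻¹ = J⁻¹ * ((pmRep F ι).comp π g) := by
      rw [hJ g]
      change (g : GL ι F) * J⁻¹ = J⁻¹ * (J * g * J⁻¹)
      group
    rw [Matrix.mulVec_mulVec, ← Units.val_mul, h1, Units.val_mul, ← Matrix.mulVec_mulVec]
    change _ *ᵥ (pm F (π g) *ᵥ bv F (e x)) = _
    rw [pm_mulVec, hπ]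
  · rw [← Matrix.mulVec_sum, Equiv.sum_comp e (fun y => bv F y), sum_bv, Matrix.mulVec_zero]
  · have h1 : Set.range (fun x => ((J⁻¹ : GL ι F) : Matrix ι ι F) *ᵥ bv F (e x)) =
        (Matrix.toLin' ((J⁻¹ : GL ι F) : Matrix ι ι F)) '' Set.range (bv F : Option ι → ι → F) := by
      ext w
      constructor
      · rintro ⟨x, rfl⟩
        exact ⟨bv F (e x), ⟨e x, rfl⟩, by rw [Matrix.toLin'_apply]⟩
      · rintro ⟨_, ⟨y, rfl⟩, rfl⟩
        refine ⟨e.symm y, ?_⟩
        change _ *ᵥ bv F (e (e.symm y)) = _
        rw [e.apply_symm_apply, Matrix.toLin'_apply]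
    rw [h1, ← Submodule.map_span, span_bv, Submodule.map_top, LinearMap.range_eq_top]
    intro w
    refine ⟨(J : Matrix ι ι F) *ᵥ w, ?_⟩
    rw [Matrix.toLin'_apply, Matrix.mulVec_mulVec, ← Units.val_mul, inv_mul_cancel, Units.val_one, Matrix.one_mulVec]
  · intro hne x h
    apply bv_ne (F := F) (e x)
    have h1 := congrArg (fun w => (J : Matrix ι ι F) *ᵥ w) h
    simp only [Matrix.mulVec_zero] at h1
    rwa [Matrix.mulVec_mulVec, ← Units.val_mul, mul_inv_cancel, Units.val_one, Matrix.one_mulVec] at h1

end Cfsg.Agent.H926.PermTr
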