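import Cfsg.Agent.H926.CcComm
import Cfsg.Agent.H926.CcNorm

/-!
# A commuting family normalised by an element of the torus of large prime order modulo scalars lies in the torus
-/

set_option autoImplicit false

namespace Cfsg.Agent.H926.Cc

open Module Matrix Cfsg.Geo
open scoped Matrix MatrixGroups

variable {ι : Type} [Fintype ι] [DecidableEq ι] {F : Type*} [Field F] {E : Type*} [Field E]
  [Algebra F E]

/-- Conjugation by `g`. -/
def conjM (g : GL ι F) : Matrix ι ι F →ₐ[F] Matrix ι ι F where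
  toFun a := (g : Matrix ι ι F) * a * ((g⁻¹ : GL ι F) : Matrix ι ι F)
  map_one' := by
    rw [mul_one, ← Units.val_mul, mul_inv_cancel, Units.val_one]
  map_mul' a b := by
    have h : ((g⁻¹ : GL ι F) : Matrix ι ι F) * (g : Matrix ι ι F) = 1 := by
      rw [← Units.val_mul, inv_mul_cancel, Units.val_one]
    calc (g : Matrix ι ι F) * (a * b) * ((g⁻¹ : GL ι F) : Matrix ι ι F)
        = (g : Matrix ι ι F) * (a * 1 * b) * ((g⁻¹ : GL ι F) : Matrix ι ι F) := by
          rw [mul_one]
      _ = _ := by rw [← h]; simp only [mul_assoc]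
  map_zero' := by rw [mul_zero, zero_mul]
  map_add' a b := by rw [mul_add, add_mul]
  commutes' c := by
    rw [← Algebra.commutes, mul_assoc, ← Units.val_mul, mul_inv_cancel, Units.val_one, mul_one]

theorem conjM_apply (g : GL ι F) (a : Matrix ι ι F) :
    conjM g a = (g : Matrix ι ι F) * a * ((g⁻¹ : GL ι F) : Matrix ι ι F) := rfl

theorem conjM_mul (g : GL ι F) (a : Matrix ι ι F) :
    conjM g a * (g : Matrix ι ι F) = (g : Matrix ι ι F) * a := by
  rw [conjM_apply, mul_assoc, ← Units.val_mul, inv_mul_cancel, Units.val_one, mul_one]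

theorem conjM_pow (g : GL ι F) (k : ℕ) (a : Matrix ι ι F) :
    (conjM g)^[k] a = ((g ^ k : GL ι F) : Matrix ι ι F) * a * (((g ^ k)⁻¹ : GL ι F) : Matrix ι ι F) := by
  induction k with
  | zero => simp
  | succ k ih =>
    rw [Function.iterate_succ', Function.comp_apply, ih, conjM_apply, pow_succ', _root_.mul_inv_rev,
      Units.val_mul, Units.val_mul]
    simp only [mul_assoc]

/-- Multiplication by `g`. -/
def mulEquiv (g : GL ι F) : (ι → F) ≃ₗ[F] (ι → F) where
  toFun v := (g : Matrix ι ι F) *ᵥ v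
  map_add' v w := Matrix.mulVec_add _ _ _
  map_smul' c v := Matrix.mulVec_smul _ _ _
  invFun v := ((g⁻¹ : GL ι F) : Matrix ι ι F) *ᵥ v
  left_inv v := by
    show ((g⁻¹ : GL ι F) : Matrix ι ι F) *ᵥ ((g : Matrix ι ι F) *ᵥ v) = v
    rw [Matrix.mulVec_mulVec, ← Units.val_mul, inv_mul_cancel, Units.val_one, Matrix.one_mulVec]
  right_inv v := by
    show (g : Matrix ι ι F) *ᵥ (((g⁻¹ : GL ι F) : Matrix ι ι F) *ᵥ v) = v
    rw [Matrix.mulVec_mulVec, ← Units.val_mul, mul_inv_cancel, Units.val_one, Matrix.one_mulVec]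

theorem mulEquiv_apply (g : GL ι F) (v : ι → F) : mulEquiv g v = (g : Matrix ι ι F) *ᵥ v := rfl

/-- A subalgebra of `E` of prime degree containing an element outside `F` is `E`. -/
theorem subalgebra_eq_top (hp : (finrank F E).Prime) {a : E} (ha : ∀ z : F, a ≠ algebraMap F E z)
    {A : Subalgebra F E} (h : a ∈ A) : A = ⊤ := by
  have hs := Subalgebra.isSimpleOrder_of_finrank_prime F E hp
  rcases hs.eq_bot_or_eq_top A with h1 | h1
  · exfalso
    rw [h1, Algebra.mem_bot] at h
    obtain ⟨z, hz⟩ := h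
    exact ha z hz.symm
  · exact h1

/-- The elements of `E` leaving `W` invariant. -/
def stabE (φ : E →ₐ[F] Matrix ι ι F) (W : Submodule F (ι → F)) : Subalgebra F E where
  carrier := {e | ∀ v ∈ W, φ e *ᵥ v ∈ W}
  mul_mem' := fun {a b} ha hb v hv => by
    rw [map_mul, ← Matrix.mulVec_mulVec]; exact ha _ (hb _ hv)
  one_mem' := fun v hv => by rwa [map_one, Matrix.one_mulVec]
  add_mem' := fun {a b} ha hb v hv => by
    rw [map_add, Matrix.add_mulVec]; exact W.add_mem (ha _ hv) (hb _ hv)
  zero_mem' := fun v _ => by rw [map_zero, Matrix.zero_mulVec]; exact W.zero_mem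
  algebraMap_mem' := fun c v hv => by
    rw [AlgHom.commutes, Algebra.algebraMap_eq_smul_one, Matrix.smul_mulVec, Matrix.one_mulVec]
    exact W.smul_mem _ hv

variable [FiniteDimensional F E]

/-- The elements of the torus outside `F` are irreducible. -/
theorem irred [Finite F] (hp : (finrank F E).Prime) {φ : E →ₐ[F] Matrix ι ι F}
    (hfr : finrank F E = Fintype.card ι) {a : E} (ha : ∀ z : F, a ≠ algebraMap F E z)
    (W : Submodule F (ι → F)) (hW : ∀ v ∈ W, φ a *ᵥ v ∈ W) : W = ⊥ ∨ W = ⊤ := by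
  have h1 : stabE φ W = ⊤ := subalgebra_eq_top hp ha hW
  by_cases h0 : W = ⊥
  · exact Or.inl h0
  · right
    obtain ⟨v, hv, hv0⟩ := (Submodule.ne_bot_iff W).1 h0
    rw [eq_top_iff]
    intro w _
    obtain ⟨e, rfl⟩ := (coordEquiv φ hfr v hv0).surjective w
    have h2 : e ∈ stabE φ W := by rw [h1]; trivial
    exact h2 v hv

theorem mem_of_family [Finite F] [Nonempty ι] (hp : (finrank F E).Prime)
    (hfr : finrank F E = Fintype.card ι) {φ : E →ₐ[F] Matrix ι ι F} {g : GL ι F} {a : E}
    (hga : (g : Matrix ι ι F) = φ a) (ha : ∀ z : F, a ≠ algebraMap F E z) {s : ℕ} (hs : s.Prime)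
    (hsn : Fintype.card ι < s) (has : ∃ z : F, a ^ s = algebraMap F E z)
    {S : Set (Matrix ι ι F)} (hcomm : ∀ x ∈ S, ∀ y ∈ S, x * y = y * x)
    (hconj : ∀ x ∈ S, (g : Matrix ι ι F) * x * ((g⁻¹ : GL ι F) : Matrix ι ι F) ∈ S)
    {x : Matrix ι ι F} (hx : x ∈ S) : ∃ b, x = φ b := by
  set A : Subalgebra F (Matrix ι ι F) := Algebra.adjoin F S with hA
  have hcommA : ∀ u v : A, u * v = v * u :=
    (Algebra.isMulCommutative_adjoin F hcomm).is_comm.comm
  have hle : ∀ u : A, ((conjM g).comp A.val) u ∈ A := by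
    have h1 : A ≤ A.comap (conjM g) := by
      rw [hA]
      refine Algebra.adjoin_le ?_
      intro y hy
      exact Algebra.subset_adjoin (hconj y hy)
    intro u
    exact h1 u.2
  let σ₀ : A →ₐ[F] A := ((conjM g).comp A.val).codRestrict A hle
  have hσ₀ : ∀ u : A, ((σ₀ u : A) : Matrix ι ι F) = conjM g u := fun u => rfl
  have hinjM : Function.Injective (conjM g) := by
    intro u v huv
    have h1 := conjM_mul g u
    rw [huv, conjM_mul] at h1
    have h2 := congrArg (fun m => ((g⁻¹ : GL ι F) : Matrix ι ι F) * m) h1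
    simp only [← mul_assoc] at h2
    rw [← Units.val_mul, inv_mul_cancel, Units.val_one, one_mul, one_mul] at h2
    exact h2.symm
  have hinj : Function.Injective σ₀ := by
    intro u v huv
    apply Subtype.ext
    apply hinjM
    rw [← hσ₀, ← hσ₀, huv]
  have hbij : Function.Bijective σ₀ := by
    have hinj' : Function.Injective σ₀.toLinearMap := hinj
    exact ⟨hinj, LinearMap.injective_iff_surjective.1 hinj'⟩
  let σ : A ≃ₐ[F] A := AlgEquiv.ofBijective σ₀ hbij
  have hσ : ∀ u : A, ((σ u : A) : Matrix ι ι F) = conjM g u := fun u => rfl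
  let ρ : A →ₐ[F] Module.End F (ι → F) :=
    ((Matrix.toLinAlgEquiv' : Matrix ι ι F ≃ₐ[F] Module.End F (ι → F)) :
      Matrix ι ι F →ₐ[F] Module.End F (ι → F)).comp A.val
  have hρ : ∀ (u : A) (v : ι → F), ρ u v = (u : Matrix ι ι F) *ᵥ v := fun u v => rfl
  have hρinj : Function.Injective ρ :=
    (Matrix.toLinAlgEquiv' : Matrix ι ι F ≃ₐ[F] Module.End F (ι → F)).injective.comp
      Subtype.val_injective
  have hirr : ∀ W : Submodule F (ι → F), (∀ v ∈ W, mulEquiv g v ∈ W) → W = ⊥ ∨ W = ⊤ := by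
    intro W hW
    apply irred hp hfr ha W
    intro v hv
    rw [← hga]
    exact hW v hv
  have hσpow : ∀ (k : ℕ) (u : A), (((σ ^ k) u : A) : Matrix ι ι F) = (conjM g)^[k] u := by
    intro k
    induction k with
    | zero => intro u; rfl
    | succ k ih =>
      intro u
      rw [Function.iterate_succ, Function.comp_apply, pow_succ, AlgEquiv.mul_apply, ih, hσ]
  have hσs : σ ^ s = 1 := by
    obtain ⟨z, hz⟩ := has
    ext1 u
    apply Subtype.ext
    rw [hσpow, conjM_pow]
    have h1 : ((g ^ s : GL ι F) : Matrix ι ι F) = algebraMap F (Matrix ι ι F) z := by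
      rw [Units.val_pow_eq_pow_val, hga, ← map_pow, hz, AlgHom.commutes]
    rw [h1, Algebra.commutes, ← h1, mul_assoc, ← Units.val_mul, mul_inv_cancel, Units.val_one,
      mul_one]
    rfl
  have hone : σ = 1 := by
    refine aut_eq_one' hcommA ρ hρinj σ (mulEquiv g) ?_ hirr hs ?_ hσs
    · intro u v
      rw [mulEquiv_apply, mulEquiv_apply, hρ, hρ, hσ, Matrix.mulVec_mulVec, Matrix.mulVec_mulVec,
        conjM_mul]
    · rw [Module.finrank_fintype_fun_eq_card]; exact hsn
  have hxA : x ∈ A := Algebra.subset_adjoin hx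
  have h1 : conjM g x = x := by
    have := hσ ⟨x, hxA⟩
    rw [hone] at this
    exact this.symm
  have h2 : x * φ a = φ a * x := by
    have := conjM_mul g x
    rw [h1, hga] at this
    exact this
  exact exists_eq_of_commute φ hfr fun b => commute_all hp φ ha h2 b

end Cfsg.Agent.H926.Cc
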