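import Cfsg.Agent.H926.CcSL

/-!
# The normaliser of a field subalgebra of degree `n ≥ 5` prime in `SL_n(q)`: maximality from the order of the
simple quotient
-/

set_option autoImplicit false

namespace Cfsg.Agent.H926.Cc

open Module Matrix Cfsg.Geo
open scoped Matrix MatrixGroups

variable {ι : Type} [Fintype ι] [DecidableEq ι] {F : Type*} [Field F] {E : Type*} [Field E]
  [Algebra F E] [Finite F] [FiniteDimensional F E]

/-- A matrix fixing two independent vectors and normalising the field is trivial. -/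
theorem eq_one_of_fix [Nonempty ι] (hp : (finrank F E).Prime) {φ : E →ₐ[F] Matrix ι ι F}
    (hfr : finrank F E = Fintype.card ι) {g : GL ι F} (hg : g ∈ subalgebraNormalizer φ.range)
    {v w : ι → F} (hv : v ≠ 0) (hgv : (g : Matrix ι ι F) *ᵥ v = v) (hgw : (g : Matrix ι ι F) *ᵥ w = w)
    (hvw : ∀ c : F, w ≠ c • v) : g = 1 := by
  obtain ⟨k, rfl⟩ := (coordEquiv φ hfr v hv).surjective w
  change (g : Matrix ι ι F) *ᵥ (φ k *ᵥ v) = φ k *ᵥ v at hgw
  have hk : ∀ z : F, k ≠ algebraMap F E z := by
    rintro z rfl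
    apply hvw z
    rw [coordEquiv_apply, ← smul_one_eq φ, Matrix.smul_mulVec, Matrix.one_mulVec]
  obtain ⟨σ, hσ⟩ := exists_sigma (conjHom_of_mem_normalizer hg)
  have h1 : φ (σ k) *ᵥ v = φ k *ᵥ v := by
    rw [← hgw, Matrix.mulVec_mulVec, hσ, ← Matrix.mulVec_mulVec, hgv]
  have h2 : σ k = k := by
    by_contra hne
    refine phi_mulVec_ne φ (sub_ne_zero.2 hne) hv ?_
    rw [map_sub, Matrix.sub_mulVec, h1, sub_self]
  have h3 : (g : Matrix ι ι F) * φ k = φ k * (g : Matrix ι ι F) := by rw [hσ, h2]
  obtain ⟨b, hb⟩ := exists_eq_of_commute φ hfr fun c => commute_all hp φ hk h3 c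
  have h4 : b = 1 := by
    by_contra hne
    refine phi_mulVec_ne φ (sub_ne_zero.2 hne) hv ?_
    rw [map_sub, map_one, Matrix.sub_mulVec, ← hb, hgv, Matrix.one_mulVec, sub_self]
  apply Units.ext
  rw [hb, h4, map_one, Units.val_one]

/-- Properness. -/
theorem not_specialLinear_le (hn : (Fintype.card ι).Prime) (h3 : 3 ≤ Fintype.card ι)
    {K : Subalgebra F (Matrix ι ι F)} (hK : IsFieldSubalgebra (Fintype.card ι) K) :
    ¬ specialLinear ι F ≤ subalgebraNormalizer K := by
  intro hle
  have : Nonempty ι := Fintype.card_pos_iff.1 (by omega)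
  obtain ⟨E, hE, hA, φ, rfl, hfr⟩ := Cfsg.Agent.H954.FieldSub.exists_field hK
  have : FiniteDimensional F E := Module.finite_of_finrank_pos (by rw [hfr]; omega)
  obtain ⟨a, b, c, hab, hac, hbc⟩ := Fintype.two_lt_card_iff.1 (by omega : 2 < Fintype.card ι)
  have hdet : (Matrix.transvection a b (1 : F)).det = 1 := Matrix.det_transvection_of_ne a b hab 1
  let t : GL ι F := Matrix.GeneralLinearGroup.mkOfDetNeZero (Matrix.transvection a b (1 : F))
    (by rw [hdet]; exact one_ne_zero)
  have ht : (t : Matrix ι ι F) = Matrix.transvection a b (1 : F) := rfl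
  have hfix : ∀ j, j ≠ b → (t : Matrix ι ι F) *ᵥ (Pi.single j 1) = Pi.single j (1 : F) := by
    intro j hj
    rw [ht, Matrix.transvection, Matrix.add_mulVec, Matrix.one_mulVec]
    have h1 : (Matrix.single a b (1 : F)) *ᵥ (Pi.single j 1) = 0 := by
      rw [Matrix.mulVec_single_one]
      ext i
      rw [Matrix.col_apply, Pi.zero_apply, Matrix.single_apply, if_neg]
      rintro ⟨-, h⟩
      exact hj h.symm
    rw [h1, add_zero]
  have h1 : t = 1 := by
    refine eq_one_of_fix (v := Pi.single a 1) (w := Pi.single c 1) (by rw [hfr]; exact hn) hfr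
      (hle ((Cfsg.Agent.H873.mem_specialLinear_iff t).2 hdet)) ?_ (hfix a hab) (hfix c hbc.symm) ?_
    · intro h
      have := congrFun h a
      simp at this
    · intro z h
      have := congrFun h c
      rw [Pi.single_eq_same, Pi.smul_apply, Pi.single_eq_of_ne hac.symm, smul_zero] at this
      exact one_ne_zero this
  have h2 : (t : Matrix ι ι F) a b = 0 := by
    rw [h1, Units.val_one, Matrix.one_apply_ne hab]
  rw [ht, Matrix.transvection, Matrix.add_apply, Matrix.one_apply_ne hab, Matrix.single_apply_same,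
    zero_add] at h2
  exact one_ne_zero h2

/-- The data on a proper overgroup. -/
structure SLData (L : Subgroup (GL ι F)) : Prop where
  simple : IsSimpleGroup (Tq L)
  nonab : ∃ x y : Tq L, x * y ≠ y * x
  card : Nat.card L = Nat.card (Tq L) * Nat.gcd (Fintype.card ι) (Nat.card F - 1)
  torus : ∃ D : Subgroup (Tq L), CC D ∧ IsCyclic D ∧
        Nat.card D * ((Nat.card F - 1) * Nat.gcd (Fintype.card ι) (Nat.card F - 1)) =
          Nat.card F ^ Fintype.card ι - 1 ∧
        D.relIndex (Subgroup.normalizer (D : Set (Tq L))) = Fintype.card ι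

/-- **Maximality** from the case analysis. -/
theorem isMaximalIn_of (hn : (Fintype.card ι).Prime) (h5 : 5 ≤ Fintype.card ι)
    {K : Subalgebra F (Matrix ι ι F)} (hK : IsFieldSubalgebra (Fintype.card ι) K)
    (hII : ∀ L : Subgroup (GL ι F), subalgebraNormalizer K ⊓ specialLinear ι F ≤ L →
      L ≤ specialLinear ι F → SLData L → specialLinear ι F ≤ L) :
    IsMaximalIn (specialLinear ι F) (subalgebraNormalizer K ⊓ specialLinear ι F) := by
  refine ⟨lt_of_le_of_ne inf_le_right fun h => not_specialLinear_le hn (by omega) hK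
    (h ▸ inf_le_left), fun L hN hL => ?_⟩
  rcases sl_alternative hn h5 hK hN hL with h | ⟨h1, h2, h3, h4⟩
  · exact Or.inl (le_antisymm (le_inf h hL) hN)
  · exact Or.inr (le_antisymm hL (hII L hN hL ⟨h1, h2, h3, h4⟩))

end Cfsg.Agent.H926.Cc
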