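import Cfsg.Agent.H926.CcTorus

/-!
# The image of a matrix copy of a field modulo scalars is a CC subgroup
-/

set_option autoImplicit false

namespace Cfsg.Agent.H926.Cc

open Module Matrix Cfsg.Geo
open scoped Matrix MatrixGroups

variable {ι : Type} [Fintype ι] [DecidableEq ι] {F : Type*} [Field F] {E : Type*} [Field E]
  [Algebra F E]

/-- The scalars of `L`. -/
def Zs (L : Subgroup (GL ι F)) : Subgroup L := (scalars ι F).subgroupOf L

instance instNormalZs (L : Subgroup (GL ι F)) : (Zs L).Normal := Subgroup.normal_subgroupOf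

theorem mem_Zs {L : Subgroup (GL ι F)} {g : L} :
    g ∈ Zs L ↔ ∃ c : Fˣ, ((g : GL ι F) : Matrix ι ι F) = (c : F) • (1 : Matrix ι ι F) := by
  rw [Zs, Subgroup.mem_subgroupOf, mem_scalars_iff]

theorem phi_ne_zero [Nonempty ι] (φ : E →ₐ[F] Matrix ι ι F) {a : E} (g : GL ι F)
    (h : (g : Matrix ι ι F) = φ a) : a ≠ 0 := by
  rintro rfl
  rw [map_zero] at h
  have h1 : (g : Matrix ι ι F) * ((g⁻¹ : GL ι F) : Matrix ι ι F) = 1 := by
    rw [← Units.val_mul, mul_inv_cancel, Units.val_one]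
  rw [h, zero_mul] at h1
  exact zero_ne_one h1

theorem inv_eq_phi [Nonempty ι] (φ : E →ₐ[F] Matrix ι ι F) {a : E} (g : GL ι F)
    (h : (g : Matrix ι ι F) = φ a) : ((g⁻¹ : GL ι F) : Matrix ι ι F) = φ a⁻¹ := by
  have ha := phi_ne_zero φ g h
  have h1 : ((g⁻¹ : GL ι F) : Matrix ι ι F) * φ a = 1 := by
    rw [← h, ← Units.val_mul, inv_mul_cancel, Units.val_one]
  have h2 : φ a * φ a⁻¹ = 1 := by rw [← map_mul, mul_inv_cancel₀ ha, map_one]
  calc ((g⁻¹ : GL ι F) : Matrix ι ι F) = ((g⁻¹ : GL ι F) : Matrix ι ι F) * (φ a * φ a⁻¹) := by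
        rw [h2, mul_one]
    _ = φ a⁻¹ := by rw [← mul_assoc, h1, one_mul]

/-- The elements of `L` in `φ(E)`. -/
def Cs [Nonempty ι] (φ : E →ₐ[F] Matrix ι ι F) (L : Subgroup (GL ι F)) : Subgroup L where
  carrier := {g | ∃ a : E, ((g : GL ι F) : Matrix ι ι F) = φ a}
  mul_mem' := by
    rintro g h ⟨a, ha⟩ ⟨b, hb⟩
    refine ⟨a * b, ?_⟩
    rw [Subgroup.coe_mul, Units.val_mul, ha, hb, map_mul]
  one_mem' := ⟨1, by rw [map_one]; rfl⟩
  inv_mem' := by
    rintro g ⟨a, ha⟩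
    exact ⟨a⁻¹, inv_eq_phi φ _ ha⟩

theorem mem_Cs [Nonempty ι] {φ : E →ₐ[F] Matrix ι ι F} {L : Subgroup (GL ι F)} {g : L} :
    g ∈ Cs φ L ↔ ∃ a : E, ((g : GL ι F) : Matrix ι ι F) = φ a := Iff.rfl

theorem smul_one_eq (φ : E →ₐ[F] Matrix ι ι F) (c : F) :
    c • (1 : Matrix ι ι F) = φ (algebraMap F E c) := by
  rw [AlgHom.commutes, Algebra.algebraMap_eq_smul_one]

theorem Zs_le_Cs [Nonempty ι] (φ : E →ₐ[F] Matrix ι ι F) (L : Subgroup (GL ι F)) :
    Zs L ≤ Cs φ L := by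
  intro g hg
  obtain ⟨c, hc⟩ := mem_Zs.1 hg
  exact ⟨algebraMap F E c, by rw [hc, smul_one_eq φ]⟩

theorem mem_Zs_iff_of_eq [Nonempty ι] {φ : E →ₐ[F] Matrix ι ι F} {L : Subgroup (GL ι F)} {g : L}
    {a : E} (h : ((g : GL ι F) : Matrix ι ι F) = φ a) :
    g ∈ Zs L ↔ ∃ c : F, a = algebraMap F E c := by
  rw [mem_Zs]
  constructor
  · rintro ⟨c, hc⟩
    refine ⟨c, φ.toRingHom.injective ?_⟩
    show φ a = φ _
    rw [← h, hc, smul_one_eq φ]
  · rintro ⟨c, rfl⟩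
    have h0 : c ≠ 0 := by
      rintro rfl
      exact phi_ne_zero φ _ h (map_zero _)
    exact ⟨Units.mk0 c h0, by rw [h, ← smul_one_eq φ]; rfl⟩

/-- `L` modulo its scalars. -/
abbrev Tq (L : Subgroup (GL ι F)) : Type _ := L ⧸ Zs L

/-- The image of `φ(E) ∩ L`. -/
def Dq [Nonempty ι] (φ : E →ₐ[F] Matrix ι ι F) (L : Subgroup (GL ι F)) : Subgroup (Tq L) :=
  (Cs φ L).map (QuotientGroup.mk' (Zs L))

theorem comap_Dq [Nonempty ι] (φ : E →ₐ[F] Matrix ι ι F) (L : Subgroup (GL ι F)) :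
    (Dq φ L).comap (QuotientGroup.mk' (Zs L)) = Cs φ L := by
  rw [Dq, Subgroup.comap_map_eq, QuotientGroup.ker_mk', sup_eq_left]
  exact Zs_le_Cs φ L

theorem mk_mem_Dq [Nonempty ι] {φ : E →ₐ[F] Matrix ι ι F} {L : Subgroup (GL ι F)} {g : L} :
    (QuotientGroup.mk' (Zs L) g) ∈ Dq φ L ↔ g ∈ Cs φ L := by
  rw [← comap_Dq φ L, Subgroup.mem_comap]

/-- Elements of `φ(E)` with `a ∉ F` have root property: their `n`-th power is not in `F`. -/
def RootProp (φ : E →ₐ[F] Matrix ι ι F) (L : Subgroup (GL ι F)) : Prop :=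
  ∀ g ∈ L, ∀ a : E, (g : Matrix ι ι F) = φ a →
    (∃ c : F, a ^ Fintype.card ι = algebraMap F E c) → ∃ c : F, a = algebraMap F E c

theorem pow_comm_of {m : Matrix ι ι F} (φ : E →ₐ[F] Matrix ι ι F) {a : E} {c : F}
    (h : φ a * m = c • (m * φ a)) (k : ℕ) : φ (a ^ k) * m = c ^ k • (m * φ (a ^ k)) := by
  induction k with
  | zero => simp
  | succ k ih =>
    rw [pow_succ, map_mul, mul_assoc, h, Matrix.mul_smul, ← mul_assoc, ih, Matrix.smul_mul,
      smul_smul, pow_succ, mul_comm (c ^ k) c, mul_assoc]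

variable [Finite F] [FiniteDimensional F E]

/-- If `g` commutes with `φ a`, `a ∉ F`, up to a scalar, then `g ∈ φ(E)`. -/
theorem exists_phi_of_comm [Nonempty ι] {φ : E →ₐ[F] Matrix ι ι F} {L : Subgroup (GL ι F)}
    (hp : (finrank F E).Prime) (hfr : finrank F E = Fintype.card ι) (hroot : RootProp φ L)
    {c : GL ι F} (hc : c ∈ L) {a : E} (hca : (c : Matrix ι ι F) = φ a)
    (ha : ∀ z : F, a ≠ algebraMap F E z) {g : GL ι F} {z : F}
    (h : φ a * (g : Matrix ι ι F) = z • ((g : Matrix ι ι F) * φ a)) :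
    ∃ b, (g : Matrix ι ι F) = φ b := by
  have hz : z ^ Fintype.card ι = 1 := by
    have h1 := congrArg Matrix.det h
    rw [Matrix.det_smul, Matrix.det_mul, Matrix.det_mul, ← hca] at h1
    have h2 : Matrix.det (c : Matrix ι ι F) * Matrix.det (g : Matrix ι ι F) ≠ 0 :=
      mul_ne_zero ((Matrix.isUnit_iff_isUnit_det _).1 c.isUnit).ne_zero
        ((Matrix.isUnit_iff_isUnit_det _).1 g.isUnit).ne_zero
    rw [mul_comm (Matrix.det (g : Matrix ι ι F))] at h1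
    exact mul_right_cancel₀ h2 (by rw [one_mul]; exact h1.symm)
  have h1 := pow_comm_of φ h (Fintype.card ι)
  rw [hz, one_smul] at h1
  have h2 : ∀ z : F, a ^ Fintype.card ι ≠ algebraMap F E z := by
    intro z hz
    obtain ⟨w, hw⟩ := hroot c hc a hca ⟨z, hz⟩
    exact ha w hw
  exact exists_eq_of_commute φ hfr fun b => commute_all hp φ h2 h1.symm b

/-- **The image of `φ(E) ∩ L` in `L` modulo scalars is a CC subgroup.** -/
theorem cc_Dq [Nonempty ι] {φ : E →ₐ[F] Matrix ι ι F} {L : Subgroup (GL ι F)}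
    (hp : (finrank F E).Prime) (hfr : finrank F E = Fintype.card ι) (hroot : RootProp φ L)
    (hne : ∃ g ∈ L, ∃ a : E, (g : Matrix ι ι F) = φ a ∧ ∀ z : F, a ≠ algebraMap F E z) :
    CC (Dq φ L) where
  ne_bot := by
    obtain ⟨g, hg, a, hga, ha⟩ := hne
    intro h0
    have h1 : QuotientGroup.mk' (Zs L) ⟨g, hg⟩ ∈ Dq φ L := mk_mem_Dq.2 ⟨a, hga⟩
    rw [h0, Subgroup.mem_bot] at h1
    have h2 : (⟨g, hg⟩ : L) ∈ Zs L := (QuotientGroup.eq_one_iff _).1 h1
    obtain ⟨c, hc⟩ := (mem_Zs_iff_of_eq (g := ⟨g, hg⟩) hga).1 h2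
    exact ha c hc
  comm := by
    rintro _ ⟨x, ⟨a, ha⟩, rfl⟩ _ ⟨y, ⟨b, hb⟩, rfl⟩
    rw [← map_mul, ← map_mul]
    congr 1
    apply Subtype.ext
    apply Units.ext
    show (((x : GL ι F) * (y : GL ι F) : GL ι F) : Matrix ι ι F) =
      (((y : GL ι F) * (x : GL ι F) : GL ι F) : Matrix ι ι F)
    rw [Units.val_mul, Units.val_mul, ha, hb, ← map_mul, ← map_mul, mul_comm]
  cent := by
    rintro _ ⟨x, ⟨a, ha⟩, rfl⟩ hx1 y hy
    obtain ⟨g, rfl⟩ := QuotientGroup.mk'_surjective (Zs L) y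
    rw [mk_mem_Dq]
    have ha' : ∀ z : F, a ≠ algebraMap F E z := by
      intro z hz
      apply hx1
      exact (QuotientGroup.eq_one_iff _).2 ((mem_Zs_iff_of_eq ha).2 ⟨z, hz⟩)
    rw [← map_mul, ← map_mul] at hy
    have h1 : (g * x)⁻¹ * (x * g) ∈ Zs L := QuotientGroup.eq.1 hy
    obtain ⟨z, hz⟩ := mem_Zs.1 h1
    have h2 : φ a * ((g : GL ι F) : Matrix ι ι F) = (z : F) • (((g : GL ι F) : Matrix ι ι F) * φ a) := by
      have h3 : (x : GL ι F) * (g : GL ι F) =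
          ((g : GL ι F) * (x : GL ι F)) * ((((g * x)⁻¹ * (x * g) : L)) : GL ι F) := by
        push_cast
        group
      have h4 := congrArg (fun m : GL ι F => (m : Matrix ι ι F)) h3
      simp only [Units.val_mul] at h4
      rw [hz, ha, Matrix.mul_smul, mul_one] at h4
      exact h4
    exact exists_phi_of_comm hp hfr hroot x.2 ha ha' h2

end Cfsg.Agent.H926.Cc
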