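import Cfsg.Agent.H923.MatBridge
import Cfsg.Agent.H926.CcSLa

/-!
# Overgroups of the normaliser of the Singer torus in `SL_n(q)`, `n ≥ 5` prime

Such an overgroup normalises the field or is nonabelian simple modulo scalars.
-/

set_option autoImplicit false

namespace Cfsg.Agent.H926.Cc

open Module Matrix Cfsg.Geo
open scoped Matrix MatrixGroups

variable {ι : Type} [Fintype ι] [DecidableEq ι] {F : Type*} [Field F] {E : Type*} [Field E]
  [Algebra F E] [Finite F] [FiniteDimensional F E]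

/-- Skolem-Noether elements of determinant one. -/
theorem exists_galois [Nonempty ι] (φ : E →ₐ[F] Matrix ι ι F) (σ : E ≃ₐ[F] E) :
    ∃ g ∈ specialLinear ι F, ∀ a, (g : Matrix ι ι F) * φ a = φ (σ a) * (g : Matrix ι ι F) := by
  have : Finite E := Module.finite_of_finite F
  let φe : E →ₐ[F] Module.End F (ι → F) :=
    ((Matrix.toLinAlgEquiv' : Matrix ι ι F ≃ₐ[F] Module.End F (ι → F)) :
      Matrix ι ι F →ₐ[F] Module.End F (ι → F)).comp φ
  have hφe : ∀ (a : E) (v : ι → F), φe a v = φ a *ᵥ v := fun a v => rfl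
  obtain ⟨e, he⟩ := Cfsg.Agent.H954.FieldSub.exists_equiv_comm φe (φe.comp (σ : E →ₐ[F] E))
  have hdet : LinearMap.det (e : (ι → F) →ₗ[F] (ι → F)) ≠ 0 := e.isUnit_det'.ne_zero
  obtain ⟨c, hc, hdc⟩ := Cfsg.Agent.H954.FieldSub.exists_det_eq φe (inv_ne_zero hdet)
  have h1 : LinearMap.det ((e : (ι → F) →ₗ[F] (ι → F)) ∘ₗ (c : (ι → F) →ₗ[F] (ι → F))) = 1 := by
    rw [LinearMap.det_comp, hdc, mul_inv_cancel₀ hdet]
  obtain ⟨g, -, hg1, hgz⟩ := Cfsg.Agent.H923.exists_gl_of_det one_ne_zero h1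
  refine ⟨g, (Cfsg.Agent.H873.mem_specialLinear_iff g).2 hg1, fun a => ?_⟩
  apply Matrix.mulVec_injective
  funext v
  show ((g : Matrix ι ι F) * φ a) *ᵥ v = (φ (σ a) * (g : Matrix ι ι F)) *ᵥ v
  rw [← Matrix.mulVec_mulVec, ← Matrix.mulVec_mulVec, hgz, hgz]
  show e (c (φ a *ᵥ v)) = φ (σ a) *ᵥ (e (c v))
  rw [← hφe, hc, he]
  rfl

/-- **Overgroups of the normaliser of the Singer torus** (field form). -/
theorem sl_alternative_aux [Nonempty ι] (hn : (Fintype.card ι).Prime) (h5 : 5 ≤ Fintype.card ι)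
    (φ : E →ₐ[F] Matrix ι ι F) (hfr : finrank F E = Fintype.card ι) {L : Subgroup (GL ι F)}
    (hN : subalgebraNormalizer φ.range ⊓ specialLinear ι F ≤ L) (hL : L ≤ specialLinear ι F) :
    L ≤ subalgebraNormalizer φ.range ∨
      (IsSimpleGroup (Tq L) ∧ (∃ x y : Tq L, x * y ≠ y * x) ∧ CC (Dq φ L) ∧ IsCyclic (Dq φ L) ∧
        Nat.card (Dq φ L) * ((Nat.card F - 1) * Nat.gcd (Fintype.card ι) (Nat.card F - 1)) =
          Nat.card F ^ Fintype.card ι - 1 ∧
        (Dq φ L).relIndex (Subgroup.normalizer (Dq φ L : Set (Tq L))) = Fintype.card ι ∧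
        Nat.card L = Nat.card (Tq L) * Nat.gcd (Fintype.card ι) (Nat.card F - 1)) := by
  have hp : (finrank F E).Prime := by rw [hfr]; exact hn
  have h3 : 3 ≤ finrank F E := by omega
  have hq2 : 2 ≤ Nat.card F := Finite.one_lt_card
  -- the torus is in `L`
  have hcomm : ∀ g : GL ι F, (∃ a : E, (g : Matrix ι ι F) = φ a) → g ∈ subalgebraNormalizer φ.range := by
    rintro g ⟨a, ha⟩
    apply mem_normalizer_of_conjHom
    intro e
    refine ⟨e, ?_⟩
    show φ e = (g : Matrix ι ι F) * φ e * ((g⁻¹ : GL ι F) : Matrix ι ι F)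
    rw [ha, ← map_mul, mul_comm, map_mul, ← ha, mul_assoc, ← Units.val_mul, mul_inv_cancel,
      Units.val_one, mul_one]
  have hU : ∀ u ∈ U1 F E, toGLE φ u ∈ L := by
    intro u hu
    refine hN ⟨hcomm _ ⟨u, rfl⟩, ?_⟩
    exact (norm_eq_one hfr (coe_toGLE φ u)).2 (mem_U1.1 hu)
  have hcZ : Nat.card (Zs L) = Nat.gcd (Fintype.card ι) (Nat.card F - 1) := by
    apply card_Zs hL
    intro c hc
    let g : GL ι F := toGLE φ (Units.map (algebraMap F E).toMonoidHom c)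
    have hg : (g : Matrix ι ι F) = (c : F) • (1 : Matrix ι ι F) := by
      rw [smul_one_eq φ]
      rfl
    refine ⟨g, hN ⟨hcomm _ ⟨_, rfl⟩, ?_⟩, hg⟩
    refine (Cfsg.Agent.H873.mem_specialLinear_iff g).2 ?_
    rw [hg, Matrix.det_smul, Matrix.det_one, mul_one, ← Units.val_pow_eq_pow_val, hc, Units.val_one]
  have hroot := rootProp_SL (φ := φ) hp h3 hfr hL
  have hcard := card_Dq hfr hL hU hcZ
  have hsq : finrank F E ^ 2 ≤ Nat.card (Dq φ L) := sq_le hp (by omega) hq2 hcard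
  have hne : ∃ g ∈ L, ∃ a : E, (g : Matrix ι ι F) = φ a ∧ ∀ z : F, a ≠ algebraMap F E z := by
    by_contra hcon
    push Not at hcon
    have h1 : Dq φ L = ⊥ := by
      rw [eq_bot_iff]
      intro x hx
      obtain ⟨g, rfl⟩ := QuotientGroup.mk'_surjective (Zs L) x
      obtain ⟨a, ha⟩ := mk_mem_Dq.1 hx
      rw [Subgroup.mem_bot]
      obtain ⟨z, hz⟩ := hcon g g.2 a ha
      exact (QuotientGroup.eq_one_iff _).2 ((mem_Zs_iff_of_eq ha).2 ⟨z, hz⟩)
    rw [h1, Subgroup.card_bot] at hsq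
    nlinarith
  have hcc := cc_Dq hp hfr hroot hne
  have hgal : ∀ σ : E ≃ₐ[F] E, ∃ g ∈ L, ∀ a, (g : Matrix ι ι F) * φ a = φ (σ a) * (g : Matrix ι ι F) := by
    intro σ
    obtain ⟨g, hg, h⟩ := exists_galois φ σ
    refine ⟨g, hN ⟨?_, hg⟩, h⟩
    apply mem_normalizer_of_conjHom
    intro e
    refine ⟨σ e, ?_⟩
    show φ (σ e) = (g : Matrix ι ι F) * φ e * ((g⁻¹ : GL ι F) : Matrix ι ι F)
    rw [h e, mul_assoc, ← Units.val_mul, mul_inv_cancel, Units.val_one, mul_one]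
  have hrel := relIndex_eq hp hfr hne hgal
  have hs : ∀ s : ℕ, s.Prime → s ∣ Nat.card (Dq φ L) → Fintype.card ι < s := by
    intro s hs hsd
    rw [← hfr]
    exact prime_gt hp h3 hq2 hcard hs hsd
  rcases hcc.trichotomy with h | ⟨R, hR, hR0, hRD, hab, -⟩ | ⟨S, hS, hsim, hna, -, hSD⟩
  · left
    have h1 : (Subgroup.normalizer (Dq φ L : Set (Tq L))) = ⊤ := Subgroup.normalizer_eq_top_iff.2 h
    have h2 := comap_normalizer hp hne
    rw [h1, Subgroup.comap_top] at h2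
    exact Subgroup.subgroupOf_eq_top.1 h2.symm
  · exact absurd (excl hp hfr hroot hne hs (Or.inr (by rw [← hfr]; exact hsq)) hR hRD hab) hR0
  · right
    have hST : S = ⊤ := hcc.eq_top hS hsim hna hSD (by rw [hrel]; exact hn)
    subst hST
    refine ⟨?_, ?_, hcc, isCyclic_Dq hfr hL hU, by rw [← hfr]; exact hcard, hrel, ?_⟩
    · exact (Subgroup.topEquiv (G := Tq L)).symm.isSimpleGroup
    · obtain ⟨x, -, y, -, hxy⟩ := hna
      exact ⟨x, y, hxy⟩
    · rw [← hcZ]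
      exact (Subgroup.card_eq_card_quotient_mul_card_subgroup (Zs L))

/-- **Overgroups of the normaliser of a field subalgebra of degree `n` in `SL_n(q)`, `n ≥ 5` prime.** -/
theorem sl_alternative (hn : (Fintype.card ι).Prime) (h5 : 5 ≤ Fintype.card ι)
    {K : Subalgebra F (Matrix ι ι F)} (hK : IsFieldSubalgebra (Fintype.card ι) K) {L : Subgroup (GL ι F)}
    (hN : subalgebraNormalizer K ⊓ specialLinear ι F ≤ L) (hL : L ≤ specialLinear ι F) :
    L ≤ subalgebraNormalizer K ∨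
      (IsSimpleGroup (Tq L) ∧ (∃ x y : Tq L, x * y ≠ y * x) ∧
        Nat.card L = Nat.card (Tq L) * Nat.gcd (Fintype.card ι) (Nat.card F - 1) ∧
        ∃ D : Subgroup (Tq L), CC D ∧ IsCyclic D ∧
        Nat.card D * ((Nat.card F - 1) * Nat.gcd (Fintype.card ι) (Nat.card F - 1)) =
          Nat.card F ^ Fintype.card ι - 1 ∧
        D.relIndex (Subgroup.normalizer (D : Set (Tq L))) = Fintype.card ι) := by
  have : Nonempty ι := Fintype.card_pos_iff.1 (by omega)
  obtain ⟨E, hE, hA, φ, rfl, hfr⟩ := Cfsg.Agent.H954.FieldSub.exists_field hK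
  have : FiniteDimensional F E := Module.finite_of_finrank_pos (by rw [hfr]; omega)
  rcases sl_alternative_aux hn h5 φ hfr hN hL with h | ⟨h1, h2, h3, h4, h5, h6, h7⟩
  · exact Or.inl h
  · exact Or.inr ⟨h1, h2, h7, Dq φ L, h3, h4, h5, h6⟩

end Cfsg.Agent.H926.Cc
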