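import Cfsg.Agent.H926.CcGroup

/-!
# CC subgroups with normaliser quotient of prime order

If `C` is a CC subgroup of the finite group `G`, `|N_G(C) : C|` is a prime, `S` is a nonabelian simple normal
subgroup meeting `C`, then `S = G`.
-/

set_option autoImplicit false

namespace Cfsg.Agent.H926.Cc

open Subgroup

variable {G : Type*} [Group G] {C : Subgroup G}

namespace CC

theorem le_of_isPGroup [Finite G] (h : CC C) {s : ℕ} [Fact s.Prime] {P : Subgroup G}
    (hP : IsPGroup s P) {x : G} (hx : x ∈ C) (hx1 : x ≠ 1) (hxP : x ∈ P) : P ≤ C := by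
  have hnt : Nontrivial P := ⟨⟨⟨x, hxP⟩, 1, fun h1 => hx1 (congrArg Subtype.val h1)⟩⟩
  have := hP.center_nontrivial
  obtain ⟨z, hz⟩ := _root_.exists_ne (1 : Subgroup.center P)
  have hz1 : ((z : P) : G) ≠ 1 := fun h1 => hz (Subtype.ext (Subtype.ext h1))
  have hzc : ∀ y ∈ P, y * ((z : P) : G) = ((z : P) : G) * y := by
    intro y hy
    have h1 := Subgroup.mem_center_iff.1 z.2 ⟨y, hy⟩
    exact congrArg Subtype.val h1
  have hzC : ((z : P) : G) ∈ C := h.cent x hx hx1 _ (hzc x hxP).symm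
  intro y hy
  exact h.cent _ hzC hz1 y (hzc y hy)

theorem mem_normalizer_of_conj (h : CC C) {g x : G} (hx : x ∈ C) (hx1 : x ≠ 1)
    (hgx : g * x * g⁻¹ ∈ C) : g ∈ normalizer (C : Set G) :=
  mem_normalizer_iff.2 (h.ti hx hx1 hgx)

theorem le_of_mem_normalizer [Finite G] (h : CC C) {S : Subgroup G} (hS : S.Normal) {g : G}
    (hgS : g ∈ S) (hgN : g ∈ normalizer (C : Set G)) (hgC : g ∉ C) : C ≤ S := by
  have hg : ∀ x ∈ C, g * x * g⁻¹ ∈ C := fun x hx => (mem_normalizer_iff.1 hgN x).1 hx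
  let φ : C →* C :=
    { toFun := fun x => ⟨(x : G) * (g * (x : G)⁻¹ * g⁻¹),
        C.mul_mem x.2 (hg _ (C.inv_mem x.2))⟩
      map_one' := Subtype.ext (by simp)
      map_mul' := fun x y => Subtype.ext (by
        show (x : G) * y * (g * ((x : G) * y)⁻¹ * g⁻¹) =
          (x : G) * (g * (x : G)⁻¹ * g⁻¹) * (y * (g * (y : G)⁻¹ * g⁻¹))
        have h1 : (x : G)⁻¹ * (y : G)⁻¹ = (y : G)⁻¹ * (x : G)⁻¹ :=
          h.comm _ (C.inv_mem x.2) _ (C.inv_mem y.2)
        have h2 : (g * (x : G)⁻¹ * g⁻¹) * y = y * (g * (x : G)⁻¹ * g⁻¹) :=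
          h.comm _ (hg _ (C.inv_mem x.2)) _ y.2
        calc (x : G) * y * (g * ((x : G) * y)⁻¹ * g⁻¹)
            = x * y * (g * ((y : G)⁻¹ * (x : G)⁻¹) * g⁻¹) := by rw [mul_inv_rev]
          _ = x * y * (g * ((x : G)⁻¹ * (y : G)⁻¹) * g⁻¹) := by rw [h1]
          _ = x * (y * (g * (x : G)⁻¹ * g⁻¹)) * (g * (y : G)⁻¹ * g⁻¹) := by group
          _ = x * ((g * (x : G)⁻¹ * g⁻¹) * y) * (g * (y : G)⁻¹ * g⁻¹) := by rw [h2]
          _ = _ := by group) }
  have hφ : ∀ x : C, ((φ x : C) : G) = (x : G) * (g * (x : G)⁻¹ * g⁻¹) := fun _ => rfl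
  have hinj : Function.Injective φ := by
    rw [← MonoidHom.ker_eq_bot_iff, Subgroup.eq_bot_iff_forall]
    intro x hx
    by_contra hx1
    have h1 : (x : G) * (g * (x : G)⁻¹ * g⁻¹) = 1 := by
      rw [← hφ, MonoidHom.mem_ker.1 hx]
      rfl
    apply hgC
    refine h.cent x x.2 (fun h2 => hx1 (Subtype.ext h2)) g ?_
    have h3 : (x : G) = g * x * g⁻¹ := by
      have h4 := eq_inv_of_mul_eq_one_left h1
      calc (x : G) = (g * (x : G)⁻¹ * g⁻¹)⁻¹ := h4
        _ = g * x * g⁻¹ := by group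
    calc g * (x : G) = g * x * g⁻¹ * g := by group
      _ = x * g := by rw [← h3]
  have hsurj : Function.Surjective φ := Finite.surjective_of_injective hinj
  intro y hy
  obtain ⟨x, hx⟩ := hsurj ⟨y, hy⟩
  have h1 : y = (x : G) * g * (x : G)⁻¹ * g⁻¹ := by
    have h2 : ((φ x : C) : G) = y := congrArg Subtype.val hx
    rw [← h2, hφ]
    group
  rw [h1]
  exact S.mul_mem (hS.conj_mem g hgS x) (S.inv_mem hgS)

/-- **A group with a CC subgroup whose normaliser quotient has prime order, with a nonabelian simple normal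
subgroup meeting it, is simple.** -/
theorem eq_top [Finite G] (h : CC C) {S : Subgroup G} (hS : S.Normal) (hsimple : IsSimpleGroup S)
    (hna : ∃ x ∈ S, ∃ y ∈ S, x * y ≠ y * x) (hSC : S ⊓ C ≠ ⊥)
    (hidx : (C.relIndex (normalizer (C : Set G))).Prime) : S = ⊤ := by
  -- a Sylow subgroup of `S` inside `C`
  obtain ⟨x, hx, hx1⟩ : ∃ x ∈ S ⊓ C, x ≠ 1 := by
    by_contra hcon
    push Not at hcon
    exact hSC ((Subgroup.eq_bot_iff_forall _).2 hcon)
  obtain ⟨s, hs, hsx⟩ := Nat.exists_prime_and_dvd (n := orderOf x)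
    (fun h1 => hx1 (orderOf_eq_one_iff.1 h1))
  have : Fact s.Prime := ⟨hs⟩
  have hpos : 0 < orderOf x := orderOf_pos x
  set z := x ^ (orderOf x / s) with hz
  have hzo : orderOf z = s := by
    rw [hz, orderOf_pow, Nat.gcd_eq_right (Nat.div_dvd_of_dvd hsx)]
    exact Nat.div_div_self hsx hpos.ne'
  have hz1 : z ≠ 1 := by
    intro h1
    rw [h1, orderOf_one] at hzo
    exact hs.one_lt.ne hzo
  have hzS : z ∈ S := S.pow_mem hx.1 _
  have hzC : z ∈ C := C.pow_mem hx.2 _
  have hzP : IsPGroup s (zpowers (⟨z, hzS⟩ : S)) := by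
    apply IsPGroup.of_card (n := 1)
    rw [Nat.card_zpowers, pow_one, ← hzo, Subgroup.orderOf_mk]
  obtain ⟨P, hP⟩ := hzP.exists_le_sylow
  have hzP' : z ∈ (P : Subgroup S).map S.subtype :=
    ⟨⟨z, hzS⟩, hP (mem_zpowers _), rfl⟩
  have hPC : (P : Subgroup S).map S.subtype ≤ C :=
    h.le_of_isPGroup (P.2.map S.subtype) hzC hz1 hzP'
  have hNP : normalizer (((P : Subgroup S).map S.subtype : Subgroup G) : Set G) ≤
      normalizer (C : Set G) := by
    intro g hg
    exact h.mem_normalizer_of_conj hzC hz1 (hPC ((mem_normalizer_iff.1 hg z).1 hzP'))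
  -- an element of `S` normalising `C`, not in `C`
  obtain ⟨g, hgS, hgN, hgC⟩ : ∃ g ∈ S, g ∈ normalizer (C : Set G) ∧ g ∉ C := by
    by_contra hcon
    push Not at hcon
    have hnc : normalizer ((P : Subgroup S) : Set S) ≤ centralizer ((P : Subgroup S) : Set S) := by
      intro g hg
      have hgN : (g : G) ∈ normalizer (((P : Subgroup S).map S.subtype : Subgroup G) : Set G) := by
        rw [mem_normalizer_iff]
        intro y
        constructor
        · rintro ⟨y, hy, rfl⟩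
          exact ⟨g * y * g⁻¹, (mem_normalizer_iff.1 hg y).1 hy, rfl⟩
        · rintro ⟨y', hy', hy''⟩
          have hyS : y ∈ S := by
            have h1 : (g : G) * y * (g : G)⁻¹ ∈ S := by rw [← hy'']; exact y'.2
            have h2 := hS.conj_mem _ h1 (g : G)⁻¹
            have h3 : (g : G)⁻¹ * ((g : G) * y * (g : G)⁻¹) * ((g : G)⁻¹)⁻¹ = y := by group
            rwa [h3] at h2
          refine ⟨⟨y, hyS⟩, (mem_normalizer_iff.1 hg _).2 ?_, rfl⟩
          have h4 : g * (⟨y, hyS⟩ : S) * g⁻¹ = y' := Subtype.ext hy''.symm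
          rw [h4]
          exact hy'
      have hgC : (g : G) ∈ C := hcon g g.2 (hNP hgN)
      rw [mem_centralizer_iff]
      intro y hy
      exact Subtype.ext (h.comm _ (hPC ⟨y, hy, rfl⟩) _ hgC)
    have hcompl := MonoidHom.ker_transferSylow_isComplement' P hnc
    rcases (inferInstance : (MonoidHom.transferSylow P hnc).ker.Normal).eq_bot_or_eq_top with
      h1 | h1
    · rw [h1] at hcompl
      have h2 : (P : Subgroup S) = ⊤ := by
        have := Subgroup.isComplement'_bot_left.1 hcompl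
        exact this
      obtain ⟨a, ha, b, hb, hab⟩ := hna
      apply hab
      have ha' : a ∈ C := hPC ⟨⟨a, ha⟩, by rw [h2]; exact mem_top _, rfl⟩
      have hb' : b ∈ C := hPC ⟨⟨b, hb⟩, by rw [h2]; exact mem_top _, rfl⟩
      exact h.comm a ha' b hb'
    · rw [h1] at hcompl
      have h2 : (P : Subgroup S) = ⊥ := Subgroup.isComplement'_top_left.1 hcompl
      have h3 : (⟨z, hzS⟩ : S) ∈ (P : Subgroup S) := hP (mem_zpowers _)
      rw [h2, Subgroup.mem_bot] at h3
      exact hz1 (congrArg Subtype.val h3)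
  have hCS : C ≤ S := h.le_of_mem_normalizer hS hgS hgN hgC
  -- `N_G(C) ≤ S`
  have hNS : normalizer (C : Set G) ≤ S := by
    have hCN : C ≤ normalizer (C : Set G) := le_normalizer
    set L : Subgroup G := C ⊔ zpowers g with hL
    have hLN : L ≤ normalizer (C : Set G) :=
      sup_le hCN ((zpowers_le).2 hgN)
    have hLS : L ≤ S := sup_le hCS ((zpowers_le).2 hgS)
    have hCL : C ≤ L := le_sup_left
    have hmul := Subgroup.relIndex_mul_relIndex C L (normalizer (C : Set G)) hCL hLN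
    have hne : C.relIndex L ≠ 1 := by
      intro h1
      rw [Subgroup.relIndex_eq_one] at h1
      exact hgC (h1 (le_sup_right (a := C) (mem_zpowers g)))
    have h2 : L.relIndex (normalizer (C : Set G)) = 1 := by
      rw [← hmul] at hidx
      rcases (Nat.prime_mul_iff.1 hidx) with h3 | h3
      · exact h3.2
      · exact absurd h3.2 hne
    rw [Subgroup.relIndex_eq_one] at h2
    exact h2.trans hLS
  -- Frattini
  have hfr := Sylow.normalizer_sup_eq_top P
  rw [eq_top_iff, ← hfr]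
  exact sup_le (hNP.trans hNS) le_rfl

end CC

end Cfsg.Agent.H926.Cc
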