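import Cfsg.Agent.H954.FieldSub
import Cfsg.Agent.H926.CcSimple

/-!
# Matrix copies of a field of degree `n`

`φ : E →ₐ[F] Matrix ι ι F` with `[E : F] = |ι|`: the centraliser of `φ(E)` (of `φ a`, `a ∉ F`, if `|ι|` is prime)
is `φ(E)`; determinants are norms.
-/

set_option autoImplicit false

namespace Cfsg.Agent.H926.Cc

open Module

variable {ι : Type} [Fintype ι] [DecidableEq ι] {F : Type*} [Field F] {E : Type*} [Field E]
  [Algebra F E]

/-- `φ a` is invertible for `a ≠ 0`. -/
theorem phi_mulVec_ne (φ : E →ₐ[F] Matrix ι ι F) {a : E} (ha : a ≠ 0) {v : ι → F} (hv : v ≠ 0) :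
    (φ a).mulVec v ≠ 0 := by
  intro h
  apply hv
  have h1 : (φ a⁻¹).mulVec ((φ a).mulVec v) = v := by
    rw [Matrix.mulVec_mulVec, ← map_mul, inv_mul_cancel₀ ha, map_one, Matrix.one_mulVec]
  rw [← h1, h, Matrix.mulVec_zero]

/-- The vector space is `E v`. -/
noncomputable def coordEquiv [Finite F] [FiniteDimensional F E] (φ : E →ₐ[F] Matrix ι ι F)
    (hfr : finrank F E = Fintype.card ι) (v : ι → F) (hv : v ≠ 0) : E ≃ₗ[F] (ι → F) :=
  LinearEquiv.ofInjectiveOfFinrankEq
    { toFun := fun a => (φ a).mulVec v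
      map_add' := fun a b => by rw [map_add, Matrix.add_mulVec]
      map_smul' := fun c a => by
        rw [map_smul, Matrix.smul_mulVec, RingHom.id_apply] }
    (by
      intro a b hab
      by_contra hne
      refine phi_mulVec_ne φ (sub_ne_zero.2 hne) hv ?_
      rw [map_sub, Matrix.sub_mulVec, sub_eq_zero]
      exact hab)
    (by rw [hfr, Module.finrank_fintype_fun_eq_card])

theorem coordEquiv_apply [Finite F] [FiniteDimensional F E] (φ : E →ₐ[F] Matrix ι ι F)
    (hfr : finrank F E = Fintype.card ι) (v : ι → F) (hv : v ≠ 0) (a : E) :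
    coordEquiv φ hfr v hv a = (φ a).mulVec v := rfl

variable [Finite F] [FiniteDimensional F E]

omit [DecidableEq ι] [Finite F] in
theorem exists_ne_zero_vec (hfr : finrank F E = Fintype.card ι) : ∃ v : ι → F, v ≠ 0 := by
  have h1 : 0 < Fintype.card ι := by rw [← hfr]; exact finrank_pos
  have : Nonempty ι := Fintype.card_pos_iff.1 h1
  exact ⟨1, one_ne_zero⟩

/-- The centraliser of `φ(E)` is `φ(E)`. -/
theorem exists_eq_of_commute (φ : E →ₐ[F] Matrix ι ι F) (hfr : finrank F E = Fintype.card ι)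
    {m : Matrix ι ι F} (hm : ∀ a, m * φ a = φ a * m) : ∃ b, m = φ b := by
  obtain ⟨v, hv⟩ := exists_ne_zero_vec hfr
  set e := coordEquiv φ hfr v hv with he
  obtain ⟨b, hb⟩ := e.surjective (m.mulVec v)
  refine ⟨b, ?_⟩
  apply Matrix.mulVec_injective
  funext w
  obtain ⟨a, rfl⟩ := e.surjective w
  have hb' : (φ b).mulVec v = m.mulVec v := hb
  show m.mulVec ((φ a).mulVec v) = (φ b).mulVec ((φ a).mulVec v)
  rw [Matrix.mulVec_mulVec, hm a, ← Matrix.mulVec_mulVec, ← hb', Matrix.mulVec_mulVec,
    Matrix.mulVec_mulVec, ← map_mul, ← map_mul, mul_comm]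

omit [Finite F] in
/-- In prime degree, a matrix commuting with `φ a`, `a ∉ F`, commutes with `φ(E)`. -/
theorem commute_all (hp : (finrank F E).Prime) (φ : E →ₐ[F] Matrix ι ι F) {a : E}
    (ha : ∀ c : F, a ≠ algebraMap F E c) {m : Matrix ι ι F} (hm : m * φ a = φ a * m) (b : E) :
    m * φ b = φ b * m := by
  have h1 : IntermediateField.adjoin F {a} = ⊤ := by
    have hmul := Module.finrank_mul_finrank F (IntermediateField.adjoin F {a}) E
    rw [← hmul] at hp
    rcases Nat.prime_mul_iff.1 hp with h2 | h2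
    · apply IntermediateField.eq_of_le_of_finrank_eq le_top
      rw [IntermediateField.finrank_top', ← hmul, h2.2, mul_one]
    · exfalso
      have h3 := IntermediateField.finrank_eq_one_iff.1 h2.2
      have h4 : a ∈ IntermediateField.adjoin F {a} :=
        IntermediateField.mem_adjoin_simple_self F a
      rw [h3, IntermediateField.mem_bot] at h4
      obtain ⟨c, hc⟩ := h4
      exact ha c hc.symm
  have h2 : b ∈ IntermediateField.adjoin F {a} := by rw [h1]; exact IntermediateField.mem_top
  have h3 : b ∈ Algebra.adjoin F {a} := by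
    rw [← IntermediateField.adjoin_simple_toSubalgebra_of_isAlgebraic
      (Algebra.IsAlgebraic.isAlgebraic a)]
    exact h2
  induction h3 using Algebra.adjoin_induction with
  | mem x hx => rw [Set.mem_singleton_iff.1 hx]; exact hm
  | algebraMap r => rw [AlgHom.commutes, Algebra.commutes]
  | add x y _ _ hx hy => rw [map_add, mul_add, add_mul, hx (by rw [h1]; trivial), hy (by rw [h1]; trivial)]
  | mul x y _ _ hx hy =>
    rw [map_mul, ← mul_assoc, hx (by rw [h1]; trivial), mul_assoc, hy (by rw [h1]; trivial), mul_assoc]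

/-- The determinant is the norm. -/
theorem det_phi (φ : E →ₐ[F] Matrix ι ι F) (hfr : finrank F E = Fintype.card ι) (a : E) :
    Matrix.det (φ a) = Algebra.norm F a := by
  obtain ⟨v, hv⟩ := exists_ne_zero_vec hfr
  set e := coordEquiv φ hfr v hv with he
  have h1 : Matrix.toLin' (φ a) = (e : E →ₗ[F] (ι → F)) ∘ₗ (Algebra.lmul F E a) ∘ₗ
      (e.symm : (ι → F) →ₗ[F] E) := by
    ext1 i
    ext1
    obtain ⟨b, hb⟩ := e.surjective (Pi.single i 1)
    simp only [LinearMap.comp_apply, LinearEquiv.coe_coe, LinearMap.coe_single]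
    rw [← hb, LinearEquiv.symm_apply_apply]
    show (φ a).mulVec (e b) = e (a * b)
    rw [he, coordEquiv_apply, coordEquiv_apply, map_mul, Matrix.mulVec_mulVec]
  rw [← LinearMap.det_toLin', h1, LinearMap.det_conj, Algebra.norm_apply]

end Cfsg.Agent.H926.Cc
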