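import Cfsg.Agent.H926.Deg

/-!
# Self-adjoint field subalgebras of degree `n / 2` (helper926)

`K` a self-adjoint field subalgebra of degree `r`, `card ι = 2 r`.
-/

set_option autoImplicit false
set_option linter.unusedSectionVars false

namespace Cfsg.Agent.H926

open QuadraticMap Matrix Cfsg.Geo
open Cfsg.Agent.H919 Cfsg.Agent.H924

variable {ι : Type} [Fintype ι] [DecidableEq ι] {F : Type*} [Field F]

section KForm

variable [Nonempty ι] {r : ℕ} {K : Subalgebra F (Matrix ι ι F)} (hK : IsFieldSubalgebra r K) {τ : K →ₗ[F] F}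
  (hτ : τ ≠ 0) {f : (ι → F) → (ι → F) → F} (hf : IsBilinearForm f)

theorem kForm_add_left (u u' v : ι → F) :
    kForm hK hτ hf (u + u') v = kForm hK hτ hf u v + kForm hK hτ hf u' v :=
  kForm_unique hK hτ hf fun k => by
    rw [mul_add, map_add, kForm_spec, kForm_spec, Matrix.mulVec_add, hf.add_left]

theorem kForm_add_right (u v v' : ι → F) :
    kForm hK hτ hf u (v + v') = kForm hK hτ hf u v + kForm hK hτ hf u v' :=
  kForm_unique hK hτ hf fun k => by
    rw [mul_add, map_add, kForm_spec, kForm_spec, hf.add_right]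

theorem kForm_smul_left (c : K) (u v : ι → F) :
    kForm hK hτ hf ((c : Matrix ι ι F) *ᵥ u) v = c * kForm hK hτ hf u v :=
  kForm_unique hK hτ hf fun k => by
    rw [← mul_assoc, kForm_spec, Matrix.mulVec_mulVec]
    rfl

theorem kForm_smul_right (hsa : IsSelfAdjointFor f K) (c : K) (u v : ι → F) :
    kForm hK hτ hf u ((c : Matrix ι ι F) *ᵥ v) = c * kForm hK hτ hf u v :=
  kForm_unique hK hτ hf fun k => by
    have h1 : k * (c * kForm hK hτ hf u v) = (c * k) * kForm hK hτ hf u v := by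
      rw [← mul_assoc]
      congr 1
      exact Subtype.ext (hK.comm _ k.2 _ c.2)
    rw [h1, kForm_spec, ← hsa c c.2, Matrix.mulVec_mulVec]
    rfl

theorem kForm_comm (hsa : IsSelfAdjointFor f K) (hsymm : ∀ u v, f u v = f v u) (u v : ι → F) :
    kForm hK hτ hf u v = kForm hK hτ hf v u :=
  kForm_unique hK hτ hf fun k => by
    rw [kForm_spec, hsa k k.2, hsymm]

theorem form_eq_zero_of_kForm {u v : ι → F} (h : kForm hK hτ hf u v = 0) : f u v = 0 := by
  have h1 := kForm_spec hK hτ hf u v 1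
  rw [h, mul_zero, map_zero] at h1
  rw [h1]
  show f u v = f ((1 : Matrix ι ι F) *ᵥ u) v
  rw [Matrix.one_mulVec]

/-- Adjointness over `K`. -/
theorem kForm_adj {x y : Matrix ι ι F} (hx : ∀ k ∈ K, x * k = k * x) (hxy : ∀ u v, f (x *ᵥ u) v = f u (y *ᵥ v))
    (u v : ι → F) : kForm hK hτ hf (x *ᵥ u) v = kForm hK hτ hf u (y *ᵥ v) :=
  kForm_unique hK hτ hf fun k => by
    rw [kForm_spec, Matrix.mulVec_mulVec, ← hx k k.2, ← Matrix.mulVec_mulVec, hxy]

end KForm

/-- Two generators over a field subalgebra of degree `n / 2`, and non-commuting elements of the centraliser. -/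
theorem exists_two_gen [Nonempty ι] {r : ℕ} {K : Subalgebra F (Matrix ι ι F)} (hK : IsFieldSubalgebra r K)
    (hn : Fintype.card ι = 2 * r) :
    (∃ e₁ e₂ : ι → F, ∀ v, ∃ a b : K, v = (a : Matrix ι ι F) *ᵥ e₁ + (b : Matrix ι ι F) *ᵥ e₂) ∧
    (∃ x y : Matrix ι ι F, (∀ k ∈ K, x * k = k * x) ∧ (∀ k ∈ K, y * k = k * y) ∧ x * y ≠ y * x) := by
  let _ : Field K := (H912.isField_of_fieldSub hK).toField
  have hfr : Module.finrank K (ι → F) = 2 := by
    have h1 := Module.finrank_mul_finrank F K (ι → F)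
    rw [hK.finrank_eq, Module.finrank_fintype_fun_eq_card, hn, mul_comm 2 r] at h1
    exact Nat.eq_of_mul_eq_mul_left (H912.finrank_pos_fieldSub hK) h1
  have : Module.Finite K (ι → F) := Module.finite_of_finrank_pos (by omega)
  let b := Module.finBasisOfFinrankEq K (ι → F) hfr
  constructor
  · refine ⟨b 0, b 1, fun v => ⟨b.repr v 0, b.repr v 1, ?_⟩⟩
    have := b.sum_repr v
    rw [Fin.sum_univ_two] at this
    exact this.symm
  · -- rank one `K`-linear maps
    have hmk : ∀ T : (ι → F) →ₗ[K] (ι → F), ∃ x : Matrix ι ι F, (∀ v, x *ᵥ v = T v) ∧ (∀ k ∈ K, x * k = k * x) := by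
      intro T
      refine ⟨LinearMap.toMatrix' (T.restrictScalars F), fun v => ?_, fun k hk => ?_⟩
      · rw [LinearMap.toMatrix'_mulVec]; rfl
      · apply Matrix.toLin'.injective
        apply LinearMap.ext
        intro v
        rw [Matrix.toLin'_apply, Matrix.toLin'_apply, ← Matrix.mulVec_mulVec, ← Matrix.mulVec_mulVec,
          LinearMap.toMatrix'_mulVec, LinearMap.toMatrix'_mulVec]
        exact T.map_smul ⟨k, hk⟩ v
    obtain ⟨x, hx, hxK⟩ := hmk (b.constr K ![b 1, 0])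
    obtain ⟨y, hy, hyK⟩ := hmk (b.constr K ![0, b 0])
    refine ⟨x, y, hxK, hyK, fun hcomm => ?_⟩
    have h1 : (x * y) *ᵥ (b 0) = (y * x) *ᵥ (b 0) := by rw [hcomm]
    rw [← Matrix.mulVec_mulVec, ← Matrix.mulVec_mulVec, hy, hx, hx, Module.Basis.constr_basis, Module.Basis.constr_basis] at h1
    simp only [Matrix.cons_val_zero, map_zero] at h1
    rw [hy, Module.Basis.constr_basis] at h1
    simp only [Matrix.cons_val_one] at h1
    exact b.ne_zero 0 h1.symm

section Odd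

variable [Nonempty ι] {r : ℕ} {K : Subalgebra F (Matrix ι ι F)} {f : (ι → F) → (ι → F) → F}

/-- Skew elements of the centraliser. -/
def IsSkewFor (f : (ι → F) → (ι → F) → F) (K : Subalgebra F (Matrix ι ι F)) (x : Matrix ι ι F) : Prop :=
  (∀ k ∈ K, x * k = k * x) ∧ ∀ u v, f (x *ᵥ u) v = f u ((-x) *ᵥ v)

theorem IsSkewFor.sub_smul (hf : IsBilinearForm f) (hK : IsFieldSubalgebra r K) (hsa : IsSelfAdjointFor f K)
    {x y : Matrix ι ι F} (hx : IsSkewFor f K x) (hy : IsSkewFor f K y) {k : Matrix ι ι F} (hk : k ∈ K) :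
    IsSkewFor f K (y - k * x) := by
  refine ⟨fun l hl => ?_, fun u v => ?_⟩
  · rw [sub_mul, mul_sub, hy.1 l hl, mul_assoc, hx.1 l hl, ← mul_assoc, ← mul_assoc, hK.comm k hk l hl]
  · have h1 : f (y *ᵥ u) v = - f u (y *ᵥ v) := by
      rw [hy.2, Matrix.neg_mulVec]
      have := hf.smul_right (-1) u (y *ᵥ v)
      rwa [neg_one_smul, neg_one_mul] at this
    have h2 : f ((k * x) *ᵥ u) v = - f u ((k * x) *ᵥ v) := by
      rw [← Matrix.mulVec_mulVec, hsa k hk, hx.2, Matrix.neg_mulVec, Matrix.mulVec_mulVec, hx.1 k hk]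
      have := hf.smul_right (-1) u ((k * x) *ᵥ v)
      rwa [neg_one_smul, neg_one_mul] at this
    have h3 : f ((y - k * x) *ᵥ u) v = f (y *ᵥ u) v - f ((k * x) *ᵥ u) v := by
      rw [Matrix.sub_mulVec, sub_eq_add_neg, hf.add_left]
      have := hf.smul_left (-1) ((k * x) *ᵥ u) v
      rw [neg_one_smul, neg_one_mul] at this
      rw [this, sub_eq_add_neg]
    have h4 : f u ((-(y - k * x)) *ᵥ v) = - f u (y *ᵥ v) + f u ((k * x) *ᵥ v) := by
      have h5 : (-(y - k * x)) *ᵥ v = (-1 : F) • (y *ᵥ v) + (k * x) *ᵥ v := by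
        rw [neg_sub, Matrix.sub_mulVec, neg_one_smul]
        abel
      rw [h5, hf.add_right, hf.smul_right, neg_one_mul]
    rw [h3, h4, h1, h2]
    ring

/-- A skew element vanishing on a generating pair vanishes. -/
theorem IsSkewFor.eq_zero (hf : IsBilinearForm f) (hsymm : ∀ u v, f u v = f v u) (hnd : IsNondegenerateForm f)
    (h2 : (2 : F) ≠ 0) (hK : IsFieldSubalgebra r K) (hsa : IsSelfAdjointFor f K) {τ : K →ₗ[F] F} (hτ : τ ≠ 0)
    {e₁ e₂ : ι → F} (hspan : ∀ v, ∃ a b : K, v = (a : Matrix ι ι F) *ᵥ e₁ + (b : Matrix ι ι F) *ᵥ e₂)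
    {x : Matrix ι ι F} (hx : IsSkewFor f K x) (h0 : kForm hK hτ hf (x *ᵥ e₁) e₂ = 0) : x = 0 := by
  have hneg : ∀ u v, kForm hK hτ hf u (-v) = - kForm hK hτ hf u v := by
    intro u v
    refine kForm_unique hK hτ hf fun k => ?_
    have h1 : k * -kForm hK hτ hf u v = -(k * kForm hK hτ hf u v) := Subtype.ext (mul_neg _ _)
    rw [h1, map_neg, kForm_spec, ← neg_one_smul F v, hf.smul_right, neg_one_mul]
  have hskew : ∀ u v, kForm hK hτ hf (x *ᵥ u) v = - kForm hK hτ hf (x *ᵥ v) u := by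
    intro u v
    rw [kForm_adj hK hτ hf hx.1 hx.2, Matrix.neg_mulVec, hneg, kForm_comm hK hτ hf hsa hsymm]
  have h2K : ∀ a : K, a = -a → a = 0 := by
    intro a ha
    have h3 : (2 : F) • a = 0 := by
      rw [two_smul]
      nth_rw 2 [ha]
      rw [add_neg_cancel]
    rcases smul_eq_zero.1 h3 with h | h
    · exact absurd h h2
    · exact h
  have h11 : kForm hK hτ hf (x *ᵥ e₁) e₁ = 0 := h2K _ (hskew e₁ e₁)
  have h22 : kForm hK hτ hf (x *ᵥ e₂) e₂ = 0 := h2K _ (hskew e₂ e₂)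
  have h21 : kForm hK hτ hf (x *ᵥ e₂) e₁ = 0 := by rw [hskew, h0, neg_zero]
  have hall : ∀ u v, f (x *ᵥ u) v = 0 := by
    intro u v
    apply form_eq_zero_of_kForm hK hτ hf
    obtain ⟨a, b, rfl⟩ := hspan u
    obtain ⟨c, d, rfl⟩ := hspan v
    rw [Matrix.mulVec_add, Matrix.mulVec_mulVec, Matrix.mulVec_mulVec, hx.1 a a.2, hx.1 b b.2,
      ← Matrix.mulVec_mulVec, ← Matrix.mulVec_mulVec, kForm_add_left, kForm_add_right, kForm_add_right,
      kForm_smul_left, kForm_smul_left, kForm_smul_left, kForm_smul_left,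
      kForm_smul_right hK hτ hf hsa, kForm_smul_right hK hτ hf hsa, kForm_smul_right hK hτ hf hsa,
      kForm_smul_right hK hτ hf hsa, h11, h22, h21, h0]
    simp
  apply Matrix.toLin'.injective
  apply LinearMap.ext
  intro u
  rw [Matrix.toLin'_apply, map_zero, LinearMap.zero_apply]
  by_contra hne
  obtain ⟨v, hv⟩ := (hnd _ hne).2
  exact hv (hall u v)

/-- The skew elements of the centraliser form a `K`-line. -/
theorem IsSkewFor.exists_smul (hf : IsBilinearForm f) (hsymm : ∀ u v, f u v = f v u) (hnd : IsNondegenerateForm f)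
    (h2 : (2 : F) ≠ 0) (hK : IsFieldSubalgebra r K) (hsa : IsSelfAdjointFor f K) (hn : Fintype.card ι = 2 * r)
    {x y : Matrix ι ι F} (hx : IsSkewFor f K x) (hx0 : x ≠ 0) (hy : IsSkewFor f K y) :
    ∃ k ∈ K, y = k * x := by
  obtain ⟨τ, hτ⟩ := exists_tau K
  obtain ⟨⟨e₁, e₂, hspan⟩, -⟩ := exists_two_gen hK hn
  have hc : kForm hK hτ hf (x *ᵥ e₁) e₂ ≠ 0 := fun h =>
    hx0 (hx.eq_zero hf hsymm hnd h2 hK hsa hτ hspan h)
  obtain ⟨c', hc', hcc⟩ := hK.inv _ (kForm hK hτ hf (x *ᵥ e₁) e₂).2 (fun h => hc (Subtype.ext h))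
  let k : K := kForm hK hτ hf (y *ᵥ e₁) e₂ * ⟨c', hc'⟩
  refine ⟨k, k.2, ?_⟩
  have h0 : kForm hK hτ hf ((y - (k : Matrix ι ι F) * x) *ᵥ e₁) e₂ = 0 := by
    have h1 : (y - (k : Matrix ι ι F) * x) *ᵥ e₁ = y *ᵥ e₁ + (((-k : K) : Matrix ι ι F)) *ᵥ (x *ᵥ e₁) := by
      rw [Matrix.sub_mulVec, ← Matrix.mulVec_mulVec, sub_eq_add_neg, ← Matrix.neg_mulVec]
      rfl
    rw [h1, kForm_add_left, kForm_smul_left]
    apply Subtype.ext
    show (kForm hK hτ hf (y *ᵥ e₁) e₂ : Matrix ι ι F) +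
      -((kForm hK hτ hf (y *ᵥ e₁) e₂ : Matrix ι ι F) * c') * (kForm hK hτ hf (x *ᵥ e₁) e₂ : Matrix ι ι F) = 0
    rw [neg_mul, mul_assoc, hK.comm c' hc' _ (kForm hK hτ hf (x *ᵥ e₁) e₂).2, hcc, mul_one, add_neg_cancel]
  exact sub_eq_zero.1 ((hx.sub_smul hf hK hsa hy k.2).eq_zero hf hsymm hnd h2 hK hsa hτ hspan h0)

/-- There is a nonzero skew element of the centraliser. -/
theorem exists_skew (hf : HermForm (RingEquiv.refl F) 1 f) (hb : IsBilinearForm f)
    (hK : IsFieldSubalgebra r K) (hsa : IsSelfAdjointFor f K)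
    (hn : Fintype.card ι = 2 * r) : ∃ x, IsSkewFor f K x ∧ x ≠ 0 := by
  by_contra hc
  push Not at hc
  have hKfix : ∀ k ∈ K, adjM (RingEquiv.refl F) f k = k := fun k hk => adjM_eq hf (hsa k hk)
  have hstC : ∀ x : Matrix ι ι F, (∀ k ∈ K, x * k = k * x) → ∀ k ∈ K, adjM (RingEquiv.refl F) f x * k = k * adjM (RingEquiv.refl F) f x := by
    intro x hx k hk
    have := congrArg (adjM (RingEquiv.refl F) f) (hx k hk)
    rw [adjM_mul hf, adjM_mul hf, hKfix k hk] at this
    exact this.symm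
  have hfix : ∀ x : Matrix ι ι F, (∀ k ∈ K, x * k = k * x) → adjM (RingEquiv.refl F) f x = x := by
    intro x hx
    have h1 : IsSkewFor f K (x - adjM (RingEquiv.refl F) f x) := by
      refine ⟨fun k hk => by rw [sub_mul, mul_sub, hx k hk, hstC x hx k hk], fun u v => ?_⟩
      have h3 : IsAdj f (x - adjM (RingEquiv.refl F) f x) (-(x - adjM (RingEquiv.refl F) f x)) := by
        have h4 := isAdj_adjM hf (x - adjM (RingEquiv.refl F) f x)
        have h5 : adjM (RingEquiv.refl F) f (x - adjM (RingEquiv.refl F) f x) = -(x - adjM (RingEquiv.refl F) f x) := by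
          rw [sub_eq_add_neg, ← neg_one_smul F (adjM (RingEquiv.refl F) f x), adjM_add hf, adjM_smul hf, adjM_adjM hf]
          simp only [RingEquiv.refl_apply, neg_smul, one_smul]
          abel
        rwa [h5] at h4
      exact h3 u v
    exact (sub_eq_zero.1 (hc _ h1)).symm
  obtain ⟨-, x, y, hx, hy, hxy⟩ := exists_two_gen hK hn
  apply hxy
  have hxyC : ∀ k ∈ K, (x * y) * k = k * (x * y) := by
    intro k hk
    rw [mul_assoc, hy k hk, ← mul_assoc, hx k hk, mul_assoc]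
  have h1 := hfix (x * y) hxyC
  rw [adjM_mul hf] at h1
  rw [← h1]
  rw [hfix x hx, hfix y hy]

end Odd

end Cfsg.Agent.H926
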