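import Cfsg.Agent.H926.MElEig

/-!
# The decomposition of a 10-dimensional representation under `E : Q` (helper926)
-/

set_option autoImplicit false

namespace Cfsg.Agent.H926.MEl

open Module

variable {G X : Type*} [Group G] [MulAction G X] {a b c : X} {E : Subgroup G} {z : G}

theorem Loc.normQ (hL : Loc G a b c E z) : ∀ q ∈ Q G a b c, ∀ e ∈ E, q * e * q⁻¹ ∈ E := by
  intro q hq e he
  obtain ⟨h1, h2, -⟩ := mem_Q.1 hq
  exact hL.norm q (Or.inl ⟨h1, h2⟩) e he

theorem Loc.finE (hL : Loc G a b c E z) : Finite E := Nat.finite_of_card_ne_zero (by rw [hL.cardE]; norm_num)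

theorem Loc.finQ (hL : Loc G a b c E z) : Finite (Q G a b c) := Nat.finite_of_card_ne_zero (by rw [hL.cardQ]; norm_num)

/-- `Q` acts semiregularly on the nontrivial characters of `E` -/
theorem Loc.chi (hL : Loc G a b c E z) {k : Type*} [Field k] {χ : E →* k} (hχ : ∃ e, χ e ≠ 1) :
    ∀ q ∈ Q G a b c, (∀ e e' : E, (e' : G) = q * e * q⁻¹ → χ e' = χ e) → q = 1 := by
  intro q hq h
  by_contra hq1
  obtain ⟨e0, he0⟩ := hχ
  apply he0
  have := hL.finE
  let δ : E → E := fun e => ⟨(e : G)⁻¹ * (q * e * q⁻¹), mul_mem (inv_mem e.2) (hL.normQ q hq e e.2)⟩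
  have hδ : Function.Injective δ := by
    intro e e' hee
    have h1 : (e : G)⁻¹ * (q * e * q⁻¹) = (e' : G)⁻¹ * (q * e' * q⁻¹) := congrArg Subtype.val hee
    have hc := hL.comm _ (hL.normQ q hq e e.2)
    have h2 : q * ((e : G) * (e' : G)⁻¹) = ((e : G) * (e' : G)⁻¹) * q := by
      have h3 : (q * e * q⁻¹) * (q * e' * q⁻¹)⁻¹ = (e : G) * (e' : G)⁻¹ := by
        have h5 : (q * e * q⁻¹) = (e : G) * ((e' : G)⁻¹ * (q * e' * q⁻¹)) := by rw [← h1]; group
        rw [h5]; group
      calc q * ((e : G) * (e' : G)⁻¹) = (q * e * q⁻¹) * (q * e' * q⁻¹)⁻¹ * q := by group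
        _ = ((e : G) * (e' : G)⁻¹) * q := by rw [h3]
    by_contra hne
    apply hq1
    refine hL.semi q hq _ (mul_mem e.2 (inv_mem e'.2)) h2 ?_
    intro h3
    exact hne (Subtype.ext (mul_inv_eq_one.1 h3))
  obtain ⟨e, he⟩ := Finite.injective_iff_surjective.1 hδ e0
  rw [← he]
  have h1 : δ e = e⁻¹ * ⟨q * e * q⁻¹, hL.normQ q hq e e.2⟩ := rfl
  rw [h1, map_mul, h e ⟨q * e * q⁻¹, hL.normQ q hq e e.2⟩ rfl, ← map_mul, inv_mul_cancel, map_one]

variable {k : Type*} [Field k] {V : Type*} [AddCommGroup V] [Module k V] (ρ : G →* Module.End k V)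

/-- the fixed vectors of `E` -/
def fixE (E : Subgroup G) : Submodule k V where
  carrier := {v | ∀ e ∈ E, ρ e v = v}
  add_mem' := fun {u v} hu hv e he => by rw [map_add, hu e he, hv e he]
  zero_mem' := fun e _ => map_zero _
  smul_mem' := fun c v hv e he => by rw [map_smul, hv e he]

theorem mem_fixE {v : V} : v ∈ fixE ρ E ↔ ∀ e ∈ E, ρ e v = v := Iff.rfl

variable [Finite G] [IsAlgClosed k] [FiniteDimensional k V]

omit [FiniteDimensional k V] [IsAlgClosed k] [Finite G] in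
theorem Loc.nine_ne (hL : Loc G a b c E z) (h3 : (3 : k) ≠ 0) : (Nat.card E : k) ≠ 0 := by
  rw [hL.cardE]
  have : ((9 : ℕ) : k) = 3 * 3 := by norm_num
  rw [this]
  exact mul_ne_zero h3 h3

/-- an invariant subspace on which `E` acts nontrivially has dimension at least 8 -/
theorem Loc.eight_le (hL : Loc G a b c E z) (h3 : (3 : k) ≠ 0) (U : Submodule k V) (hE : ∀ e ∈ E, ∀ u ∈ U, ρ e u ∈ U)
    (hQ : ∀ q ∈ Q G a b c, ∀ u ∈ U, ρ q u ∈ U) (hne : ∃ u ∈ U, ∃ e ∈ E, ρ e u ≠ u) : 8 ≤ finrank k U := by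
  obtain ⟨u, hu, hu0, χ, hχ, hχ1⟩ := exists_eigen ρ hL.comm (hL.nine_ne h3) U hE hne
  have hli := indep ρ hL.normQ hu0 hχ (hL.chi hχ1)
  have := hL.finQ
  have := Fintype.ofFinite (Q G a b c)
  have h1 : LinearIndependent k (fun q : Q G a b c => (⟨ρ q u, hQ q q.2 u hu⟩ : U)) := by
    apply LinearIndependent.of_comp U.subtype
    exact hli
  have h2 := h1.fintype_card_le_finrank
  rwa [← Nat.card_eq_fintype_card, hL.cardQ] at h2

variable {f : LinearMap.BilinForm k V}

/-- **The decomposition** `V = M ⊕ W`, `W = C_V(E)`, `dim W = 2`, `M` has the basis `ρ q u`, `q ∈ Q`. -/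
theorem Loc.dec (hL : Loc G a b c E z) (h3 : (3 : k) ≠ 0) (h10 : finrank k V = 10) (hρ : Function.Injective ρ)
    (hf : ∀ g v w, f (ρ g v) (ρ g w) = f v w) (hnd : f.Nondegenerate) :
    ∃ u : V, LinearIndependent k (fun q : Q G a b c => ρ q u) ∧
      IsCompl (Submodule.span k (Set.range fun q : Q G a b c => ρ q u)) (fixE ρ E) ∧
      (∀ e ∈ E, ∀ m ∈ Submodule.span k (Set.range fun q : Q G a b c => ρ q u),
        ρ e m ∈ Submodule.span k (Set.range fun q : Q G a b c => ρ q u)) ∧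
      (∀ m ∈ Submodule.span k (Set.range fun q : Q G a b c => ρ q u), m ∈ fixE ρ E → m = 0) ∧
      (∀ m ∈ Submodule.span k (Set.range fun q : Q G a b c => ρ q u), ∀ w ∈ fixE ρ E, f m w = 0) ∧
      finrank k (fixE ρ E : Submodule k V) = 2 := by
  have := hL.finQ
  have := hL.finE
  have := Fintype.ofFinite (Q G a b c)
  have := Fintype.ofFinite E
  -- E acts nontrivially
  have hne : ∃ u ∈ (⊤ : Submodule k V), ∃ e ∈ E, ρ e u ≠ u := by
    by_contra hcon
    push Not at hcon
    have h1 : ∀ e ∈ E, e = 1 := by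
      intro e he
      apply hρ
      apply LinearMap.ext
      intro v
      rw [hcon v trivial e he, rho_one]
    have h2 : E = ⊥ := by
      rw [Subgroup.eq_bot_iff_forall]; exact h1
    have h5 := hL.cardE
    rw [h2, Subgroup.card_bot] at h5
    norm_num at h5
  obtain ⟨u, -, hu0, χ, hχ, hχ1⟩ := exists_eigen ρ hL.comm (hL.nine_ne h3) ⊤ (fun _ _ _ _ => trivial) hne
  have hli := indep ρ hL.normQ hu0 hχ (hL.chi hχ1)
  set M : Submodule k V := Submodule.span k (Set.range fun q : Q G a b c => ρ q u) with hM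
  have hM8 : finrank k M = 8 := by
    rw [hM, finrank_span_eq_card hli, ← Nat.card_eq_fintype_card, hL.cardQ]
  have hmem : ∀ q : Q G a b c, ρ q u ∈ M := fun q => Submodule.subset_span ⟨q, rfl⟩
  -- eigenvectors
  have heig : ∀ q : Q G a b c, ∀ e ∈ E, ∃ c : k, ρ e (ρ q u) = c • ρ q u := by
    intro q e he
    have h1 : ρ e (ρ q u) = ρ q (ρ ((q : G)⁻¹ * e * q) u) := by
      rw [← rho_mul, ← rho_mul]
      congr 2
      group
    have h2 : (q : G)⁻¹ * e * q ∈ E := by
      have := hL.normQ (q : G)⁻¹ (inv_mem q.2) e he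
      rwa [inv_inv] at this
    refine ⟨χ ⟨(q : G)⁻¹ * e * q, h2⟩, ?_⟩
    rw [h1, show ρ ((q : G)⁻¹ * e * q) u = χ ⟨(q : G)⁻¹ * e * q, h2⟩ • u from hχ ⟨_, h2⟩, map_smul]
  have hME : ∀ e ∈ E, ∀ m ∈ M, ρ e m ∈ M := by
    intro e he m hm
    induction hm using Submodule.span_induction with
    | mem x hx =>
      obtain ⟨q, rfl⟩ := hx
      obtain ⟨c, hc⟩ := heig q e he
      change ρ e (ρ q u) ∈ M
      rw [hc]
      exact M.smul_mem _ (hmem q)
    | zero => rw [map_zero]; exact M.zero_mem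
    | add x y _ _ hx hy => rw [map_add]; exact M.add_mem hx hy
    | smul c x _ hx => rw [map_smul]; exact M.smul_mem _ hx
  have hMQ : ∀ r ∈ Q G a b c, ∀ m ∈ M, ρ r m ∈ M := by
    intro r hr m hm
    induction hm using Submodule.span_induction with
    | mem x hx =>
      obtain ⟨q, rfl⟩ := hx
      change ρ r (ρ q u) ∈ M
      rw [← rho_mul]
      exact hmem ⟨r * q, mul_mem hr q.2⟩
    | zero => rw [map_zero]; exact M.zero_mem
    | add x y _ _ hx hy => rw [map_add]; exact M.add_mem hx hy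
    | smul c x _ hx => rw [map_smul]; exact M.smul_mem _ hx
  -- W is orthogonal to M
  have hnontriv : ∀ q : Q G a b c, ∃ e ∈ E, ∃ c : k, c ≠ 1 ∧ ρ e (ρ q u) = c • ρ q u := by
    intro q
    obtain ⟨e0, he0⟩ := hχ1
    refine ⟨(q : G) * e0 * (q : G)⁻¹, hL.normQ q q.2 e0 e0.2, χ e0, he0, ?_⟩
    rw [← rho_mul, show (q : G) * e0 * (q : G)⁻¹ * q = q * e0 by group, rho_mul, hχ e0, map_smul]
  have horth : ∀ m ∈ M, ∀ w ∈ fixE ρ E, f m w = 0 := by
    intro m hm w hw
    induction hm using Submodule.span_induction with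
    | mem x hx =>
      obtain ⟨q, rfl⟩ := hx
      obtain ⟨e, he, c, hc1, hc⟩ := hnontriv q
      change f (ρ q u) w = 0
      have h1 := hf e (ρ q u) w
      rw [hc, hw e he, map_smul, LinearMap.smul_apply, smul_eq_mul] at h1
      have h2 : (c - 1) * f (ρ q u) w = 0 := by rw [sub_mul, h1, one_mul, sub_self]
      exact (mul_eq_zero.1 h2).resolve_left (sub_ne_zero.2 hc1)
    | zero => rw [map_zero, LinearMap.zero_apply]
    | add x y _ _ hx hy => rw [map_add, LinearMap.add_apply, hx, hy, add_zero]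
    | smul c x _ hx => rw [map_smul, LinearMap.smul_apply, hx, smul_zero]
  have hperp2 : finrank k (f.orthogonal M) = 2 := by
    rw [LinearMap.BilinForm.finrank_orthogonal hnd, h10, hM8]
  have hmo : ∀ v, v ∈ f.orthogonal M ↔ ∀ m ∈ M, f m v = 0 := by
    intro v
    rw [LinearMap.BilinForm.mem_orthogonal_iff]
  have hle : f.orthogonal M ≤ fixE ρ E := by
    by_contra hcon
    rw [SetLike.not_le_iff_exists] at hcon
    obtain ⟨v, hv, hv'⟩ := hcon
    rw [mem_fixE] at hv'
    push Not at hv'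
    obtain ⟨e, he, hev⟩ := hv'
    have h1 := hL.eight_le ρ h3 (f.orthogonal M) ?_ ?_ ⟨v, hv, e, he, hev⟩
    · rw [hperp2] at h1; norm_num at h1
    · intro e he v hv
      rw [hmo] at hv ⊢
      intro m hm
      have h2 := hf e (ρ e⁻¹ m) v
      rw [← rho_mul, mul_inv_cancel, rho_one] at h2
      rw [h2]
      exact hv _ (hME _ (inv_mem he) m hm)
    · intro q hq v hv
      rw [hmo] at hv ⊢
      intro m hm
      have h2 := hf q (ρ q⁻¹ m) v
      rw [← rho_mul, mul_inv_cancel, rho_one] at h2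
      rw [h2]
      exact hv _ (hMQ _ (inv_mem hq) m hm)
  have heq : f.orthogonal M = fixE ρ E := le_antisymm hle fun w hw => (hmo w).2 fun m hm => horth m hm w hw
  have hW2 : finrank k (fixE ρ E : Submodule k V) = 2 := by rw [← heq, hperp2]
  -- the sum over E kills M
  have hsum : ∀ m ∈ M, ∑ e : E, ρ e m = 0 := by
    intro m hm
    induction hm using Submodule.span_induction with
    | mem x hx =>
      obtain ⟨q, rfl⟩ := hx
      obtain ⟨e, he, c, hc1, hc⟩ := hnontriv q
      change ∑ e : E, ρ e (ρ q u) = 0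
      have h1 : ∑ e' : E, ρ e' (ρ e (ρ q u)) = ∑ e' : E, ρ e' (ρ q u) := by
        rw [← Equiv.sum_comp (Equiv.mulRight (⟨e, he⟩ : E)) (fun e' : E => ρ e' (ρ q u))]
        exact Finset.sum_congr rfl fun e' _ => by
          rw [Equiv.coe_mulRight, Subgroup.coe_mul, rho_mul]
      rw [hc] at h1
      simp only [map_smul, ← Finset.smul_sum] at h1
      have h2 : (c - 1) • ∑ e' : E, ρ e' (ρ q u) = 0 := by rw [sub_smul, h1, one_smul, sub_self]
      exact (smul_eq_zero.1 h2).resolve_left (sub_ne_zero.2 hc1)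
    | zero => simp
    | add x y _ _ hx hy => simp only [map_add, Finset.sum_add_distrib, hx, hy, add_zero]
    | smul c x _ hx => simp only [map_smul, ← Finset.smul_sum, hx, smul_zero]
  have hdis : ∀ m ∈ M, m ∈ fixE ρ E → m = 0 := by
    intro m hm hw
    have h1 := hsum m hm
    rw [Finset.sum_congr rfl fun (e : E) _ => hw e e.2, Finset.sum_const, Finset.card_univ,
      ← Nat.card_eq_fintype_card, ← Nat.cast_smul_eq_nsmul k] at h1
    exact (smul_eq_zero.1 h1).resolve_left (hL.nine_ne h3)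
  refine ⟨u, hli, ?_, hME, hdis, horth, hW2⟩
  have hd : Disjoint M (fixE ρ E) := by
    rw [Submodule.disjoint_def]
    exact hdis
  exact ⟨hd, codisjoint_iff.2 (Submodule.eq_top_of_disjoint _ _ (by rw [hM8, hW2, h10]) hd)⟩

end Cfsg.Agent.H926.MEl
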