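import Cfsg.Agent.H926.MElLoc

/-!
# Representations of `E : Q`, eigenvectors (helper926)
-/

set_option autoImplicit false

namespace Cfsg.Agent.H926.MEl

open Module

variable {G : Type*} [Group G] {k : Type*} [Field k] {V : Type*} [AddCommGroup V] [Module k V]
  (ρ : G →* Module.End k V)

theorem rho_mul (g h : G) (v : V) : ρ (g * h) v = ρ g (ρ h v) := by
  rw [map_mul]; rfl

theorem rho_one (v : V) : ρ 1 v = v := by
  rw [map_one]; rfl

theorem rho_inj (g : G) {v w : V} (h : ρ g v = ρ g w) : v = w := by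
  have h1 : ρ g⁻¹ (ρ g v) = ρ g⁻¹ (ρ g w) := by rw [h]
  rwa [← rho_mul, ← rho_mul, inv_mul_cancel, rho_one, rho_one] at h1

/-- A common eigenvector with nontrivial character. -/
theorem exists_eigen [Finite G] [IsAlgClosed k] [FiniteDimensional k V] {E : Subgroup G} (hcomm : ∀ e ∈ E, ∀ e' ∈ E, e * e' = e' * e) (hk : (Nat.card E : k) ≠ 0)
    (U : Submodule k V) (hU : ∀ e ∈ E, ∀ u ∈ U, ρ e u ∈ U) (hne : ∃ u ∈ U, ∃ e ∈ E, ρ e u ≠ u) :
    ∃ u ∈ U, u ≠ 0 ∧ ∃ χ : E →* k, (∀ e : E, ρ e u = χ e • u) ∧ ∃ e, χ e ≠ 1 := by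
  classical
  have := Fintype.ofFinite E
  let U1 : Submodule k V :=
    { carrier := {u | u ∈ U ∧ ∑ e : E, ρ e u = 0}
      add_mem' := by
        rintro u v ⟨hu, hu'⟩ ⟨hv, hv'⟩
        refine ⟨U.add_mem hu hv, ?_⟩
        simp only [map_add, Finset.sum_add_distrib, hu', hv', add_zero]
      zero_mem' := ⟨U.zero_mem, by simp⟩
      smul_mem' := by
        rintro c u ⟨hu, hu'⟩
        refine ⟨U.smul_mem c hu, ?_⟩
        simp only [map_smul, ← Finset.smul_sum, hu', smul_zero] }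
  have hmemU1 : ∀ u, u ∈ U1 ↔ u ∈ U ∧ ∑ e : E, ρ e u = 0 := fun u => Iff.rfl
  have hsum : ∀ (e' : E) (u : V), ∑ e : E, ρ e (ρ e' u) = ∑ e : E, ρ e u := by
    intro e' u
    rw [← Equiv.sum_comp (Equiv.mulRight e') (fun e : E => ρ e u)]
    exact Finset.sum_congr rfl fun e _ => by
      rw [Equiv.coe_mulRight, Subgroup.coe_mul, rho_mul]
  have hU1 : ∀ e ∈ E, ∀ u ∈ U1, ρ e u ∈ U1 := by
    intro e he u hu
    exact ⟨hU e he u hu.1, by rw [hsum ⟨e, he⟩]; exact hu.2⟩
  have hU1ne : U1 ≠ ⊥ := by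
    intro h
    obtain ⟨u, hu, e, he, heu⟩ := hne
    have h1 : ρ e u - u ∈ U1 := by
      refine ⟨U.sub_mem (hU e he u hu) hu, ?_⟩
      simp only [map_sub, Finset.sum_sub_distrib]
      rw [hsum ⟨e, he⟩, sub_self]
    rw [h, Submodule.mem_bot, sub_eq_zero] at h1
    exact heu h1
  have key : ∀ s : Finset E, ∃ U' : Submodule k V, U' ≤ U1 ∧ U' ≠ ⊥ ∧ (∀ e ∈ E, ∀ u ∈ U', ρ e u ∈ U') ∧
      ∀ e ∈ s, ∃ c : k, ∀ u ∈ U', ρ e u = c • u := by
    intro s
    induction s using Finset.induction_on with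
    | empty => exact ⟨U1, le_rfl, hU1ne, hU1, fun e he => absurd he (Finset.notMem_empty e)⟩
    | insert e s _ ih =>
      obtain ⟨U', hle, hne', hinv, hs⟩ := ih
      have hnt : Nontrivial U' := Submodule.nontrivial_iff_ne_bot.2 hne'
      let T : Module.End k U' := (ρ e).restrict (hinv e e.2)
      obtain ⟨μ, hμ⟩ := Module.End.exists_eigenvalue T
      obtain ⟨w, hw⟩ := hμ.exists_hasEigenvector
      let U'' : Submodule k V :=
        { carrier := {u | u ∈ U' ∧ ρ e u = μ • u}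
          add_mem' := by
            rintro u v ⟨hu, hu'⟩ ⟨hv, hv'⟩
            exact ⟨U'.add_mem hu hv, by rw [map_add, hu', hv', smul_add]⟩
          zero_mem' := ⟨U'.zero_mem, by simp⟩
          smul_mem' := by
            rintro c u ⟨hu, hu'⟩
            exact ⟨U'.smul_mem c hu, by rw [map_smul, hu', smul_comm]⟩ }
      refine ⟨U'', fun u hu => hle hu.1, ?_, ?_, ?_⟩
      · intro h
        have h1 : (w : V) ∈ U'' := by
          refine ⟨w.2, ?_⟩
          have h2 := hw.apply_eq_smul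
          have h3 := congrArg Subtype.val h2
          exact h3
        rw [h, Submodule.mem_bot] at h1
        exact hw.2 (Subtype.ext h1)
      · rintro e' he' u ⟨hu, hu'⟩
        refine ⟨hinv e' he' u hu, ?_⟩
        rw [← rho_mul, hcomm e e.2 e' he', rho_mul, hu', map_smul]
      · intro e' he'
        rw [Finset.mem_insert] at he'
        rcases he' with rfl | he'
        · exact ⟨μ, fun u hu => hu.2⟩
        · obtain ⟨c, hc⟩ := hs e' he'
          exact ⟨c, fun u hu => hc u hu.1⟩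
  obtain ⟨U', hle, hne', hinv, hs⟩ := key Finset.univ
  obtain ⟨u, hu, hu0⟩ := Submodule.exists_mem_ne_zero_of_ne_bot hne'
  choose c hc using fun e => hs e (Finset.mem_univ e)
  have hcu : ∀ e : E, ρ e u = c e • u := fun e => hc e u hu
  let χ : E →* k :=
    { toFun := c
      map_one' := by
        have h1 := hcu 1
        rw [Subgroup.coe_one, rho_one] at h1
        have h2 : (c 1 - 1) • u = 0 := by rw [sub_smul, one_smul, ← h1, sub_self]
        rcases smul_eq_zero.1 h2 with h | h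
        · exact sub_eq_zero.1 h
        · exact absurd h hu0
      map_mul' := by
        intro e e'
        have h1 := hcu (e * e')
        rw [Subgroup.coe_mul, rho_mul, hcu e', map_smul, hcu e, smul_smul] at h1
        have h2 : (c (e * e') - c e * c e') • u = 0 := by rw [sub_smul, ← h1, mul_comm, sub_self]
        rcases smul_eq_zero.1 h2 with h | h
        · exact sub_eq_zero.1 h
        · exact absurd h hu0 }
  refine ⟨u, (hle hu).1, hu0, χ, hcu, ?_⟩
  by_contra hcon
  push Not at hcon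
  have h1 : ∑ e : E, ρ e u = 0 := (hle hu).2
  have h2 : ∑ e : E, ρ e u = (Nat.card E : k) • u := by
    have h3 : ∀ e : E, ρ e u = u := fun e => by
      rw [hcu e, show c e = 1 from hcon e, one_smul]
    rw [Finset.sum_congr rfl fun e _ => h3 e, Finset.sum_const, Finset.card_univ, Nat.card_eq_fintype_card,
      Nat.cast_smul_eq_nsmul]
  rw [h2] at h1
  rcases smul_eq_zero.1 h1 with h | h
  · exact hk h
  · exact hu0 h

/-- the translates of an eigenvector are independent if the conjugate characters are different -/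
theorem indep {E : Subgroup G} {Q : Subgroup G} (hn : ∀ q ∈ Q, ∀ e ∈ E, q * e * q⁻¹ ∈ E) {u : V} (hu0 : u ≠ 0)
    {χ : E →* k} (hχ : ∀ e : E, ρ e u = χ e • u)
    (hinj : ∀ q ∈ Q, (∀ e e' : E, (e' : G) = q * e * q⁻¹ → χ e' = χ e) → q = 1) :
    LinearIndependent k (fun q : Q => ρ q u) := by
  classical
  -- the character of the q-th vector
  have hn' : ∀ q ∈ Q, ∀ e ∈ E, q⁻¹ * e * q ∈ E := by
    intro q hq e he
    have := hn q⁻¹ (inv_mem hq) e he
    rwa [inv_inv] at this
  let ψ : Q → (E →* k) := fun q =>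
    { toFun := fun e => χ ⟨(q : G)⁻¹ * e * q, hn' q q.2 e e.2⟩
      map_one' := by
        rw [show (⟨(q : G)⁻¹ * ((1 : E) : G) * q, hn' q q.2 _ (1 : E).2⟩ : E) = 1 by
          apply Subtype.ext; simp, map_one]
      map_mul' := by
        intro e e'
        rw [← map_mul]
        congr 1
        apply Subtype.ext
        simp only [Subgroup.coe_mul]
        group }
  have hψ : ∀ (q : Q) (e : E), ρ e (ρ q u) = ψ q e • ρ q u := by
    intro q e
    have h1 : ρ e (ρ q u) = ρ q (ρ ((q : G)⁻¹ * e * q) u) := by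
      rw [← rho_mul, ← rho_mul]
      congr 2
      group
    rw [h1]
    have h2 := hχ ⟨(q : G)⁻¹ * e * q, hn' q q.2 e e.2⟩
    rw [show ρ ((q : G)⁻¹ * e * q) u = χ ⟨(q : G)⁻¹ * e * q, hn' q q.2 e e.2⟩ • u from h2, map_smul]
    rfl
  have hψinj : Function.Injective ψ := by
    intro q q' h
    have h1 : (q : G)⁻¹ * q' = 1 := by
      apply hinj _ (mul_mem (inv_mem q.2) q'.2)
      intro e e' he
      have h2 := DFunLike.congr_fun h ⟨(q' : G) * e * (q' : G)⁻¹, hn q' q'.2 e e.2⟩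
      change χ ⟨(q : G)⁻¹ * ((q' : G) * e * (q' : G)⁻¹) * q, _⟩ = χ ⟨(q' : G)⁻¹ * ((q' : G) * e * (q' : G)⁻¹) * q', _⟩ at h2
      have h3 : e' = ⟨(q : G)⁻¹ * ((q' : G) * e * (q' : G)⁻¹) * q, hn' q q.2 _ (hn q' q'.2 e e.2)⟩ := by
        apply Subtype.ext
        rw [he]
        change _ = (q : G)⁻¹ * ((q' : G) * e * (q' : G)⁻¹) * q
        group
      have h5 : e = ⟨(q' : G)⁻¹ * ((q' : G) * e * (q' : G)⁻¹) * q', hn' q' q'.2 _ (hn q' q'.2 e e.2)⟩ := by
        apply Subtype.ext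
        change _ = (q' : G)⁻¹ * ((q' : G) * e * (q' : G)⁻¹) * q'
        group
      rw [h3, h2, ← h5]
    exact Subtype.ext (inv_mul_eq_one.1 h1)
  have hD := (linearIndependent_monoidHom E k).comp ψ hψinj
  rw [linearIndependent_iff'] at hD ⊢
  intro s c hc q hq
  have h1 : ∀ ℓ : V →ₗ[k] k, c q * ℓ (ρ q u) = 0 := by
    intro ℓ
    refine hD s (fun q => c q * ℓ (ρ q u)) ?_ q hq
    ext e
    have h2 : ρ e (∑ q ∈ s, c q • ρ q u) = 0 := by rw [hc, map_zero]
    rw [map_sum] at h2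
    have h3 := congrArg ℓ h2
    rw [map_sum, map_zero] at h3
    rw [Finset.sum_apply]
    simp only [Pi.smul_apply, smul_eq_mul, Pi.zero_apply, Function.comp_apply]
    rw [← h3]
    refine Finset.sum_congr rfl fun q' _ => ?_
    rw [map_smul, hψ, map_smul, map_smul, smul_eq_mul, smul_eq_mul]
    ring
  have h2 : ρ q u ≠ 0 := fun h => hu0 (rho_inj ρ q (h.trans (map_zero _).symm))
  obtain ⟨ℓ, hℓ⟩ := Module.Projective.exists_dual_ne_zero k h2
  exact (mul_eq_zero.1 (h1 ℓ)).resolve_right hℓ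

end Cfsg.Agent.H926.MEl
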