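import Cfsg.Agent.H926.MElW

/-!
# The point stabiliser of `M₁₁` fixes a vector (helper926)

`exists_fixed` : `G` sharply 4-transitive on 11 points, `V` a faithful representation of dimension 10 over an algebraically
closed field of characteristic not 2, 3 with an invariant nondegenerate symmetric or alternating form: the stabiliser of a
point fixes a nonzero vector.
-/

set_option autoImplicit false

namespace Cfsg.Agent.H926.MEl

open Module

variable {G X : Type*} [Group G] [MulAction G X] {a b c : X} {E : Subgroup G} {z : G}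
variable {k : Type*} [Field k] {V : Type*} [AddCommGroup V] [Module k V] (ρ : G →* Module.End k V)
  {f : LinearMap.BilinForm k V}

/-- what we need from the decomposition -/
structure Dec (ρ : G →* Module.End k V) (a b c : X) (E : Subgroup G) (f : LinearMap.BilinForm k V) (u : V) : Prop where
  li : LinearIndependent k (fun q : Q G a b c => ρ q u)
  cp : IsCompl (Submodule.span k (Set.range fun q : Q G a b c => ρ q u)) (fixE ρ E)
  orth : ∀ m ∈ Submodule.span k (Set.range fun q : Q G a b c => ρ q u), ∀ w ∈ fixE ρ E, f m w = 0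
  two : finrank k (fixE ρ E : Submodule k V) = 2
  inv : ∀ g v w, f (ρ g v) (ρ g w) = f v w
  nd : ∀ v, (∀ w, f v w = 0) → v = 0
  ref : ∀ v w, f v w = 0 → f w v = 0

/-- `W` is nondegenerate -/
theorem Dec.ndW {u : V} (hD : Dec ρ a b c E f u) {w : V} (hw : w ∈ fixE ρ E) (h : ∀ w' ∈ fixE ρ E, f w w' = 0) :
    w = 0 := by
  apply hD.nd
  intro v
  have h1 : v ∈ Submodule.span k (Set.range fun q : Q G a b c => ρ q u) ⊔ fixE ρ E := by
    rw [hD.cp.sup_eq_top]; trivial
  obtain ⟨m, hm, w', hw', rfl⟩ := Submodule.mem_sup.1 h1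
  rw [map_add, hD.ref _ _ (hD.orth m hm w hw), h w' hw', add_zero]

/-- the `-1`-space of `z` on `W` is orthogonal only to the `1`-space -/
theorem Dec.ndMinus {u : V} (hD : Dec ρ a b c E f u) (hL : Loc G a b c E z) (h2 : (2 : k) ≠ 0) {w : V}
    (hw : w ∈ fixE ρ E) (hwz : ρ z w = -w) (h : ∀ w' ∈ fixE ρ E, ρ z w' = -w' → f w w' = 0) : w = 0 := by
  apply hD.ndW ρ hw
  intro w' hw'
  have hz := hL.W_invQ ρ hL.zQ hw'
  have h1 : f w (w' - ρ z w') = 0 := by
    apply h _ ((fixE ρ E).sub_mem hw' hz)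
    rw [map_sub, ← rho_mul, hL.zz, rho_one, neg_sub]
  have h3 : f w (w' + ρ z w') = 0 := by
    have h5 := hD.inv z w (w' + ρ z w')
    rw [map_add (ρ z), ← rho_mul, hL.zz, rho_one, hwz, LinearMap.BilinForm.neg_left, add_comm (ρ z w')] at h5
    have h6 : (2 : k) * f w (w' + ρ z w') = 0 := by linear_combination -h5
    exact (mul_eq_zero.1 h6).resolve_left h2
  rw [LinearMap.BilinForm.sub_right] at h1
  rw [LinearMap.BilinForm.add_right] at h3
  have h5 : (2 : k) * f w w' = 0 := by linear_combination h1 + h3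
  exact (mul_eq_zero.1 h5).resolve_left h2

theorem not_three [FiniteDimensional k V] {W : Submodule k V} (hW : finrank k W = 2) {x y w : V} (hx : x ∈ W)
    (hy : y ∈ W) (hw : w ∈ W) (hxx : f x x ≠ 0) (hyy : f y y ≠ 0) (hww : f w w ≠ 0) (hxy : f x y = 0) (hyx : f y x = 0)
    (hxw : f x w = 0) (hwx : f w x = 0) (hyw : f y w = 0) (hwy : f w y = 0) : False := by
  have h1 : LinearIndependent k ![x, y, w] := by
    apply LinearMap.BilinForm.linearIndependent_of_iIsOrtho (B := f)
    · rw [LinearMap.BilinForm.iIsOrtho_def]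
      intro i j hij
      fin_cases i <;> fin_cases j <;> simp_all
    · intro i
      fin_cases i <;> simp_all
  have h2 : LinearIndependent k ![(⟨x, hx⟩ : W), ⟨y, hy⟩, ⟨w, hw⟩] := by
    apply LinearIndependent.of_comp W.subtype
    convert h1 using 1
    ext i
    fin_cases i <;> rfl
  have h3 := h2.fintype_card_le_finrank
  rw [hW, Fintype.card_fin] at h3
  omega

/-- **`z` acts trivially on `W`**, symmetric case -/
theorem Dec.z_triv_symm [FiniteDimensional k V] {u : V} (hD : Dec ρ a b c E f u) (hL : Loc G a b c E z)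
    (h2 : (2 : k) ≠ 0) (hs : ∀ v w, f v w = f w v) {w : V} (hw : w ∈ fixE ρ E) : ρ z w = w := by
  by_contra hne
  have hz := hL.W_invQ ρ hL.zQ hw
  set w1 := w - ρ z w with hw1
  have hw1W : w1 ∈ fixE ρ E := (fixE ρ E).sub_mem hw hz
  have hw1z : ρ z w1 = -w1 := by
    rw [hw1, map_sub, ← rho_mul, hL.zz, rho_one, neg_sub]
  have hw10 : w1 ≠ 0 := fun h => hne (sub_eq_zero.1 h).symm
  -- a nonisotropic vector in the -1-space
  obtain ⟨x, hx, hxz, hxx⟩ : ∃ x ∈ fixE ρ E, ρ z x = -x ∧ f x x ≠ 0 := by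
    by_contra hcon
    push Not at hcon
    apply hw10
    apply hD.ndMinus ρ hL h2 hw1W hw1z
    intro w' hw' hw'z
    have h1 := hcon (w1 + w') ((fixE ρ E).add_mem hw1W hw') (by rw [map_add, hw1z, hw'z, neg_add])
    rw [LinearMap.BilinForm.add_left, LinearMap.BilinForm.add_right, LinearMap.BilinForm.add_right,
      hcon w1 hw1W hw1z, hcon w' hw' hw'z, hs w' w1] at h1
    have h3 : (2 : k) * f w1 w' = 0 := by linear_combination h1
    exact (mul_eq_zero.1 h3).resolve_left h2
  have horth : ∀ q ∈ Q G a b c, q ≠ 1 → q ≠ z → f x (ρ q x) = 0 := by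
    intro q hq hq1 hqz
    have h1 := hD.inv q x (ρ q x)
    rw [← rho_mul, hL.four q hq hq1 hqz, hxz, LinearMap.BilinForm.neg_right, hs] at h1
    have h3 : (2 : k) * f x (ρ q x) = 0 := by linear_combination -h1
    exact (mul_eq_zero.1 h3).resolve_left h2
  obtain ⟨i, hi, hi1, hiz⟩ := hL.exists_i
  obtain ⟨j, hj, hj1, hjz, hji, hjiz⟩ := hL.exists_j i hi
  obtain ⟨-, -, h5, h6⟩ := hL.ij hi hi1 hiz hji hjiz
  have h7 : f (ρ i x) (ρ j x) = 0 := by
    have h8 := hD.inv i x (ρ (i⁻¹ * j) x)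
    rw [← rho_mul, mul_inv_cancel_left] at h8
    rw [h8]
    exact horth _ (mul_mem (inv_mem hi) hj) h5 h6
  have hix := horth i hi hi1 hiz
  have hjx := horth j hj hj1 hjz
  exact not_three hD.two hx (hL.W_invQ ρ hi hx) (hL.W_invQ ρ hj hx) hxx (by rw [hD.inv]; exact hxx)
    (by rw [hD.inv]; exact hxx) hix (by rw [hs]; exact hix) hjx (by rw [hs]; exact hjx) h7 (by rw [hs]; exact h7)

/-- **`z` acts trivially on `W`**, alternating case -/
theorem Dec.z_triv_alt [FiniteDimensional k V] {u : V} (hD : Dec ρ a b c E f u) (hL : Loc G a b c E z)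
    (h2 : (2 : k) ≠ 0) (hs : ∀ v, f v v = 0) {w : V} (hw : w ∈ fixE ρ E) : ρ z w = w := by
  by_contra hne
  have hz := hL.W_invQ ρ hL.zQ hw
  set w1 := w - ρ z w with hw1
  have hw1W : w1 ∈ fixE ρ E := (fixE ρ E).sub_mem hw hz
  have hw1z : ρ z w1 = -w1 := by
    rw [hw1, map_sub, ← rho_mul, hL.zz, rho_one, neg_sub]
  have hw10 : w1 ≠ 0 := fun h => hne (sub_eq_zero.1 h).symm
  obtain ⟨t, hta, htb, htt, htQ, q0, hq0, hq0t⟩ := hL.tau
  have htW : ∀ x ∈ fixE ρ E, ρ t x ∈ fixE ρ E := fun x hx => hL.W_inv ρ (Or.inr ⟨hta, htb⟩) hx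
  have hti : t⁻¹ = t := inv_eq_of_mul_eq_one_right htt
  have htz : t * z = z * t := by
    have h1 : t * z * t⁻¹ = z := by
      apply hL.zu _ (htQ z hL.zQ)
      · calc t * z * t⁻¹ * (t * z * t⁻¹) = t * (z * z) * t⁻¹ := by group
          _ = 1 := by rw [hL.zz]; group
      · intro h
        apply hL.z1
        have h2 : z = t⁻¹ * (t * z * t⁻¹) * t := by group
        rw [h2, h]; group
    calc t * z = (t * z * t⁻¹) * t := by group
      _ = z * t := by rw [h1]
  have htm : ∀ x, ρ z x = -x → ρ z (ρ t x) = -ρ t x := by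
    intro x hx
    rw [← rho_mul, ← htz, rho_mul, hx, map_neg]
  have htt' : ∀ x, ρ t (ρ t x) = x := by
    intro x
    rw [← rho_mul, htt, rho_one]
  -- t is a scalar on the -1-space
  have hdich : (∀ x ∈ fixE ρ E, ρ z x = -x → ρ t x = x) ∨ (∀ x ∈ fixE ρ E, ρ z x = -x → ρ t x = -x) := by
    by_contra hcon
    push Not at hcon
    obtain ⟨⟨y, hy, hyz, hyt⟩, ⟨x, hx, hxz, hxt⟩⟩ := hcon
    set p := x + ρ t x with hp
    set n := y - ρ t y with hn
    have hp0 : p ≠ 0 := fun h => hxt (eq_neg_of_add_eq_zero_right h)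
    have hn0 : n ≠ 0 := fun h => hyt (sub_eq_zero.1 h).symm
    have htp : ρ t p = p := by rw [hp, map_add, htt', add_comm]
    have htn : ρ t n = -n := by rw [hn, map_sub, htt', neg_sub]
    have hpW : p ∈ fixE ρ E := (fixE ρ E).add_mem hx (htW x hx)
    have hnW : n ∈ fixE ρ E := (fixE ρ E).sub_mem hy (htW y hy)
    have hpn : f p n = 0 := by
      have h1 := hD.inv t p n
      rw [htp, htn, LinearMap.BilinForm.neg_right] at h1
      have h3 : (2 : k) * f p n = 0 := by linear_combination -h1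
      exact (mul_eq_zero.1 h3).resolve_left h2
    have hli : LinearIndependent k ![(⟨p, hpW⟩ : fixE ρ E), ⟨n, hnW⟩] := by
      rw [LinearIndependent.pair_iff]
      intro s r hsr
      have h1 : s • p + r • n = 0 := congrArg Subtype.val hsr
      have h3 : s • p - r • n = 0 := by
        have h5 := congrArg (ρ t) h1
        rw [map_add, map_smul, map_smul, htp, htn, map_zero, smul_neg, ← sub_eq_add_neg] at h5
        exact h5
      have h5 : (2 * s) • p = 0 := by
        rw [mul_smul, two_smul]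
        have := congrArg₂ (· + ·) h1 h3
        simp only [add_zero] at this
        rw [← this]; abel
      have hs0 : s = 0 := by
        rcases smul_eq_zero.1 h5 with h | h
        · exact (mul_eq_zero.1 h).resolve_left h2
        · exact absurd h hp0
      rw [hs0, zero_smul, zero_add] at h1
      exact ⟨hs0, (smul_eq_zero.1 h1).resolve_right hn0⟩
    have hspan := hli.span_eq_top_of_card_eq_finrank' (by rw [hD.two, Fintype.card_fin])
    apply hp0
    apply hD.ndW ρ hpW
    intro w' hw'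
    have h1 : (⟨w', hw'⟩ : fixE ρ E) ∈ Submodule.span k (Set.range ![(⟨p, hpW⟩ : fixE ρ E), ⟨n, hnW⟩]) := by
      rw [hspan]; trivial
    rw [Matrix.range_cons, Matrix.range_cons, Matrix.range_empty, Set.union_empty, Set.singleton_union,
      Submodule.mem_span_pair] at h1
    obtain ⟨s, r, hsr⟩ := h1
    have h3 : s • p + r • n = w' := congrArg Subtype.val hsr
    rw [← h3, LinearMap.BilinForm.add_right, LinearMap.BilinForm.smul_right, LinearMap.BilinForm.smul_right, hs, hpn,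
      mul_zero, mul_zero, add_zero]
  have hcomm : ∀ q ∈ Q G a b c, t * q * t⁻¹ = q := by
    intro q hq
    have hqz : z * q = q * z := by
      by_cases h1 : q = 1
      · rw [h1, mul_one, one_mul]
      · by_cases h3 : q = z
        · rw [h3]
        · rw [← hL.four q hq h1 h3, mul_assoc]
    have hqW : ρ q w1 ∈ fixE ρ E := hL.W_invQ ρ hq hw1W
    have hqm : ρ z (ρ q w1) = -ρ q w1 := by rw [← rho_mul, hqz, rho_mul, hw1z, map_neg]
    have h1 : ρ (t * q * t⁻¹) w1 = ρ q w1 := by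
      rw [hti, rho_mul, rho_mul]
      rcases hdich with h | h
      · rw [h w1 hw1W hw1z, h _ hqW hqm]
      · rw [h w1 hw1W hw1z, map_neg, map_neg, h _ hqW hqm, neg_neg]
    set r := q⁻¹ * (t * q * t⁻¹) with hr
    have hrQ : r ∈ Q G a b c := mul_mem (inv_mem hq) (htQ q hq)
    have hrw : ρ r w1 = w1 := by
      rw [hr, rho_mul, h1, ← rho_mul, inv_mul_cancel, rho_one]
    have hnot : ρ z w1 ≠ w1 := by
      intro h
      rw [h] at hw1z
      have h3 : (2 : k) • w1 = 0 := by
        rw [two_smul]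
        nth_rewrite 1 [hw1z]
        exact neg_add_cancel w1
      exact hw10 ((smul_eq_zero.1 h3).resolve_left h2)
    have hr1 : r = 1 := by
      by_contra h3
      by_cases h5 : r = z
      · rw [h5] at hrw; exact hnot hrw
      · apply hnot
        rw [← hL.four r hrQ h3 h5, rho_mul, hrw, hrw]
    exact (inv_mul_eq_one.1 hr1).symm
  apply hq0t
  calc t * q0 = (t * q0 * t⁻¹) * t := by group
    _ = q0 * t := by rw [hcomm q0 hq0]

/-- **`Q` acts trivially on `W`** -/
theorem Dec.Q_triv [FiniteDimensional k V] {u : V} (hD : Dec ρ a b c E f u) (hL : Loc G a b c E z)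
    (h2 : (2 : k) ≠ 0) (hz : ∀ w ∈ fixE ρ E, ρ z w = w) {q : G} (hq : q ∈ Q G a b c) {w : V} (hw : w ∈ fixE ρ E) :
    ρ q w = w := by
  let R : Q G a b c → Module.End k (fixE ρ E : Submodule k V) := fun q =>
    (ρ q).restrict (p := fixE ρ E) (q := fixE ρ E) (fun _ hw => hL.W_invQ ρ q.2 hw)
  have hR : ∀ (q : Q G a b c) (w : fixE ρ E), ((R q w : fixE ρ E) : V) = ρ q w := fun q w => rfl
  have hRm : ∀ q r, R (q * r) = R q * R r := by
    intro q r
    apply LinearMap.ext
    intro w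
    apply Subtype.ext
    rw [Module.End.mul_apply, hR, hR, hR, Subgroup.coe_mul, rho_mul]
  have hRz : R ⟨z, hL.zQ⟩ = 1 := by
    apply LinearMap.ext
    intro w
    apply Subtype.ext
    rw [hR]
    exact hz w w.2
  let B : Basis (Fin 2) k (fixE ρ E : Submodule k V) := finBasisOfFinrankEq k _ hD.two
  let Φ := LinearMap.toMatrixAlgEquiv B
  have hΦt : ∀ T : Module.End k (fixE ρ E : Submodule k V), (Φ T).trace = LinearMap.trace k _ T := by
    intro T
    rw [LinearMap.trace_eq_matrix_trace k B]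
    rfl
  have htr : ∀ q : Q G a b c, q ≠ 1 → LinearMap.trace k _ (R q) = LinearMap.trace k V (ρ q) := by
    intro q hq1
    exact (hL.trace_eq ρ hD.li hD.cp q.2 (fun h => hq1 (Subtype.ext h))).symm
  have hclass : ∀ i : Q G a b c, i ≠ 1 → (i : G) ≠ z → ∀ j : Q G a b c, j ≠ 1 → (j : G) ≠ z →
      (Φ (R i)).trace = (Φ (R j)).trace := by
    intro i hi1 hiz j hj1 hjz
    rw [hΦt, hΦt]
    obtain ⟨g, hg⟩ := hL.conj i i.2 (fun h => hi1 (Subtype.ext h)) hiz j j.2 (fun h => hj1 (Subtype.ext h)) hjz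
    have h1 : LinearMap.trace k V (ρ (g * i * g⁻¹)) = LinearMap.trace k V (ρ i) := by
      rw [ρ.map_mul, LinearMap.trace_mul_comm, ← ρ.map_mul, ← mul_assoc, inv_mul_cancel, one_mul]
    rcases hg with hg | hg
    · rw [htr i hi1, htr j hj1, ← h1, hg]
    · rw [htr i hi1, ← h1, hg]
      have h3 : (⟨(j : G) * z, mul_mem j.2 hL.zQ⟩ : Q G a b c) = j * ⟨z, hL.zQ⟩ := rfl
      have h4 : (j * ⟨z, hL.zQ⟩ : Q G a b c) ≠ 1 := by
        intro h
        apply hjz
        have h5 := congrArg Subtype.val h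
        have h6 : (j : G) * z = 1 := h5
        rw [eq_inv_of_mul_eq_one_left h6]
        exact inv_eq_of_mul_eq_one_right hL.zz
      have h5 := htr _ h4
      rw [hRm, hRz, mul_one] at h5
      exact h5.symm
  have key : ∀ i : Q G a b c, i ≠ 1 → (i : G) ≠ z → R i = 1 := by
    intro i hi1 hiz
    have hi1' : (i : G) ≠ 1 := fun h => hi1 (Subtype.ext h)
    obtain ⟨j, hj, hj1, hjz, hji, hjiz⟩ := hL.exists_j i i.2
    obtain ⟨h3, h4, -, -⟩ := hL.ij i.2 hi1' hiz hji hjiz
    have hsq : ∀ r : Q G a b c, (r : G) ≠ 1 → (r : G) ≠ z → R r * R r = 1 := by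
      intro r hr1 hrz
      rw [← hRm, show r * r = ⟨z, hL.zQ⟩ from Subtype.ext (hL.four r r.2 hr1 hrz), hRz]
    have hj1' : (⟨j, hj⟩ : Q G a b c) ≠ 1 := fun h => hj1 (congrArg Subtype.val h)
    have hij1 : i * ⟨j, hj⟩ ≠ 1 := fun h => h3 (congrArg Subtype.val h)
    have h5 := two_by_two h2 (A := Φ (R i)) (B := Φ (R ⟨j, hj⟩))
      (by rw [← map_mul, hsq i hi1' hiz, map_one])
      (by rw [← map_mul, hsq ⟨j, hj⟩ hj1 hjz, map_one])
      (by rw [← map_mul, ← hRm, ← map_mul, hsq _ h3 h4, map_one])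
      (hclass i hi1 hiz _ hj1' hjz)
      (by rw [← map_mul, ← hRm]; exact hclass _ hij1 h4 i hi1 hiz)
    exact Φ.injective (h5.trans (map_one Φ).symm)
  by_cases h1 : q = 1
  · rw [h1, rho_one]
  · by_cases h3 : q = z
    · rw [h3]; exact hz w hw
    · have h5 := key ⟨q, hq⟩ (fun h => h1 (congrArg Subtype.val h)) h3
      have h6 := congrArg (fun T : Module.End k (fixE ρ E : Submodule k V) => ((T ⟨w, hw⟩ : fixE ρ E) : V)) h5
      exact h6

open Cfsg.Agent.SporadicA.SharpFour in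
/-- the stabiliser of `a` is generated by the stabilisers of `a, b` and of `a, c` -/
theorem fixed_of_two [Fintype X] [DecidableEq X] (h4 : Sharp4 G X) (h11 : Fintype.card X = 11) {a b c : X}
    (hab : a ≠ b) (hac : a ≠ c) (hbc : b ≠ c) (S : Subgroup G) (hb : K G a b ≤ S) (hc : K G a c ≤ S) {h : G}
    (hh : h • a = a) : h ∈ S := by
  -- an element of S fixing a and mapping b to d
  have key : ∀ d, d ≠ a → ∃ s ∈ S, s • a = a ∧ s • b = d := by
    obtain ⟨d0, hd0⟩ := exists_other h11 {a, b, c} (lt_of_le_of_lt Finset.card_le_three (by norm_num))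
    simp only [Finset.mem_insert, Finset.mem_singleton, not_or] at hd0
    obtain ⟨hda, hdb, hdc⟩ := hd0
    -- K a b is transitive on the rest
    have h1 : ∀ x y : X, x ≠ a → x ≠ b → y ≠ a → y ≠ b → ∃ s ∈ S, s • a = a ∧ s • b = b ∧ s • x = y := by
      intro x y hxa hxb hya hyb
      by_cases hxy : x = y
      · exact ⟨1, one_mem _, one_smul _ _, one_smul _ _, by rw [one_smul, hxy]⟩
      · obtain ⟨g, h5, h6, h7, -⟩ := h4.exists_map a b x y a b y x
          (nodup4_iff.2 ⟨hab, Ne.symm hxa, Ne.symm hya, Ne.symm hxb, Ne.symm hyb, hxy⟩)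
          (nodup4_iff.2 ⟨hab, Ne.symm hya, Ne.symm hxa, Ne.symm hyb, Ne.symm hxb, Ne.symm hxy⟩)
        exact ⟨g, hb (mem_K.2 ⟨h5, h6⟩), h5, h6, h7⟩
    have h2 : ∃ s ∈ S, s • a = a ∧ s • b = d0 := by
      obtain ⟨g, h5, h6, h7, -⟩ := h4.exists_map a c b d0 a c d0 b
        (nodup4_iff.2 ⟨hac, hab, Ne.symm hda, hbc.symm, Ne.symm hdc, Ne.symm hdb⟩)
        (nodup4_iff.2 ⟨hac, Ne.symm hda, hab, Ne.symm hdc, hbc.symm, hdb⟩)
      exact ⟨g, hc (mem_K.2 ⟨h5, h6⟩), h5, h7⟩
    obtain ⟨s2, hs2, hs2a, hs2b⟩ := h2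
    intro d hd
    by_cases hdb' : d = b
    · exact ⟨1, one_mem _, one_smul _ _, by rw [one_smul, hdb']⟩
    · obtain ⟨s1, hs1, hs1a, -, hs1d⟩ := h1 d0 d hda hdb hd hdb'
      exact ⟨s1 * s2, mul_mem hs1 hs2, by rw [mul_smul, hs2a, hs1a], by rw [mul_smul, hs2b, hs1d]⟩
  obtain ⟨s, hs, hsa, hsb⟩ := key (h • b) (fun h1 => hab (MulAction.injective h (hh.trans h1.symm)))
  have h1 : s⁻¹ * h ∈ K G a b := by
    rw [mem_K, mul_smul, mul_smul, hh, inv_smul_eq_iff, inv_smul_eq_iff]
    exact ⟨hsa.symm, hsb.symm⟩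
  have h2 := mul_mem hs (hb h1)
  rwa [mul_inv_cancel_left] at h2

open Cfsg.Agent.SporadicA.SharpFour in
/-- **The stabiliser of a point fixes a nonzero vector.** -/
theorem exists_fixed [Finite G] [Fintype X] [DecidableEq X] (h4 : Sharp4 G X) (h11 : Fintype.card X = 11)
    [IsAlgClosed k] [FiniteDimensional k V] (h2 : (2 : k) ≠ 0) (h3 : (3 : k) ≠ 0) (h10 : finrank k V = 10)
    (hρ : Function.Injective ρ) (hf : ∀ g v w, f (ρ g v) (ρ g w) = f v w) (hnd : f.Nondegenerate)
    (hs : (∀ v w, f v w = f w v) ∨ (∀ v, f v v = 0)) (a : X) :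
    ∃ w : V, w ≠ 0 ∧ ∀ h : G, h • a = a → ρ h w = w := by
  obtain ⟨b, hb⟩ := exists_other h11 {a} (by simp)
  rw [Finset.mem_singleton] at hb
  obtain ⟨c, hc⟩ := exists_other h11 {a, b} (lt_of_le_of_lt Finset.card_le_two (by norm_num))
  simp only [Finset.mem_insert, Finset.mem_singleton, not_or] at hc
  have hab : a ≠ b := Ne.symm hb
  have hac : a ≠ c := Ne.symm hc.1
  have hbc : b ≠ c := Ne.symm hc.2
  obtain ⟨E, z, hL⟩ := exists_loc h4 h11 hab hac hbc
  have href : ∀ v w, f v w = 0 → f w v = 0 := by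
    intro v w h
    rcases hs with h1 | h1
    · rw [h1]; exact h
    · have h5 := h1 (v + w)
      rw [LinearMap.BilinForm.add_left, LinearMap.BilinForm.add_right, LinearMap.BilinForm.add_right, h1, h1, h,
        zero_add, zero_add, add_zero] at h5
      exact h5
  obtain ⟨u, hli, hcp, -, -, horth, hW2⟩ := hL.dec ρ h3 h10 hρ hf hnd
  have hnd' : ∀ v, (∀ w, f v w = 0) → v = 0 := fun v h => hnd.1 v h
  have hD : Dec ρ a b c E f u := ⟨hli, hcp, horth, hW2, hf, hnd', href⟩
  have hz : ∀ w ∈ fixE ρ E, ρ z w = w := by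
    intro w hw
    rcases hs with h | h
    · exact hD.z_triv_symm ρ hL h2 h hw
    · exact hD.z_triv_alt ρ hL h2 h hw
  have hQ : ∀ q ∈ Q G a b c, ∀ w ∈ fixE ρ E, ρ q w = w := fun q hq w hw => hD.Q_triv ρ hL h2 hz hq hw
  -- K a b fixes W
  have hK : ∀ g ∈ K G a b, ∀ w ∈ fixE ρ E, ρ g w = w := by
    intro g hg w hw
    obtain ⟨h5, h6⟩ := mem_K.1 hg
    obtain ⟨e, he, hec⟩ := hL.reg (g • c) (fun h => hac (MulAction.injective g (h5.trans h.symm)))
      (fun h => hbc (MulAction.injective g (h6.trans h.symm)))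
    have h7 : e⁻¹ * g ∈ Q G a b c := by
      obtain ⟨h8, h9⟩ := mem_K.1 (hL.EK he)
      rw [mem_Q, mul_smul, mul_smul, mul_smul, h5, h6, inv_smul_eq_iff, inv_smul_eq_iff, inv_smul_eq_iff]
      exact ⟨h8.symm, h9.symm, hec.symm⟩
    have h8 := hQ _ h7 w hw
    calc ρ g w = ρ e (ρ (e⁻¹ * g) w) := by rw [← rho_mul, mul_inv_cancel_left]
      _ = w := by rw [h8, hw e he]
  obtain ⟨g, hga, hgb, hgc, hgg⟩ := hL.swap
  have hgi : g⁻¹ = g := inv_eq_of_mul_eq_one_right hgg
  set M : Submodule k V := Submodule.span k (Set.range fun q : Q G a b c => ρ q u) with hM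
  -- the map W → M, w ↦ M-component of g w
  have := hL.finQ
  have := Fintype.ofFinite (Q G a b c)
  set m0 : V := ∑ q : Q G a b c, ρ q u with hm0
  have hMq : ∀ q ∈ Q G a b c, ∀ m ∈ M, ρ q m ∈ M := by
    intro q hq m hm
    induction hm using Submodule.span_induction with
    | mem x hx =>
      obtain ⟨r, rfl⟩ := hx
      change ρ q (ρ r u) ∈ M
      rw [← rho_mul]
      exact Submodule.subset_span ⟨⟨q * r, mul_mem hq r.2⟩, rfl⟩
    | zero => rw [map_zero]; exact M.zero_mem
    | add x y _ _ hx hy => rw [map_add]; exact M.add_mem hx hy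
    | smul c x _ hx => rw [map_smul]; exact M.smul_mem _ hx
  have hfixM : ∀ m ∈ M, (∀ q ∈ Q G a b c, ρ q m = m) → ∃ r : k, m = r • m0 := by
    intro m hm hq
    rw [hM, Submodule.mem_span_range_iff_exists_fun] at hm
    obtain ⟨co, hcm⟩ := hm
    refine ⟨co 1, ?_⟩
    have h5 : ∀ q : Q G a b c, co q = co 1 := by
      intro q
      have h6 : ∑ r : Q G a b c, co (q * r) • ρ r u = ∑ r : Q G a b c, co r • ρ r u := by
        rw [hcm]
        have h7 := hq (q⁻¹ : Q G a b c) (q⁻¹ : Q G a b c).2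
        conv_rhs => rw [← h7, ← hcm, map_sum]
        rw [← Equiv.sum_comp (Equiv.mulLeft q) (fun r : Q G a b c => ρ ((q⁻¹ : Q G a b c) : G) (co r • ρ r u))]
        refine Finset.sum_congr rfl fun r _ => ?_
        rw [Equiv.coe_mulLeft, map_smul, ← rho_mul, Subgroup.coe_mul, Subgroup.coe_inv, inv_mul_cancel_left]
      have h7 : ∑ r : Q G a b c, (co (q * r) - co r) • ρ r u = 0 := by
        simp only [sub_smul, Finset.sum_sub_distrib]
        rw [h6, sub_self]
      have h8 := (Fintype.linearIndependent_iff.1 hli) _ h7 1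
      rw [mul_one] at h8
      exact sub_eq_zero.1 h8
    rw [← hcm, hm0, Finset.smul_sum]
    exact Finset.sum_congr rfl fun q _ => by rw [h5 q]
  have hgQ : ∀ q ∈ Q G a b c, g * q * g⁻¹ ∈ Q G a b c := by
    intro q hq
    obtain ⟨h5, h6, h7⟩ := mem_Q.1 hq
    rw [mem_Q, hgi]
    refine ⟨?_, ?_, ?_⟩
    · rw [mul_smul, mul_smul, hga, h5, hga]
    · rw [mul_smul, mul_smul, hgb, h7, hgc]
    · rw [mul_smul, mul_smul, hgc, h6, hgb]
  have hdecomp : ∀ w ∈ fixE ρ E, ∃ (r : k) (w' : V), w' ∈ fixE ρ E ∧ ρ g w = r • m0 + w' := by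
    intro w hw
    have h5 : ρ g w ∈ M ⊔ fixE ρ E := by rw [hcp.sup_eq_top]; trivial
    obtain ⟨m, hm, w', hw', hmw⟩ := Submodule.mem_sup.1 h5
    have h6 : ∀ q ∈ Q G a b c, ρ q m = m := by
      intro q hq
      have h7 : ρ q (ρ g w) = ρ g w := by
        have h8 := hgQ q hq
        rw [hgi] at h8
        rw [← rho_mul, show q * g = g * (g * q * g) by
          rw [← mul_assoc, ← mul_assoc, hgg, one_mul], rho_mul, hQ _ h8 w hw]
      rw [← hmw, map_add, hQ q hq w' hw'] at h7
      exact add_right_cancel h7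
    obtain ⟨r, hr⟩ := hfixM m hm h6
    exact ⟨r, w', hw', by rw [← hmw, hr]⟩
  obtain ⟨w, hw, hw0, hgw⟩ : ∃ w ∈ fixE ρ E, w ≠ 0 ∧ ρ g w ∈ fixE ρ E := by
    let B : Basis (Fin 2) k (fixE ρ E : Submodule k V) := finBasisOfFinrankEq k _ hW2
    obtain ⟨r0, w0', hw0', h5⟩ := hdecomp (B 0) (B 0).2
    obtain ⟨r1, w1', hw1', h6⟩ := hdecomp (B 1) (B 1).2
    by_cases hr : r0 = 0
    · refine ⟨B 0, (B 0).2, fun h => B.ne_zero 0 (Subtype.ext h), ?_⟩
      rw [h5, hr, zero_smul, zero_add]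
      exact hw0'
    · refine ⟨r1 • (B 0 : V) - r0 • (B 1 : V), (fixE ρ E).sub_mem ((fixE ρ E).smul_mem _ (B 0).2)
        ((fixE ρ E).smul_mem _ (B 1).2), ?_, ?_⟩
      · intro h
        have h7 : r1 • B 0 + (-r0) • B 1 = 0 := by
          apply Subtype.ext
          rw [neg_smul, ← sub_eq_add_neg]
          exact h
        have h8 := Fintype.linearIndependent_iff.1 B.linearIndependent ![r1, -r0]
          (by rw [Fin.sum_univ_two]; exact h7) 1
        exact hr (neg_eq_zero.1 h8)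
      · rw [map_sub, map_smul, map_smul, h5, h6]
        have h7 : r1 • (r0 • m0 + w0') - r0 • (r1 • m0 + w1') = r1 • w0' - r0 • w1' := by
          rw [smul_add, smul_add, smul_smul, smul_smul, mul_comm r1 r0]
          abel
        rw [h7]
        exact (fixE ρ E).sub_mem ((fixE ρ E).smul_mem _ hw0') ((fixE ρ E).smul_mem _ hw1')
  refine ⟨w, hw0, fun h hh => ?_⟩
  let S : Subgroup G :=
    { carrier := {x | ρ x w = w}
      mul_mem' := fun {x y} hx hy => by
        change ρ (x * y) w = w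
        rw [rho_mul, show ρ y w = w from hy, show ρ x w = w from hx]
      one_mem' := rho_one ρ w
      inv_mem' := fun {x} hx => by
        change ρ x⁻¹ w = w
        have h5 : ρ x w = w := hx
        nth_rewrite 1 [← h5]
        rw [← rho_mul, inv_mul_cancel, rho_one] }
  have hS : h ∈ S := by
    apply fixed_of_two h4 h11 hab hac hbc S (fun x hx => hK x hx w hw) _ hh
    intro x hx
    obtain ⟨h5, h6⟩ := mem_K.1 hx
    change ρ x w = w
    have h7 : g * x * g ∈ K G a b := by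
      rw [mem_K]
      exact ⟨by rw [mul_smul, mul_smul, hga, h5, hga], by rw [mul_smul, mul_smul, hgb, h6, hgc]⟩
    have h8 := hK _ h7 _ hgw
    rw [← rho_mul, show g * x * g * g = g * x by rw [mul_assoc, hgg, mul_one], rho_mul] at h8
    exact rho_inj ρ g h8
  exact hS

end Cfsg.Agent.H926.MEl
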