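import Cfsg.Agent.H926.MElFix
import Cfsg.Agent.H915.LD
import Cfsg.Agent.SectRankFour.AutM11
import Cfsg.Agent.UGT.End.MEleven

/-!
# `M₁₁` in dimension 10 : a vector fixed by the point stabiliser (helper926)

`fixed_of_form` : `P ≤ GL(ι, F)` sharply 4-transitive on 11 points, `|ι| = 10`, characteristic not 2, 3, `FixQ P` or
`FixA P` : the stabiliser in `P` of a point fixes a nonzero vector.
-/

set_option autoImplicit false

namespace Cfsg.Agent.H926.MEl

open Cfsg Cfsg.Geo Matrix Module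
open Cfsg.Agent.H915.LD

universe u v

variable {ι : Type} [Fintype ι] [DecidableEq ι] {F : Type u} [Field F]

omit [DecidableEq ι] in
/-- descent from an extension field -/
theorem descent {k : Type*} [Field k] [Algebra F k] {P : Set (Matrix ι ι F)} {w : ι → k} (hw : w ≠ 0)
    (h : ∀ g ∈ P, (g.map (algebraMap F k)) *ᵥ w = w) : ∃ v : ι → F, v ≠ 0 ∧ ∀ g ∈ P, g *ᵥ v = v := by
  obtain ⟨i, hi⟩ : ∃ i, w i ≠ 0 := by
    by_contra hcon
    push Not at hcon
    exact hw (funext hcon)
  obtain ⟨φ, hφ⟩ := Module.Projective.exists_dual_ne_zero F hi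
  refine ⟨fun j => φ (w j), fun h0 => hφ (congrFun h0 i), fun g hg => ?_⟩
  have h1 := h g hg
  ext j
  have h2 := congrFun h1 j
  rw [Matrix.mulVec, dotProduct] at h2 ⊢
  have h3 := congrArg φ h2
  rw [map_sum] at h3
  rw [← h3]
  refine Finset.sum_congr rfl fun l _ => ?_
  rw [Matrix.map_apply, ← Algebra.smul_def, map_smul, smul_eq_mul]

open Cfsg.Agent.SporadicA.SharpFour in
theorem fixed_of_bilin {P : Subgroup (GL ι F)} [Finite P] {X : Type*} [MulAction P X] [Fintype X] [DecidableEq X]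
    (h4 : Sharp4 P X) (h11 : Fintype.card X = 11) (hι : Fintype.card ι = 10) (h2 : (2 : F) ≠ 0) (h3 : (3 : F) ≠ 0)
    {f : (ι → F) → (ι → F) → F} (hb : IsBilinearForm f) (hn : IsNondegenerateForm f) (hfix : FixesForm (matrixSet P) f)
    (hs : (∀ v w, f v w = f w v) ∨ (∀ v w, f v w = - f w v)) (a : X) :
    ∃ w : ι → F, w ≠ 0 ∧ ∀ g : P, g • a = a → ((g : GL ι F) : Matrix ι ι F) *ᵥ w = w := by
  let k := AlgebraicClosure F
  let α := algebraMap F k
  have hα : Function.Injective α := (algebraMap F k).injective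
  have hk : ∀ n : ℕ, (n : F) ≠ 0 → (n : k) ≠ 0 := by
    intro n hn h
    apply hn
    apply hα
    rw [map_natCast, map_zero, h]
  have h2k : (2 : k) ≠ 0 := by exact_mod_cast hk 2 (by exact_mod_cast h2)
  have h3k : (3 : k) ≠ 0 := by exact_mod_cast hk 3 (by exact_mod_cast h3)
  let ρ : P →* Module.End k (ι → k) :=
    { toFun := fun g => Matrix.toLin' (((g : GL ι F) : Matrix ι ι F).map α)
      map_one' := by
        rw [Subgroup.coe_one, Units.val_one, Matrix.map_one _ (map_zero α) (map_one α), Matrix.toLin'_one]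
        rfl
      map_mul' := by
        intro g h
        rw [Subgroup.coe_mul, Units.val_mul, Matrix.map_mul, Matrix.toLin'_mul]
        rfl }
  have hρa : ∀ (g : P) (v : ι → k), ρ g v = (((g : GL ι F) : Matrix ι ι F).map α) *ᵥ v := fun g v => Matrix.toLin'_apply _ _
  have hρi : Function.Injective ρ := by
    intro g h hgh
    have h5 := Matrix.toLin'.injective hgh
    exact Subtype.ext (Units.ext (Matrix.map_injective hα h5))
  let B : LinearMap.BilinForm F (ι → F) := LinearMap.mk₂ F f hb.add_left hb.smul_left hb.add_right hb.smul_right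
  have hB : ∀ v w, B v w = f v w := fun v w => rfl
  let J := LinearMap.BilinForm.toMatrix' B
  have hJa : ∀ i j, J i j = f (Pi.single i 1) (Pi.single j 1) := fun i j => LinearMap.BilinForm.toMatrix'_apply _ _ _
  have hJ : ∀ g : P, ((g : GL ι F) : Matrix ι ι F)ᵀ * J * ((g : GL ι F) : Matrix ι ι F) = J := by
    intro g
    have h5 : B.comp (Matrix.toLin' ((g : GL ι F) : Matrix ι ι F)) (Matrix.toLin' ((g : GL ι F) : Matrix ι ι F)) = B := by
      ext v w
      simp only [LinearMap.BilinForm.comp_apply, LinearMap.comp_apply, Matrix.toLin'_apply, hB]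
      exact hfix _ ⟨g, g.2, rfl⟩ _ _
    have h6 := congrArg LinearMap.BilinForm.toMatrix' h5
    rwa [LinearMap.BilinForm.toMatrix'_comp, LinearMap.toMatrix'_toLin'] at h6
  let B' : LinearMap.BilinForm k (ι → k) := Matrix.toBilin' (J.map α)
  have hB' : ∀ v w, B' v w = v ⬝ᵥ (J.map α) *ᵥ w := fun v w => Matrix.toBilin'_apply' _ _ _
  have hinv : ∀ g v w, B' (ρ g v) (ρ g w) = B' v w := by
    intro g v w
    rw [hB', hB', hρa, hρa, Matrix.mulVec_mulVec, Matrix.dotProduct_mulVec, Matrix.vecMul_mulVec, ← Matrix.mul_assoc,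
      ← Matrix.transpose_map, ← Matrix.map_mul, ← Matrix.map_mul, hJ, ← Matrix.dotProduct_mulVec]
  have hdet : J.det ≠ 0 := by
    have h5 : B.Nondegenerate := by
      apply LinearMap.BilinForm.Nondegenerate.ofSeparatingLeft
      intro v hv
      by_contra h0
      obtain ⟨-, w, hw⟩ := hn v h0
      exact hw (hv w)
    rw [← Matrix.toBilin'_toMatrix' B] at h5
    exact LinearMap.BilinForm.nondegenerate_toBilin'_iff_det_ne_zero.1 h5
  have hnd : B'.Nondegenerate := by
    apply LinearMap.BilinForm.nondegenerate_toBilin'_iff_det_ne_zero.2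
    rw [show (J.map α).det = α J.det from (RingHom.map_det α J).symm]
    intro h
    exact hdet (hα (h.trans (map_zero α).symm))
  have hJs : ∀ ε : F, (∀ v w, f v w = ε * f w v) → ∀ v w, B' v w = α ε * B' w v := by
    intro ε hε
    have h5 : J = ε • Jᵀ := by
      ext i j
      rw [Matrix.smul_apply, Matrix.transpose_apply, hJa, hJa, hε, smul_eq_mul]
    have h6 : J.map α = α ε • (J.map α)ᵀ := by
      ext i j
      have h7 := congrFun (congrFun h5 i) j
      rw [Matrix.map_apply, h7, Matrix.smul_apply, Matrix.smul_apply, smul_eq_mul, smul_eq_mul, map_mul,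
        Matrix.transpose_apply, Matrix.transpose_apply, Matrix.map_apply]
    intro v w
    rw [hB', hB']
    nth_rewrite 1 [h6]
    rw [Matrix.smul_mulVec, dotProduct_smul, smul_eq_mul, Matrix.mulVec_transpose, dotProduct_comm v,
      ← Matrix.dotProduct_mulVec]
  have hs' : (∀ v w, B' v w = B' w v) ∨ (∀ v, B' v v = 0) := by
    rcases hs with h | h
    · left
      have h5 := hJs 1 (fun v w => by rw [one_mul]; exact h v w)
      intro v w
      rw [h5, map_one, one_mul]
    · right
      intro v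
      have h5 := hJs (-1) (fun v w => by rw [neg_one_mul]; exact h v w) v v
      rw [map_neg, map_one] at h5
      have h6 : (2 : k) * B' v v = 0 := by linear_combination h5
      exact (mul_eq_zero.1 h6).resolve_left h2k
  obtain ⟨w, hw, hw'⟩ := exists_fixed ρ h4 h11 h2k h3k (by rw [Module.finrank_fintype_fun_eq_card, hι]) hρi hinv hnd hs' a
  obtain ⟨v, hv, hv'⟩ := descent (F := F) (k := k) (P := {g | ∃ x : P, x • a = a ∧ g = ((x : GL ι F) : Matrix ι ι F)}) hw
    (by
      rintro g ⟨x, hx, rfl⟩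
      rw [← hρa]
      exact hw' x hx)
  exact ⟨v, hv, fun g hg => hv' _ ⟨g, hg, rfl⟩⟩

open Cfsg.Agent.SporadicA.SharpFour in
theorem fixed_of_form {P : Subgroup (GL ι F)} [Finite P] {X : Type*} [MulAction P X] [Fintype X] [DecidableEq X]
    (h4 : Sharp4 P X) (h11 : Fintype.card X = 11) (hι : Fintype.card ι = 10) (h2 : (2 : F) ≠ 0) (h3 : (3 : F) ≠ 0)
    (hf : FixQ P ∨ FixA P) (a : X) :
    ∃ w : ι → F, w ≠ 0 ∧ ∀ g : P, g • a = a → ((g : GL ι F) : Matrix ι ι F) *ᵥ w = w := by
  rcases hf with ⟨Q, hQ, hfix⟩ | ⟨f, hf, hfix⟩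
  · refine fixed_of_bilin h4 h11 hι h2 h3 hQ.polar_bilinear hQ.nondegenerate ?_ (Or.inl fun v w => ?_) a
    · intro s hs u v
      rw [QuadraticMap.polar, QuadraticMap.polar, ← Matrix.mulVec_add, hfix s hs, hfix s hs, hfix s hs]
    · exact QuadraticMap.polar_comm Q v w
  · exact fixed_of_bilin h4 h11 hι h2 h3 hf.bilinear hf.nondegenerate hfix (Or.inr hf.skew) a

open Cfsg.Agent.SporadicA.SharpFour in
/-- **`M₁₁` in dimension 10, characteristic not 2, 3, self-dual**: `P` acts sharply 4-transitively on 11 points and the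
stabiliser of each point fixes a nonzero vector. -/
theorem m11_fixed {P : Subgroup (GL ι F)} [Finite P] (hP : Spor.IsoM11 P) (hι : Fintype.card ι = 10)
    (h2 : (2 : F) ≠ 0) (h3 : (3 : F) ≠ 0) (hf : FixQ P ∨ FixA P) :
    ∃ (X : Type u) (_ : Fintype X) (_ : DecidableEq X) (_ : MulAction P X), Fintype.card X = 11 ∧ Sharp4 P X ∧
      ∀ a : X, ∃ w : ι → F, w ≠ 0 ∧ ∀ g : P, g • a = a → ((g : GL ι F) : Matrix ι ι F) *ᵥ w = w := by
  obtain ⟨X, i1, i2, i3, h11, h4⟩ := Cfsg.Agent.SectRankFour.AutM11.exists_sharp4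
    (Cfsg.Agent.UGT.End.MEleven.isM11 hP)
  exact ⟨X, i1, i2, i3, h11, h4, fun a => fixed_of_form h4 h11 hι h2 h3 hf a⟩

end Cfsg.Agent.H926.MEl
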