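import Cfsg.Agent.SporadicA.SharpFour

/-!
# Sharply 4-transitive groups of degree 11: local structure (helper926)

`K a b`, `Q a b c` : pointwise stabilisers of two, three points; orders 72, 8.
`exists_E` : the elements of `K a b` that fix no further point form, with `1`, an elementary abelian group `E` of order 9,
regular on the nine other points.
-/

set_option autoImplicit false

namespace Cfsg.Agent.H926.MEl

open Cfsg.Agent.SporadicA.SharpFour

variable {G X : Type*} [Group G] [MulAction G X]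

/-- the pointwise stabiliser of two points -/
def K (G : Type*) {X : Type*} [Group G] [MulAction G X] (a b : X) : Subgroup G :=
  MulAction.stabilizer G a ⊓ MulAction.stabilizer G b

/-- the pointwise stabiliser of three points -/
def Q (G : Type*) {X : Type*} [Group G] [MulAction G X] (a b c : X) : Subgroup G :=
  K G a b ⊓ MulAction.stabilizer G c

theorem mem_K {a b : X} {g : G} : g ∈ K G a b ↔ g • a = a ∧ g • b = b := by
  rw [K, Subgroup.mem_inf, MulAction.mem_stabilizer_iff, MulAction.mem_stabilizer_iff]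

theorem mem_Q {a b c : X} {g : G} : g ∈ Q G a b c ↔ g • a = a ∧ g • b = b ∧ g • c = c := by
  rw [Q, Subgroup.mem_inf, mem_K, MulAction.mem_stabilizer_iff, and_assoc]

variable [Fintype X] [DecidableEq X]

/-- the points different from `a`, `b` -/
def Y (a b : X) : Finset X := Finset.univ \ {a, b}

theorem mem_Y {a b y : X} : y ∈ Y a b ↔ y ≠ a ∧ y ≠ b := by
  simp [Y]

theorem card_Y (h11 : Fintype.card X = 11) {a b : X} (hab : a ≠ b) : (Y a b).card = 9 := by
  rw [Y, Finset.card_sdiff_of_subset (Finset.subset_univ _), Finset.card_univ, h11, Finset.card_pair hab]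

theorem exists_other (h11 : Fintype.card X = 11) (s : Finset X) (hs : s.card < 11) : ∃ x, x ∉ s := by
  by_contra h
  push Not at h
  have h1 : s = Finset.univ := Finset.eq_univ_iff_forall.2 h
  rw [h1, Finset.card_univ] at hs
  omega

variable (h4 : Sharp4 G X) (h11 : Fintype.card X = 11)

include h4 h11

theorem card_Q {a b c : X} (hab : a ≠ b) (hac : a ≠ c) (hbc : b ≠ c) : Nat.card (Q G a b c) = 8 := by
  obtain ⟨d, hd⟩ := exists_other h11 {a, b, c} (lt_of_le_of_lt Finset.card_le_three (by norm_num))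
  simp only [Finset.mem_insert, Finset.mem_singleton, not_or] at hd
  obtain ⟨hda, hdb, hdc⟩ := hd
  have hn : [a, b, c, d].Nodup := nodup4_iff.2 ⟨hab, hac, Ne.symm hda, hbc, Ne.symm hdb, Ne.symm hdc⟩
  have key : Nat.card (Q G a b c) = Nat.card (↥((Finset.univ \ {a, b, c} : Finset X))) := by
    refine Nat.card_congr (Equiv.ofBijective (fun g => ⟨(g : G) • d, ?_⟩) ⟨?_, ?_⟩)
    · obtain ⟨g, hg⟩ := g
      obtain ⟨ha, hb, hc⟩ := mem_Q.1 hg
      simp only [Finset.mem_sdiff, Finset.mem_univ, Finset.mem_insert, Finset.mem_singleton, true_and, not_or]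
      refine ⟨fun h => hda ?_, fun h => hdb ?_, fun h => hdc ?_⟩
      · exact MulAction.injective g (h.trans ha.symm)
      · exact MulAction.injective g (h.trans hb.symm)
      · exact MulAction.injective g (h.trans hc.symm)
    · intro g g' h
      have h1 : (g : G) • d = (g' : G) • d := congrArg Subtype.val h
      obtain ⟨ha, hb, hc⟩ := mem_Q.1 g.2
      obtain ⟨ha', hb', hc'⟩ := mem_Q.1 g'.2
      exact Subtype.ext (h4.eq_of hn (ha.trans ha'.symm) (hb.trans hb'.symm) (hc.trans hc'.symm) h1)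
    · rintro ⟨x, hx⟩
      simp only [Finset.mem_sdiff, Finset.mem_univ, Finset.mem_insert, Finset.mem_singleton, true_and, not_or] at hx
      obtain ⟨hxa, hxb, hxc⟩ := hx
      obtain ⟨g, ha, hb, hc, hd'⟩ := h4.exists_map a b c d a b c x hn
        (nodup4_iff.2 ⟨hab, hac, Ne.symm hxa, hbc, Ne.symm hxb, Ne.symm hxc⟩)
      exact ⟨⟨g, mem_Q.2 ⟨ha, hb, hc⟩⟩, Subtype.ext hd'⟩
  rw [key, Nat.card_eq_fintype_card, Fintype.card_coe, Finset.card_sdiff_of_subset (Finset.subset_univ _),
    Finset.card_univ, h11, Finset.card_eq_three.2 ⟨a, b, c, hab, hac, hbc, rfl⟩]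

theorem card_K {a b : X} (hab : a ≠ b) : Nat.card (K G a b) = 72 := by
  obtain ⟨c, hc⟩ := exists_other h11 {a, b} (lt_of_le_of_lt Finset.card_le_two (by norm_num))
  simp only [Finset.mem_insert, Finset.mem_singleton, not_or] at hc
  obtain ⟨hca, hcb⟩ := hc
  obtain ⟨d, hd⟩ := exists_other h11 {a, b, c} (lt_of_le_of_lt Finset.card_le_three (by norm_num))
  simp only [Finset.mem_insert, Finset.mem_singleton, not_or] at hd
  obtain ⟨hda, hdb, hdc⟩ := hd
  have hn : [a, b, c, d].Nodup :=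
    nodup4_iff.2 ⟨hab, Ne.symm hca, Ne.symm hda, Ne.symm hcb, Ne.symm hdb, Ne.symm hdc⟩
  have hne : ∀ g : G, g ∈ K G a b → ∀ x : X, x ≠ a → x ≠ b → g • x ≠ a ∧ g • x ≠ b := by
    intro g hg x hxa hxb
    obtain ⟨ha, hb⟩ := mem_K.1 hg
    exact ⟨fun h => hxa (MulAction.injective g (h.trans ha.symm)),
      fun h => hxb (MulAction.injective g (h.trans hb.symm))⟩
  have key : Nat.card (K G a b) = Nat.card (↥((Y a b).offDiag)) := by
    refine Nat.card_congr (Equiv.ofBijective (fun g => ⟨((g : G) • c, (g : G) • d), ?_⟩) ⟨?_, ?_⟩)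
    · obtain ⟨g, hg⟩ := g
      rw [Finset.mem_offDiag, mem_Y, mem_Y]
      exact ⟨hne g hg c hca hcb, hne g hg d hda hdb, fun h => hdc (MulAction.injective g h).symm⟩
    · intro g g' h
      have h1 := congrArg Subtype.val h
      have h2 : (g : G) • c = (g' : G) • c := congrArg Prod.fst h1
      have h3 : (g : G) • d = (g' : G) • d := congrArg Prod.snd h1
      obtain ⟨ha, hb⟩ := mem_K.1 g.2
      obtain ⟨ha', hb'⟩ := mem_K.1 g'.2
      exact Subtype.ext (h4.eq_of hn (ha.trans ha'.symm) (hb.trans hb'.symm) h2 h3)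
    · rintro ⟨⟨x, y⟩, hxy⟩
      rw [Finset.mem_offDiag, mem_Y, mem_Y] at hxy
      obtain ⟨⟨hxa, hxb⟩, ⟨hya, hyb⟩, hxy⟩ := hxy
      obtain ⟨g, ha, hb, hc, hd'⟩ := h4.exists_map a b c d a b x y hn
        (nodup4_iff.2 ⟨hab, Ne.symm hxa, Ne.symm hya, Ne.symm hxb, Ne.symm hyb, hxy⟩)
      exact ⟨⟨g, mem_K.2 ⟨ha, hb⟩⟩, Subtype.ext (Prod.ext hc hd')⟩
  rw [key, Nat.card_eq_fintype_card, Fintype.card_coe, Finset.offDiag_card, card_Y h11 hab]

omit h11 [Fintype X] [DecidableEq X] in
/-- a nontrivial element of `K a b` fixes at most one further point -/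
theorem fix_unique {a b : X} (hab : a ≠ b) {g : G} (hg : g ∈ K G a b) {x y : X} (hxa : x ≠ a) (hxb : x ≠ b)
    (hya : y ≠ a) (hyb : y ≠ b) (hx : g • x = x) (hy : g • y = y) (hxy : x ≠ y) : g = 1 := by
  obtain ⟨ha, hb⟩ := mem_K.1 hg
  exact h4.eq_one g a b x y (nodup4_iff.2 ⟨hab, Ne.symm hxa, Ne.symm hya, Ne.symm hxb, Ne.symm hyb, hxy⟩) ha hb hx hy


/-- an element of order a power of 3 in `K a b` fixes no further point -/
theorem fpf_of_three {a b : X} (hab : a ≠ b) {g : G} (hg : g ∈ K G a b) {k : ℕ} (h3 : g ^ 3 ^ k = 1) (h1 : g ≠ 1)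
    {y : X} (hya : y ≠ a) (hyb : y ≠ b) : g • y ≠ y := by
  intro hy
  apply h1
  obtain ⟨ha, hb⟩ := mem_K.1 hg
  set σ : Equiv.Perm X := MulAction.toPermHom G X g with hσ
  have hσ3 : σ ^ 3 ^ k = 1 := by rw [hσ, ← map_pow, h3, map_one]
  have : Fact (Nat.Prime 3) := ⟨by norm_num⟩
  have hmod := Equiv.Perm.card_compl_support_modEq hσ3
  rw [h11] at hmod
  have hmem : ∀ x, x ∈ σ.supportᶜ ↔ g • x = x := by
    intro x
    rw [Finset.mem_compl, Equiv.Perm.mem_support, not_not]
    rfl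
  have hsub : ({a, b, y} : Finset X) ⊆ σ.supportᶜ := by
    intro x hx
    simp only [Finset.mem_insert, Finset.mem_singleton] at hx
    rcases hx with rfl | rfl | rfl
    · exact (hmem _).2 ha
    · exact (hmem _).2 hb
    · exact (hmem _).2 hy
  have hc3 : ({a, b, y} : Finset X).card = 3 :=
    Finset.card_eq_three.2 ⟨a, b, y, hab, Ne.symm hya, Ne.symm hyb, rfl⟩
  have hlt : 3 < σ.supportᶜ.card := by
    have h5 := Finset.card_le_card hsub
    rw [hc3] at h5
    unfold Nat.ModEq at hmod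
    omega
  obtain ⟨x, hx, hx'⟩ := Finset.exists_mem_notMem_of_card_lt_card (show ({a, b, y} : Finset X).card < σ.supportᶜ.card by
    rw [hc3]; exact hlt)
  simp only [Finset.mem_insert, Finset.mem_singleton, not_or] at hx'
  exact fix_unique h4 hab hg hya hyb hx'.1 hx'.2.1 hy ((hmem x).1 hx) (Ne.symm hx'.2.2)

/-- the group `E` -/
theorem exists_E [Finite G] {a b : X} (hab : a ≠ b) : ∃ E : Subgroup G, Nat.card E = 9 ∧ E ≤ K G a b ∧
    (∀ g, g ∈ E ↔ g ∈ K G a b ∧ (g = 1 ∨ ∀ y, y ≠ a → y ≠ b → g • y ≠ y)) := by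
  classical
  have : Fact (Nat.Prime 3) := ⟨by norm_num⟩
  have := Fintype.ofFinite G
  obtain ⟨P⟩ : Nonempty (Sylow 3 (K G a b)) := inferInstance
  have hP : Nat.card P = 9 := by
    rw [P.card_eq_multiplicity, card_K h4 h11 hab, show Nat.factorization 72 3 = 2 by
      rw [show (72 : ℕ) = 2 ^ 3 * 3 ^ 2 by norm_num, Nat.factorization_mul (by norm_num) (by norm_num),
        Nat.Prime.factorization_pow Nat.prime_two, Nat.Prime.factorization_pow Nat.prime_three]
      simp]
    norm_num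
  set E : Subgroup G := (P : Subgroup (K G a b)).map (K G a b).subtype with hE
  have hEcard : Nat.card E = 9 := by
    rw [hE, Subgroup.card_map_of_injective (K G a b).subtype_injective]
    exact hP
  have hEK : E ≤ K G a b := Subgroup.map_subtype_le _
  have hE3 : ∀ g ∈ E, g ^ 3 ^ 2 = 1 := by
    intro g hg
    have h1 := pow_card_eq_one' (x := (⟨g, hg⟩ : E))
    rw [hEcard] at h1
    exact congrArg Subtype.val h1
  have hfpf : ∀ g ∈ E, g = 1 ∨ ∀ y, y ≠ a → y ≠ b → g • y ≠ y := by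
    intro g hg
    by_cases h1 : g = 1
    · exact Or.inl h1
    · exact Or.inr fun y hya hyb => fpf_of_three h4 h11 hab (hEK hg) (hE3 g hg) h1 hya hyb
  refine ⟨E, hEcard, hEK, fun g => ⟨fun hg => ⟨hEK hg, hfpf g hg⟩, ?_⟩⟩
  rintro ⟨hg, hg'⟩
  rcases hg' with rfl | hg'
  · exact one_mem _
  -- counting
  let S : X → Finset G := fun y => (Finset.univ.filter fun g => g ∈ Q G a b y).erase 1
  have hS : ∀ y ∈ Y a b, (S y).card = 7 := by
    intro y hy
    rw [mem_Y] at hy
    have h1 : (Finset.univ.filter fun g => g ∈ Q G a b y).card = 8 := by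
      rw [← card_Q h4 h11 hab (Ne.symm hy.1) (Ne.symm hy.2), Nat.card_eq_fintype_card, Fintype.card_subtype]
    rw [Finset.card_erase_of_mem, h1]
    simp [one_mem]
  have hdisj : ∀ x ∈ Y a b, ∀ y ∈ Y a b, x ≠ y → Disjoint (S x) (S y) := by
    intro x hx y hy hxy
    rw [mem_Y] at hx hy
    rw [Finset.disjoint_left]
    intro g h1 h2
    rw [Finset.mem_erase, Finset.mem_filter, mem_Q] at h1 h2
    exact h1.1 (fix_unique h4 hab (mem_K.2 ⟨h1.2.2.1, h1.2.2.2.1⟩) hx.1 hx.2 hy.1 hy.2 h1.2.2.2.2 h2.2.2.2.2 hxy)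
  have hcardU : ((Y a b).biUnion S).card = 63 := by
    rw [Finset.card_biUnion hdisj, Finset.sum_congr rfl hS, Finset.sum_const, card_Y h11 hab]
    rfl
  let EF : Finset G := Finset.univ.filter fun g => g ∈ E
  have hEF : EF.card = 9 := by
    rw [← hEcard, Nat.card_eq_fintype_card, Fintype.card_subtype]
  let KF : Finset G := Finset.univ.filter fun g => g ∈ K G a b
  have hKF : KF.card = 72 := by
    rw [← card_K h4 h11 hab, Nat.card_eq_fintype_card, Fintype.card_subtype]
  have hd : Disjoint EF ((Y a b).biUnion S) := by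
    rw [Finset.disjoint_left]
    intro x hx hx'
    rw [Finset.mem_biUnion] at hx'
    obtain ⟨y, hy, hxy⟩ := hx'
    rw [mem_Y] at hy
    rw [Finset.mem_erase, Finset.mem_filter, mem_Q] at hxy
    rcases hfpf x (Finset.mem_filter.1 hx).2 with h | h
    · exact hxy.1 h
    · exact h y hy.1 hy.2 hxy.2.2.2.2
  have hsub : EF ∪ (Y a b).biUnion S ⊆ KF := by
    intro x hx
    rw [Finset.mem_union] at hx
    rw [Finset.mem_filter]
    refine ⟨Finset.mem_univ _, ?_⟩
    rcases hx with hx | hx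
    · exact hEK (Finset.mem_filter.1 hx).2
    · rw [Finset.mem_biUnion] at hx
      obtain ⟨y, hy, hxy⟩ := hx
      rw [Finset.mem_erase, Finset.mem_filter, mem_Q] at hxy
      exact mem_K.2 ⟨hxy.2.2.1, hxy.2.2.2.1⟩
  have heq : EF ∪ (Y a b).biUnion S = KF := by
    apply Finset.eq_of_subset_of_card_le hsub
    rw [Finset.card_union_of_disjoint hd, hEF, hcardU, hKF]
  have hgm : g ∈ EF ∪ (Y a b).biUnion S := by
    rw [heq, Finset.mem_filter]
    exact ⟨Finset.mem_univ _, hg⟩
  rw [Finset.mem_union] at hgm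
  rcases hgm with h | h
  · exact (Finset.mem_filter.1 h).2
  · exfalso
    rw [Finset.mem_biUnion] at h
    obtain ⟨y, hy, hxy⟩ := h
    rw [mem_Y] at hy
    rw [Finset.mem_erase, Finset.mem_filter, mem_Q] at hxy
    exact hg' y hy.1 hy.2 hxy.2.2.2.2

end Cfsg.Agent.H926.MEl
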