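import Cfsg.Agent.H926.MElGrp

/-!
# Sharply 4-transitive groups of degree 11: the local data (helper926)

`Loc G a b c E z` : all that is needed for the representation theory; `exists_loc`.
-/

set_option autoImplicit false

namespace Cfsg.Agent.H926.MEl

open Cfsg.Agent.SporadicA.SharpFour

/-- local data -/
structure Loc (G : Type*) {X : Type*} [Group G] [MulAction G X] (a b c : X) (E : Subgroup G) (z : G) : Prop where
  cardE : Nat.card E = 9
  comm : ∀ e ∈ E, ∀ e' ∈ E, e * e' = e' * e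
  EK : E ≤ K G a b
  norm : ∀ g : G, (g • a = a ∧ g • b = b) ∨ (g • a = b ∧ g • b = a) → ∀ e ∈ E, g * e * g⁻¹ ∈ E
  reg : ∀ y : X, y ≠ a → y ≠ b → ∃ e ∈ E, e • c = y
  inj : ∀ e ∈ E, e • c = c → e = 1
  cardQ : Nat.card (Q G a b c) = 8
  semi : ∀ q ∈ Q G a b c, ∀ e ∈ E, q * e = e * q → e ≠ 1 → q = 1
  zQ : z ∈ Q G a b c
  z1 : z ≠ 1
  zz : z * z = 1
  zu : ∀ q ∈ Q G a b c, q * q = 1 → q ≠ 1 → q = z
  four : ∀ q ∈ Q G a b c, q ≠ 1 → q ≠ z → q * q = z
  conj : ∀ q ∈ Q G a b c, q ≠ 1 → q ≠ z → ∀ q' ∈ Q G a b c, q' ≠ 1 → q' ≠ z →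
    ∃ g : G, g * q * g⁻¹ = q' ∨ g * q * g⁻¹ = q' * z
  swap : ∃ g : G, g • a = a ∧ g • b = c ∧ g • c = b ∧ g * g = 1
  tau : ∃ t : G, t • a = b ∧ t • b = a ∧ t * t = 1 ∧ (∀ q ∈ Q G a b c, t * q * t⁻¹ ∈ Q G a b c) ∧
    ∃ q ∈ Q G a b c, t * q ≠ q * t

section

variable {G : Type*} [Group G] [Finite G]

theorem conj_six {Q : Subgroup G} (hQ8 : Nat.card Q = 8) {y z : G} (hy3 : y ^ 3 = 1)
    (hyQ : ∀ q ∈ Q, y * q * y⁻¹ ∈ Q) (hyC : ∀ q ∈ Q, q * y = y * q → q = 1 ∨ q = z) (hzQ : z ∈ Q) (hz1 : z ≠ 1)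
    (hzz : z * z = 1) (hzy : z * y = y * z) (hzc : ∀ q ∈ Q, z * q = q * z) :
    ∀ q ∈ Q, q ≠ 1 → q ≠ z → ∀ q' ∈ Q, q' ≠ 1 → q' ≠ z → ∃ g : G, g * q * g⁻¹ = q' ∨ g * q * g⁻¹ = q' * z := by
  classical
  have := Fintype.ofFinite G
  intro q hq hq1 hqz q' hq' hq'1 hq'z
  obtain ⟨φ, hφ⟩ : ∃ φ : G ≃* G, ∀ x, φ x = y * x * y⁻¹ := ⟨MulAut.conj y, fun x => rfl⟩
  have hφ3 : ∀ x, φ (φ (φ x)) = x := by
    intro x
    rw [hφ, hφ, hφ]
    calc y * (y * (y * x * y⁻¹) * y⁻¹) * y⁻¹ = (y * y * y) * x * (y * y * y)⁻¹ := by group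
      _ = x := by
        rw [show y * y * y = y ^ 3 by rw [pow_succ, pow_two], hy3]; group
  have hφz : φ z = z := by rw [hφ, ← hzy, mul_inv_cancel_right]
  have hφQ : ∀ x ∈ Q, φ x ∈ Q := fun x hx => by rw [hφ]; exact hyQ x hx
  have hφ1 : ∀ x ∈ Q, φ x = x → x = 1 ∨ x = z := by
    intro x hx h
    apply hyC x hx
    rw [hφ] at h
    calc x * y = (y * x * y⁻¹) * y := by rw [h]
      _ = y * x := by group
  have hn : ∀ x ∈ Q, x ≠ 1 → x ≠ z → φ x ≠ x ∧ φ x ≠ x * z ∧ φ (φ x) ≠ x ∧ φ (φ x) ≠ x * z := by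
    intro x hx hx1 hxz
    have h1 : φ x ≠ x := fun h => (hφ1 x hx h).elim hx1 hxz
    refine ⟨h1, ?_, ?_, ?_⟩
    · intro h
      have h2 : φ (φ x) = x := by
        rw [h, map_mul, hφz, h, mul_assoc, hzz, mul_one]
      apply h1
      have h3 := hφ3 x
      rwa [h2] at h3
    · intro h
      apply h1
      have h3 := hφ3 x
      rwa [h] at h3
    · intro h
      apply h1
      have h2 : φ (φ (φ (φ x))) = x := by
        rw [h, map_mul, hφz, map_mul, hφz, h, mul_assoc, hzz, mul_one]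
      rwa [hφ3] at h2
  obtain ⟨n1, n2, n3, n4⟩ := hn q hq hq1 hqz
  have hne : ∀ x, x * z ≠ x := fun x h => hz1 (mul_eq_left.1 h)
  have hsym : ∀ x x', x = x' * z → x' = x * z := by
    intro x x' h
    rw [h, mul_assoc, hzz, mul_one]
  have e1 : φ (φ q) ≠ φ q := fun h => n1 (φ.injective h)
  have e2 : φ (φ q) ≠ φ q * z := by
    intro h
    apply n2
    apply φ.injective
    rw [map_mul, hφz]
    exact h
  have hnd : [q, φ q, φ (φ q), q * z, φ q * z, φ (φ q) * z].Nodup := by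
    have a1 : q ≠ φ q := Ne.symm n1
    have a2 : q ≠ φ (φ q) := Ne.symm n3
    have a3 : q ≠ q * z := Ne.symm (hne q)
    have a4 : q ≠ φ q * z := fun h => n2 (hsym _ _ h)
    have a5 : q ≠ φ (φ q) * z := fun h => n4 (hsym _ _ h)
    have b2 : φ q ≠ φ (φ q) := Ne.symm e1
    have b3 : φ q ≠ q * z := n2
    have b4 : φ q ≠ φ q * z := Ne.symm (hne _)
    have b5 : φ q ≠ φ (φ q) * z := fun h => e2 (hsym _ _ h)
    have c3 : φ (φ q) ≠ q * z := n4
    have c4 : φ (φ q) ≠ φ q * z := e2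
    have c5 : φ (φ q) ≠ φ (φ q) * z := Ne.symm (hne _)
    have d4 : q * z ≠ φ q * z := fun h => a1 (mul_right_cancel h)
    have d5 : q * z ≠ φ (φ q) * z := fun h => a2 (mul_right_cancel h)
    have f5 : φ q * z ≠ φ (φ q) * z := fun h => b2 (mul_right_cancel h)
    simp only [List.nodup_cons, List.mem_cons, List.not_mem_nil, or_false, not_or, not_false_eq_true,
      List.nodup_nil, and_true]
    exact ⟨⟨a1, a2, a3, a4, a5⟩, ⟨b2, b3, b4, b5⟩, ⟨c3, c4, c5⟩, ⟨d4, d5⟩, f5⟩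
  let S : Finset G := ((Finset.univ.filter fun g => g ∈ Q).erase 1).erase z
  have hS : S.card = 6 := by
    have h1 : (Finset.univ.filter fun g => g ∈ Q).card = 8 := by
      rw [← hQ8, Nat.card_eq_fintype_card, Fintype.card_subtype]
    rw [Finset.card_erase_of_mem, Finset.card_erase_of_mem, h1]
    · simp [one_mem]
    · simp [hzQ, hz1]
  have hmemS : ∀ x, x ∈ S ↔ x ≠ z ∧ x ≠ 1 ∧ x ∈ Q := by
    intro x
    rw [Finset.mem_erase, Finset.mem_erase, Finset.mem_filter]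
    simp
  have hzS : ∀ x ∈ S, x * z ∈ S := by
    intro x hx
    rw [hmemS] at hx ⊢
    refine ⟨fun h => hx.2.1 (mul_eq_right.1 h), ?_, mul_mem hx.2.2 hzQ⟩
    intro h
    apply hx.1
    rw [eq_inv_of_mul_eq_one_left h]
    exact inv_eq_of_mul_eq_one_right hzz
  have hφS : ∀ x ∈ S, φ x ∈ S := by
    intro x hx
    rw [hmemS] at hx ⊢
    refine ⟨?_, ?_, hφQ x hx.2.2⟩
    · intro h
      exact hx.1 (φ.injective (h.trans hφz.symm))
    · intro h
      exact hx.2.1 (φ.injective (h.trans (map_one φ).symm))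
  have hqS : q ∈ S := (hmemS q).2 ⟨hqz, hq1, hq⟩
  have hT : [q, φ q, φ (φ q), q * z, φ q * z, φ (φ q) * z].toFinset = S := by
    apply Finset.eq_of_subset_of_card_le
    · intro x hx
      simp only [List.mem_toFinset, List.mem_cons, List.not_mem_nil, or_false] at hx
      rcases hx with rfl | rfl | rfl | rfl | rfl | rfl
      · exact hqS
      · exact hφS _ hqS
      · exact hφS _ (hφS _ hqS)
      · exact hzS _ hqS
      · exact hzS _ (hφS _ hqS)
      · exact hzS _ (hφS _ (hφS _ hqS))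
    · rw [hS, List.toFinset_card_of_nodup hnd]
      simp
  have hq'S : q' ∈ S := (hmemS q').2 ⟨hq'z, hq'1, hq'⟩
  rw [← hT] at hq'S
  simp only [List.mem_toFinset, List.mem_cons, List.not_mem_nil, or_false] at hq'S
  have hφφ : ∀ x, φ (φ x) = (y * y) * x * (y * y)⁻¹ := by
    intro x
    rw [hφ, hφ]; group
  rcases hq'S with rfl | rfl | rfl | rfl | rfl | rfl
  · exact ⟨1, Or.inl (by group)⟩
  · exact ⟨y, Or.inl (hφ q).symm⟩
  · exact ⟨y * y, Or.inl (hφφ q).symm⟩
  · exact ⟨1, Or.inr (by rw [mul_assoc _ z z, hzz]; group)⟩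
  · exact ⟨y, Or.inr (by rw [mul_assoc _ z z, hzz, mul_one]; exact (hφ q).symm)⟩
  · exact ⟨y * y, Or.inr (by rw [mul_assoc _ z z, hzz, mul_one]; exact (hφφ q).symm)⟩

end

variable {G X : Type*} [Group G] [MulAction G X] [Fintype X] [DecidableEq X] [Finite G]

set_option maxHeartbeats 4000000 in
theorem exists_loc (h4 : Sharp4 G X) (h11 : Fintype.card X = 11) {a b c : X} (hab : a ≠ b) (hac : a ≠ c) (hbc : b ≠ c) :
    ∃ (E : Subgroup G) (z : G), Loc G a b c E z := by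
  classical
  have f3 : Fact (Nat.Prime 3) := ⟨by norm_num⟩
  have f2 : Fact (Nat.Prime 2) := ⟨by norm_num⟩
  have := Fintype.ofFinite G
  obtain ⟨d, hd⟩ := exists_other h11 {a, b, c} (lt_of_le_of_lt Finset.card_le_three (by norm_num))
  simp only [Finset.mem_insert, Finset.mem_singleton, not_or] at hd
  obtain ⟨hda, hdb, hdc⟩ := hd
  have hn : [a, b, c, d].Nodup := nodup4_iff.2 ⟨hab, hac, Ne.symm hda, hbc, Ne.symm hdb, Ne.symm hdc⟩
  obtain ⟨E, hE9, hEK, hE⟩ := exists_E h4 h11 hab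
  have hQ8 := card_Q h4 h11 hab hac hbc
  have hcomm : ∀ e ∈ E, ∀ e' ∈ E, e * e' = e' * e := by
    intro e he e' he'
    have h1 := IsPGroup.isMulCommutative_of_card_eq_prime_sq (p := 3) (G := E) (by rw [hE9]; norm_num)
    have h2 := h1.is_comm.comm (⟨e, he⟩ : E) ⟨e', he'⟩
    exact congrArg Subtype.val h2
  have hinj : ∀ e ∈ E, e • c = c → e = 1 := by
    intro e he hec
    rcases ((hE e).1 he).2 with h | h
    · exact h
    · exact absurd hec (h c (Ne.symm hac) (Ne.symm hbc))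
  have hnorm : ∀ g : G, (g • a = a ∧ g • b = b) ∨ (g • a = b ∧ g • b = a) → ∀ e ∈ E, g * e * g⁻¹ ∈ E := by
    intro g hg e he
    have hab' : (g⁻¹ • a = a ∧ g⁻¹ • b = b) ∨ (g⁻¹ • a = b ∧ g⁻¹ • b = a) := by
      rcases hg with ⟨h1, h2⟩ | ⟨h1, h2⟩
      · exact Or.inl ⟨by rw [inv_smul_eq_iff, h1], by rw [inv_smul_eq_iff, h2]⟩
      · exact Or.inr ⟨by rw [inv_smul_eq_iff, h2], by rw [inv_smul_eq_iff, h1]⟩
    obtain ⟨hea, heb⟩ := mem_K.1 (hEK he)
    rw [hE]
    constructor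
    · rw [mem_K]
      rcases hg with ⟨h1, h2⟩ | ⟨h1, h2⟩ <;> rcases hab' with ⟨h3, h4'⟩ | ⟨h3, h4'⟩
      · rw [mul_smul, mul_smul, mul_smul, mul_smul, h3, h4', hea, heb]; exact ⟨h1, h2⟩
      · rw [inv_smul_eq_iff, h2] at h3; exact absurd h3 hab
      · rw [inv_smul_eq_iff, h1] at h3; exact absurd h3 hab
      · rw [mul_smul, mul_smul, mul_smul, mul_smul, h3, h4', hea, heb]; exact ⟨h2, h1⟩
    · by_cases h1 : e = 1
      · left; rw [h1, mul_one, mul_inv_cancel]
      · right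
        intro y hya hyb hy
        rcases ((hE e).1 he).2 with h | h
        · exact h1 h
        · refine h (g⁻¹ • y) ?_ ?_ ?_
          · intro h2
            rw [inv_smul_eq_iff] at h2
            rcases hg with ⟨h3, h4'⟩ | ⟨h3, h4'⟩
            · rw [h3] at h2; exact hya h2
            · rw [h3] at h2; exact hyb h2
          · intro h2
            rw [inv_smul_eq_iff] at h2
            rcases hg with ⟨h3, h4'⟩ | ⟨h3, h4'⟩
            · rw [h4'] at h2; exact hyb h2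
            · rw [h4'] at h2; exact hya h2
          · rw [eq_inv_smul_iff, ← mul_smul, ← mul_smul]; exact hy
  have hsemi : ∀ q ∈ Q G a b c, ∀ e ∈ E, q * e = e * q → e ≠ 1 → q = 1 := by
    intro q hq e he h h1
    obtain ⟨hqa, hqb, hqc⟩ := mem_Q.1 hq
    obtain ⟨hea, heb⟩ := mem_K.1 (hEK he)
    have h2 : e • c ≠ c := fun h3 => h1 (hinj e he h3)
    have h3 : e • c ≠ a := fun h3 => hac (MulAction.injective e (h3.trans hea.symm)).symm
    have h5 : e • c ≠ b := fun h3 => hbc (MulAction.injective e (h3.trans heb.symm)).symm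
    refine h4.eq_one q a b c (e • c) (nodup4_iff.2 ⟨hab, hac, Ne.symm h3, hbc, Ne.symm h5, Ne.symm h2⟩) hqa hqb hqc ?_
    rw [← mul_smul, h, mul_smul, hqc]
  -- regular
  have hreg : ∀ y : X, y ≠ a → y ≠ b → ∃ e ∈ E, e • c = y := by
    intro y hya hyb
    have hmap : ∀ e : E, (e : G) • c ∈ Y a b := by
      rintro ⟨e, he⟩
      obtain ⟨hea, heb⟩ := mem_K.1 (hEK he)
      rw [mem_Y]
      exact ⟨fun h3 => hac (MulAction.injective e (h3.trans hea.symm)).symm,
        fun h3 => hbc (MulAction.injective e (h3.trans heb.symm)).symm⟩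
    let φ : E → Y a b := fun e => ⟨(e : G) • c, hmap e⟩
    have hφ : Function.Injective φ := by
      intro e e' h
      have h1 : (e : G) • c = (e' : G) • c := congrArg Subtype.val h
      have h2 : (e' : G)⁻¹ * (e : G) = 1 := by
        apply hinj _ (mul_mem (inv_mem e'.2) e.2)
        rw [mul_smul, h1, inv_smul_smul]
      exact Subtype.ext (inv_mul_eq_one.1 h2).symm
    have hbij : Function.Bijective φ := by
      rw [Fintype.bijective_iff_injective_and_card]
      refine ⟨hφ, ?_⟩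
      rw [Fintype.card_coe, card_Y h11 hab, ← hE9, Nat.card_eq_fintype_card]
    obtain ⟨e, he⟩ := hbij.2 ⟨y, mem_Y.2 ⟨hya, hyb⟩⟩
    exact ⟨e, e.2, congrArg Subtype.val he⟩
  -- the involution of Q
  have hinv : ∀ q ∈ Q G a b c, q * q = 1 → q ≠ 1 → ∀ e ∈ E, q * e * q⁻¹ = e⁻¹ := by
    intro q hq hqq hq1 e he
    obtain ⟨hqa, hqb, hqc⟩ := mem_Q.1 hq
    have h1 : q * e * q⁻¹ ∈ E := hnorm q (Or.inl ⟨hqa, hqb⟩) e he
    by_contra h2
    have h3 : e * (q * e * q⁻¹) ≠ 1 := fun h => h2 (eq_inv_of_mul_eq_one_right h)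
    apply hq1
    refine hsemi q hq _ (mul_mem he h1) ?_ h3
    have h5 : q⁻¹ = q := inv_eq_of_mul_eq_one_right hqq
    rw [hcomm e he _ h1]
    rw [h5]
    calc q * (q * e * q * e) = (q * q) * e * q * e := by group
      _ = e * q * e := by rw [hqq, one_mul]
      _ = e * (q * e * q) * q := by
        rw [show e * (q * e * q) * q = e * q * e * (q * q) by group, hqq, mul_one]
      _ = q * e * q * e * q := by
        rw [hcomm e he (q * e * q) (by rw [h5] at h1; exact h1)]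
  have hcard2 : ∃ z ∈ Q G a b c, z * z = 1 ∧ z ≠ 1 := by
    obtain ⟨z, hz⟩ := exists_prime_orderOf_dvd_card' (G := Q G a b c) 2 (by rw [hQ8]; norm_num)
    refine ⟨z, z.2, ?_, ?_⟩
    · have h1 := pow_orderOf_eq_one z
      rw [hz, pow_two] at h1
      exact congrArg Subtype.val h1
    · intro h1
      have h2 : z = 1 := Subtype.ext h1
      rw [h2, orderOf_one] at hz
      norm_num at hz
  obtain ⟨z, hzQ, hzz, hz1⟩ := hcard2
  obtain ⟨e0, he0, he01⟩ : ∃ e ∈ E, e ≠ 1 := by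
    by_contra h
    push Not at h
    have : E = ⊥ := by
      rw [Subgroup.eq_bot_iff_forall]; exact h
    rw [this, Subgroup.card_bot] at hE9
    norm_num at hE9
  have hzu : ∀ q ∈ Q G a b c, q * q = 1 → q ≠ 1 → q = z := by
    intro q hq hqq hq1
    have h1 : q⁻¹ * z = 1 := by
      refine hsemi _ (mul_mem (inv_mem hq) hzQ) e0 he0 ?_ he01
      have h2 := hinv q hq hqq hq1 e0 he0
      have h3 := hinv z hzQ hzz hz1 e0 he0
      have h5 : z * e0 = e0⁻¹ * z := by rw [← h3]; group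
      have h6 : q⁻¹ * e0⁻¹ = e0 * q⁻¹ := by
        rw [← h2]
        have h7 : q⁻¹ = q := inv_eq_of_mul_eq_one_right hqq
        have h8 : q * e0 = e0⁻¹ * q := by rw [← h2]; group
        rw [h7]
        calc q * (q * e0 * q) = (q * q) * e0 * q := by group
          _ = e0 * q := by rw [hqq, one_mul]
      rw [mul_assoc, h5, ← mul_assoc, h6, mul_assoc]
    exact (inv_mul_eq_one.1 h1)
  -- the element of order 3
  obtain ⟨y, hya, hyb, hyc, hyd⟩ := h4.exists_map a b c d b c a d hn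
    (nodup4_iff.2 ⟨hbc, hab.symm, Ne.symm hdb, hac.symm, Ne.symm hdc, Ne.symm hda⟩)
  have hy3 : y ^ 3 = 1 := by
    apply h4.eq_one _ a b c d hn
    · rw [pow_succ, pow_two, mul_smul, mul_smul, hya, hyb, hyc]
    · rw [pow_succ, pow_two, mul_smul, mul_smul, hyb, hyc, hya]
    · rw [pow_succ, pow_two, mul_smul, mul_smul, hyc, hya, hyb]
    · rw [pow_succ, pow_two, mul_smul, mul_smul, hyd, hyd, hyd]
  have hyinv : y⁻¹ • a = c ∧ y⁻¹ • b = a ∧ y⁻¹ • c = b :=
    ⟨by rw [inv_smul_eq_iff, hyc], by rw [inv_smul_eq_iff, hya], by rw [inv_smul_eq_iff, hyb]⟩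
  have hyQ : ∀ q ∈ Q G a b c, y * q * y⁻¹ ∈ Q G a b c := by
    intro q hq
    obtain ⟨hqa, hqb, hqc⟩ := mem_Q.1 hq
    rw [mem_Q]
    refine ⟨?_, ?_, ?_⟩
    · rw [mul_smul, mul_smul, hyinv.1, hqc, hyc]
    · rw [mul_smul, mul_smul, hyinv.2.1, hqa, hya]
    · rw [mul_smul, mul_smul, hyinv.2.2, hqb, hyb]
  have hzy : z * y = y * z := by
    have h1 : y * z * y⁻¹ = z := by
      apply hzu _ (hyQ z hzQ)
      · calc y * z * y⁻¹ * (y * z * y⁻¹) = y * (z * z) * y⁻¹ := by group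
          _ = 1 := by rw [hzz]; group
      · intro h
        apply hz1
        have h2 : z = y⁻¹ * (y * z * y⁻¹) * y := by group
        rw [h2, h]; group
    calc z * y = (y * z * y⁻¹) * y := by rw [h1]
      _ = y * z := by group
  have hyC : ∀ q ∈ Q G a b c, q * y = y * q → q = 1 ∨ q = z := by
    intro q hq hqy
    by_contra hcon
    push Not at hcon
    obtain ⟨e, ⟨hed, hye⟩, huniq⟩ := exists_unique_other h4 h11 hn hya hyb hyc hyd
    obtain ⟨hqa, hqb, hqc⟩ := mem_Q.1 hq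
    obtain ⟨hza, hzb, hzc⟩ := mem_Q.1 hzQ
    -- the fixed points of y are d, q d, z d
    have hfix : ∀ r ∈ Q G a b c, r * y = y * r → r ≠ 1 → r • d = e := by
      intro r hr hry hr1
      apply huniq
      refine ⟨?_, ?_⟩
      · intro h
        obtain ⟨h1, h2, h3⟩ := mem_Q.1 hr
        exact hr1 (h4.eq_one r a b c d hn h1 h2 h3 h)
      · rw [← mul_smul, ← hry, mul_smul, hyd]
    have h1 := hfix q hq hqy hcon.1
    have h2 := hfix z hzQ hzy hz1
    exact hcon.2 (h4.eq_of hn (hqa.trans hza.symm) (hqb.trans hzb.symm) (hqc.trans hzc.symm) (h1.trans h2.symm))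
  have hzc : ∀ q ∈ Q G a b c, z * q = q * z := by
    intro q hq
    have h1 : q * z * q⁻¹ = z := by
      apply hzu _ (mul_mem (mul_mem hq hzQ) (inv_mem hq))
      · calc q * z * q⁻¹ * (q * z * q⁻¹) = q * (z * z) * q⁻¹ := by group
          _ = 1 := by rw [hzz]; group
      · intro h
        apply hz1
        have h2 : z = q⁻¹ * (q * z * q⁻¹) * q := by group
        rw [h2, h]; group
    calc z * q = (q * z * q⁻¹) * q := by rw [h1]
      _ = q * z := by group
  -- squares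
  have hfour : ∀ q ∈ Q G a b c, q ≠ 1 → q ≠ z → q * q = z := by
    intro q hq hq1 hqz
    by_contra hcon
    have hqq1 : q * q ≠ 1 := fun h => hqz (hzu q hq h hq1)
    have h8 : q ^ 8 = 1 := by
      have h1 := pow_card_eq_one' (x := (⟨q, hq⟩ : Q G a b c))
      rw [hQ8] at h1
      exact congrArg Subtype.val h1
    have h4q : q ^ 4 ≠ 1 := by
      intro h
      apply hcon
      apply hzu _ (mul_mem hq hq) _ hqq1
      rw [← h, show 4 = 2 + 2 by norm_num, pow_add, pow_two]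
    have ho : orderOf (⟨q, hq⟩ : Q G a b c) = 8 := by
      have h1 : orderOf (⟨q, hq⟩ : Q G a b c) ∣ 2 ^ 3 := by
        apply orderOf_dvd_of_pow_eq_one
        exact Subtype.ext h8
      obtain ⟨k, hk, hk'⟩ := (Nat.dvd_prime_pow Nat.prime_two).1 h1
      rw [hk']
      have h2 : k = 3 := by
        by_contra h3
        have h5 : orderOf (⟨q, hq⟩ : Q G a b c) ∣ 4 := by
          rw [hk']
          exact pow_dvd_pow 2 (show k ≤ 2 by omega)
        apply h4q
        have h6 := orderOf_dvd_iff_pow_eq_one.1 h5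
        exact congrArg Subtype.val h6
      rw [h2]; norm_num
    have hcyc : ∀ r : Q G a b c, r ∈ Subgroup.zpowers (⟨q, hq⟩ : Q G a b c) := by
      have h1 : Subgroup.zpowers (⟨q, hq⟩ : Q G a b c) = ⊤ := by
        apply Subgroup.eq_top_of_card_eq
        rw [Nat.card_zpowers, ho, hQ8]
      intro r
      rw [h1]
      trivial
    have hcyc' : ∀ r ∈ Q G a b c, ∃ k : ℕ, r = q ^ k := by
      intro r hr
      have h1 := hcyc ⟨r, hr⟩
      rw [← mem_powers_iff_mem_zpowers] at h1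
      obtain ⟨k, hk⟩ := h1
      exact ⟨k, (congrArg Subtype.val hk).symm⟩
    obtain ⟨k, hk⟩ := hcyc' _ (hyQ q hq)
    have hpow : ∀ m : ℕ, y * q ^ m * y⁻¹ = (q ^ m) ^ k := by
      intro m
      rw [← conj_pow, hk, ← pow_mul, ← pow_mul, mul_comm]
    have h1 : q = q ^ (k * k * k) := by
      calc q = y ^ 3 * q * (y ^ 3)⁻¹ := by rw [hy3]; group
        _ = y * (y * (y * q * y⁻¹) * y⁻¹) * y⁻¹ := by
          rw [pow_succ, pow_two]; group
        _ = q ^ (k * k * k) := by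
          rw [hk, hpow, ← pow_mul, hpow, ← pow_mul]
    have h2 : k * k * k ≡ 1 [MOD 8] := by
      have h3 : (⟨q, hq⟩ : Q G a b c) ^ (k * k * k) = (⟨q, hq⟩ : Q G a b c) ^ 1 := by
        apply Subtype.ext
        change q ^ (k * k * k) = q ^ 1
        rw [← h1, pow_one]
      rw [pow_eq_pow_iff_modEq, ho] at h3
      exact h3
    have h3 : k ≡ 1 [MOD 8] := by
      unfold Nat.ModEq at h2 ⊢
      have h5 : k % 8 < 8 := Nat.mod_lt _ (by norm_num)
      rw [Nat.mul_mod, Nat.mul_mod k k] at h2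
      clear hpow h1 hk
      generalize k % 8 = r at h2 h5
      interval_cases r <;> revert h2 <;> decide
    have h5 : (⟨q, hq⟩ : Q G a b c) ^ k = (⟨q, hq⟩ : Q G a b c) ^ 1 := by
      rw [pow_eq_pow_iff_modEq, ho]
      exact h3
    have h6 : q ^ k = q := by
      have h7 := congrArg Subtype.val h5
      rw [pow_one] at h7
      exact h7
    rw [h6] at hk
    have h7 : q * y = y * q := by
      calc q * y = (y * q * y⁻¹) * y := by rw [hk]
        _ = y * q := by group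
    rcases hyC q hq h7 with h | h
    · exact hq1 h
    · exact hqz h
  have hconj := conj_six hQ8 hy3 hyQ hyC hzQ hz1 hzz hzy hzc
  obtain ⟨g, hga, hgb, hgc, hgd⟩ := h4.exists_map a b c d a c b d hn
    (nodup4_iff.2 ⟨hac, hab, Ne.symm hda, hbc.symm, Ne.symm hdc, Ne.symm hdb⟩)
  obtain ⟨t, hta, htb, htc, htd⟩ := h4.exists_map a b c d b a c d hn
    (nodup4_iff.2 ⟨hab.symm, hbc, Ne.symm hdb, hac, Ne.symm hda, Ne.symm hdc⟩)
  have htt : t * t = 1 := by
    apply h4.eq_one _ a b c d hn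
    · rw [mul_smul, hta, htb]
    · rw [mul_smul, htb, hta]
    · rw [mul_smul, htc, htc]
    · rw [mul_smul, htd, htd]
  refine ⟨E, z, ⟨hE9, hcomm, hEK, hnorm, hreg, hinj, hQ8, hsemi, hzQ, hz1, hzz, hzu, hfour, hconj,
    ⟨g, hga, hgb, hgc, ?_⟩, ⟨t, hta, htb, htt, ?_, ?_⟩⟩⟩
  · apply h4.eq_one _ a b c d hn
    · rw [mul_smul, hga, hga]
    · rw [mul_smul, hgb, hgc]
    · rw [mul_smul, hgc, hgb]
    · rw [mul_smul, hgd, hgd]
  · intro q hq
    obtain ⟨hqa, hqb, hqc⟩ := mem_Q.1 hq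
    have hti : t⁻¹ = t := inv_eq_of_mul_eq_one_right htt
    rw [mem_Q, hti]
    refine ⟨?_, ?_, ?_⟩
    · rw [mul_smul, mul_smul, hta, hqb, htb]
    · rw [mul_smul, mul_smul, htb, hqa, hta]
    · rw [mul_smul, mul_smul, htc, hqc, htc]
  · by_contra hcon
    push Not at hcon
    -- t fixes every point q d
    obtain ⟨hza, hzb, hzc'⟩ := mem_Q.1 hzQ
    obtain ⟨q, hq, hq1, hqz⟩ : ∃ q ∈ Q G a b c, q ≠ 1 ∧ q ≠ z := by
      by_contra h
      push Not at h
      have h1 : (Finset.univ.filter fun g => g ∈ Q G a b c).card = 8 := by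
        rw [← hQ8, Nat.card_eq_fintype_card, Fintype.card_subtype]
      have h2 : (Finset.univ.filter fun g => g ∈ Q G a b c) ⊆ {1, z} := by
        intro x hx
        rw [Finset.mem_filter] at hx
        rw [Finset.mem_insert, Finset.mem_singleton]
        by_cases h3 : x = 1
        · exact Or.inl h3
        · exact Or.inr (h x hx.2 h3)
      have h3 := Finset.card_le_card h2
      have h5 := Finset.card_le_two (a := (1 : G)) (b := z)
      omega
    obtain ⟨hqa, hqb, hqc⟩ := mem_Q.1 hq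
    have hne1 : z • d ≠ d := fun h => hz1 (h4.eq_one z a b c d hn hza hzb hzc' h)
    have hne2 : q • d ≠ d := fun h => hq1 (h4.eq_one q a b c d hn hqa hqb hqc h)
    have hne3 : q • d ≠ z • d := fun h => hqz (h4.eq_of hn (hqa.trans hza.symm) (hqb.trans hzb.symm) (hqc.trans hzc'.symm) h)
    have hcd : ∀ r ∈ Q G a b c, r • d ≠ c := by
      intro r hr h
      obtain ⟨-, -, h3⟩ := mem_Q.1 hr
      exact hdc (MulAction.injective r (h.trans h3.symm))
    have h1 : t = 1 := by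
      apply h4.eq_one t c d (z • d) (q • d)
      · exact nodup4_iff.2 ⟨Ne.symm hdc, Ne.symm (hcd z hzQ), Ne.symm (hcd q hq), Ne.symm hne1, Ne.symm hne2, Ne.symm hne3⟩
      · exact htc
      · exact htd
      · rw [← mul_smul, hcon z hzQ, mul_smul, htd]
      · rw [← mul_smul, hcon q hq, mul_smul, htd]
    rw [h1, one_smul] at hta
    exact hab hta

end Cfsg.Agent.H926.MEl
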