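import Cfsg.Agent.H926.MElDec

/-!
# The 2-dimensional space `C_V(E)` (helper926)
-/

set_option autoImplicit false

namespace Cfsg.Agent.H926.MEl

open Module

/-- two by two matrices -/
theorem two_by_two {k : Type*} [Field k] (h2 : (2 : k) ≠ 0) {A B : Matrix (Fin 2) (Fin 2) k} (hA : A * A = 1)
    (hB : B * B = 1) (hAB : (A * B) * (A * B) = 1) (h1 : A.trace = B.trace) (h1' : (A * B).trace = A.trace) : A = 1 := by
  have key : ∀ C : Matrix (Fin 2) (Fin 2) k, C * C = 1 → C.trace • C = (1 + C.det) • (1 : Matrix (Fin 2) (Fin 2) k) := by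
    intro C hC
    have h00 := congrFun (congrFun hC 0) 0
    have h01 := congrFun (congrFun hC 0) 1
    have h10 := congrFun (congrFun hC 1) 0
    have h11 := congrFun (congrFun hC 1) 1
    rw [Matrix.mul_apply, Fin.sum_univ_two] at h00 h01 h10 h11
    simp only [Matrix.one_apply_eq, Matrix.one_apply_ne (show (0 : Fin 2) ≠ 1 by decide),
      Matrix.one_apply_ne (show (1 : Fin 2) ≠ 0 by decide)] at h00 h01 h10 h11
    rw [Matrix.trace_fin_two, Matrix.det_fin_two]
    rw [← Matrix.ext_iff]
    simp only [Fin.forall_fin_two, Matrix.smul_apply, smul_eq_mul, Matrix.one_apply_eq,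
      Matrix.one_apply_ne (show (0 : Fin 2) ≠ 1 by decide), Matrix.one_apply_ne (show (1 : Fin 2) ≠ 0 by decide)]
    refine ⟨⟨?_, ?_⟩, ?_, ?_⟩
    · linear_combination h00
    · linear_combination h01
    · linear_combination h10
    · linear_combination h11
  by_cases ht : A.trace = 0
  · exfalso
    have d1 : (1 + A.det) = 0 := by
      have h := key A hA
      rw [ht, zero_smul] at h
      have h' := congrFun (congrFun h 0) 0
      simpa using h'.symm
    have d2 : (1 + B.det) = 0 := by
      have h := key B hB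
      rw [← h1, ht, zero_smul] at h
      have h' := congrFun (congrFun h 0) 0
      simpa using h'.symm
    have d3 : (1 + (A * B).det) = 0 := by
      have h := key (A * B) hAB
      rw [h1', ht, zero_smul] at h
      have h' := congrFun (congrFun h 0) 0
      simpa using h'.symm
    rw [Matrix.det_mul] at d3
    apply h2
    linear_combination d3 - d1 * B.det + d2
  · have hsc : ∀ C : Matrix (Fin 2) (Fin 2) k, C * C = 1 → C.trace = A.trace → ∃ γ : k, C = γ • 1 ∧ 2 * γ = A.trace := by
      intro C hC hCt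
      have h := key C hC
      refine ⟨(1 + C.det) / A.trace, ?_, ?_⟩
      · rw [hCt] at h
        rw [div_eq_inv_mul, mul_smul, ← h, smul_smul, inv_mul_cancel₀ ht, one_smul]
      · have h' := congrArg Matrix.trace h
        rw [Matrix.trace_smul, Matrix.trace_smul, Matrix.trace_one, hCt, smul_eq_mul, smul_eq_mul, Fintype.card_fin] at h'
        field_simp
        push_cast at h'
        linear_combination -h'
    obtain ⟨α, hα, hα2⟩ := hsc A hA rfl
    obtain ⟨β, hβ, hβ2⟩ := hsc B hB h1.symm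
    obtain ⟨γ, hγ, hγ2⟩ := hsc (A * B) hAB h1'
    have hαβ : α = β := mul_left_cancel₀ h2 (hα2.trans hβ2.symm)
    have hαγ : α = γ := mul_left_cancel₀ h2 (hα2.trans hγ2.symm)
    have h3 : α * β = γ := by
      rw [hα, hβ, Matrix.smul_mul, Matrix.one_mul, smul_smul] at hγ
      have h' := congrFun (congrFun hγ 0) 0
      simpa using h'
    have hα0 : α ≠ 0 := by
      rintro rfl
      rw [mul_zero] at hα2
      exact ht hα2.symm
    have h5 : β = 1 := by
      rw [← hαγ] at h3
      exact (mul_right_eq_self₀.1 h3).resolve_right hα0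
    rw [hα, hαβ, h5, one_smul]

variable {G X : Type*} [Group G] [MulAction G X] {a b c : X} {E : Subgroup G} {z : G}
variable {k : Type*} [Field k] {V : Type*} [AddCommGroup V] [Module k V] (ρ : G →* Module.End k V)

theorem Loc.exists_i (hL : Loc G a b c E z) : ∃ i ∈ Q G a b c, i ≠ 1 ∧ i ≠ z := by
  classical
  have := hL.finQ
  have := Fintype.ofFinite (Q G a b c)
  by_contra h
  push Not at h
  have h2 : (Finset.univ : Finset (Q G a b c)) ⊆ {1, ⟨z, hL.zQ⟩} := by
    intro x _
    rw [Finset.mem_insert, Finset.mem_singleton]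
    by_cases h3 : (x : G) = 1
    · exact Or.inl (Subtype.ext h3)
    · exact Or.inr (Subtype.ext (h x x.2 h3))
  have h3 := Finset.card_le_card h2
  have h5 := Finset.card_le_two (a := (1 : Q G a b c)) (b := ⟨z, hL.zQ⟩)
  rw [Finset.card_univ, ← Nat.card_eq_fintype_card, hL.cardQ] at h3
  omega

theorem Loc.exists_j (hL : Loc G a b c E z) (i : G) (hi : i ∈ Q G a b c) :
    ∃ j ∈ Q G a b c, j ≠ 1 ∧ j ≠ z ∧ j ≠ i ∧ j ≠ i * z := by
  classical
  have := hL.finQ
  have := Fintype.ofFinite (Q G a b c)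
  by_contra h
  push Not at h
  have h2 : (Finset.univ : Finset (Q G a b c)) ⊆ {1, ⟨z, hL.zQ⟩, ⟨i, hi⟩, ⟨i * z, mul_mem hi hL.zQ⟩} := by
    intro x _
    rw [Finset.mem_insert, Finset.mem_insert, Finset.mem_insert, Finset.mem_singleton]
    by_cases h3 : (x : G) = 1
    · exact Or.inl (Subtype.ext h3)
    · by_cases h5 : (x : G) = z
      · exact Or.inr (Or.inl (Subtype.ext h5))
      · by_cases h6 : (x : G) = i
        · exact Or.inr (Or.inr (Or.inl (Subtype.ext h6)))
        · exact Or.inr (Or.inr (Or.inr (Subtype.ext (h x x.2 h3 h5 h6))))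
  have h3 := Finset.card_le_card h2
  have h5 := Finset.card_le_four (a := (1 : Q G a b c)) (b := ⟨z, hL.zQ⟩) (c := ⟨i, hi⟩) (d := ⟨i * z, mul_mem hi hL.zQ⟩)
  rw [Finset.card_univ, ← Nat.card_eq_fintype_card, hL.cardQ] at h3
  omega

theorem Loc.ij (hL : Loc G a b c E z) {i j : G} (hi : i ∈ Q G a b c) (hi1 : i ≠ 1) (hiz : i ≠ z)
    (hji : j ≠ i) (hjiz : j ≠ i * z) : i * j ≠ 1 ∧ i * j ≠ z ∧ i⁻¹ * j ≠ 1 ∧ i⁻¹ * j ≠ z := by
  have hii := hL.four i hi hi1 hiz
  have hinv : i⁻¹ = i * z := by
    apply inv_eq_of_mul_eq_one_right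
    rw [← mul_assoc, hii, hL.zz]
  have hzi : i * z * z = i := by rw [mul_assoc, hL.zz, mul_one]
  have hcz : z * i = i * z := by rw [← hii, mul_assoc]
  refine ⟨?_, ?_, ?_, ?_⟩
  · intro h
    apply hjiz
    rw [← hinv]
    exact (inv_eq_of_mul_eq_one_right h).symm
  · intro h
    apply hji
    have : j = i⁻¹ * z := by rw [← h, inv_mul_cancel_left]
    rw [this, hinv, hzi]
  · intro h
    apply hji
    rw [inv_mul_eq_one] at h
    exact h.symm
  · intro h
    apply hjiz
    rw [inv_mul_eq_iff_eq_mul] at h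
    exact h

/-- `W` is invariant under the normaliser -/
theorem Loc.W_inv (hL : Loc G a b c E z) {g : G} (hg : (g • a = a ∧ g • b = b) ∨ (g • a = b ∧ g • b = a))
    {w : V} (hw : w ∈ fixE ρ E) : ρ g w ∈ fixE ρ E := by
  have hg' : (g⁻¹ • a = a ∧ g⁻¹ • b = b) ∨ (g⁻¹ • a = b ∧ g⁻¹ • b = a) := by
    rcases hg with ⟨h1, h2⟩ | ⟨h1, h2⟩
    · exact Or.inl ⟨by rw [inv_smul_eq_iff, h1], by rw [inv_smul_eq_iff, h2]⟩
    · exact Or.inr ⟨by rw [inv_smul_eq_iff, h2], by rw [inv_smul_eq_iff, h1]⟩
  rw [mem_fixE] at hw ⊢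
  intro e he
  have h1 := hL.norm g⁻¹ hg' e he
  rw [inv_inv] at h1
  have h2 := hw _ h1
  rw [← rho_mul, show e * g = g * (g⁻¹ * e * g) by group, rho_mul, h2]

theorem Loc.W_invQ (hL : Loc G a b c E z) {q : G} (hq : q ∈ Q G a b c)
    {w : V} (hw : w ∈ fixE ρ E) : ρ q w ∈ fixE ρ E := by
  obtain ⟨h1, h2, -⟩ := mem_Q.1 hq
  exact hL.W_inv ρ (Or.inl ⟨h1, h2⟩) hw

/-- the trace on `V` is the trace on `W` -/
theorem Loc.trace_eq [FiniteDimensional k V] (hL : Loc G a b c E z) {u : V}
    (hli : LinearIndependent k (fun q : Q G a b c => ρ q u))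
    (hc : IsCompl (Submodule.span k (Set.range fun q : Q G a b c => ρ q u)) (fixE ρ E))
    {q : G} (hq : q ∈ Q G a b c) (hq1 : q ≠ 1) :
    LinearMap.trace k V (ρ q) = LinearMap.trace k (fixE ρ E)
      ((ρ q).restrict (p := fixE ρ E) (q := fixE ρ E) (fun _ hw => hL.W_invQ ρ hq hw)) := by
  classical
  have := hL.finQ
  have := Fintype.ofFinite (Q G a b c)
  set M : Submodule k V := Submodule.span k (Set.range fun q : Q G a b c => ρ q u) with hM
  have hMq : ∀ m ∈ M, ρ q m ∈ M := by
    intro m hm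
    induction hm using Submodule.span_induction with
    | mem x hx =>
      obtain ⟨r, rfl⟩ := hx
      change ρ q (ρ r u) ∈ M
      rw [← rho_mul]
      exact Submodule.subset_span ⟨⟨q * r, mul_mem hq r.2⟩, rfl⟩
    | zero => rw [map_zero]; exact M.zero_mem
    | add x y _ _ hx hy => rw [map_add]; exact M.add_mem hx hy
    | smul c x _ hx => rw [map_smul]; exact M.smul_mem _ hx
  let N : Bool → Submodule k V := fun i => cond i M (fixE ρ E)
  have hN : DirectSum.IsInternal N := by
    rw [DirectSum.isInternal_submodule_iff_isCompl N (show true ≠ false by decide)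
      (by ext i; cases i <;> simp)]
    exact hc
  have hmaps : ∀ i, Set.MapsTo (ρ q) (N i) (N i) := by
    intro i
    cases i
    · exact fun w hw => hL.W_invQ ρ hq hw
    · exact hMq
  rw [LinearMap.trace_eq_sum_trace_restrict hN hmaps, Fintype.sum_bool]
  have h0 : LinearMap.trace k (N true) ((ρ q).restrict (hmaps true)) = 0 := by
    change LinearMap.trace k M ((ρ q).restrict (p := M) (q := M) hMq) = 0
    let B : Basis (Q G a b c) k M := Basis.span hli
    have hB : ∀ r, (B r : V) = ρ r u := fun r => congrArg Subtype.val (Basis.span_apply hli r)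
    rw [LinearMap.trace_eq_matrix_trace k B, Matrix.trace]
    apply Finset.sum_eq_zero
    intro r _
    rw [Matrix.diag_apply, LinearMap.toMatrix_apply]
    have h1 : (ρ q).restrict (p := M) (q := M) hMq (B r) = B (⟨q, hq⟩ * r) := by
      apply Subtype.ext
      rw [LinearMap.coe_restrict_apply, hB, hB, ← rho_mul]
      rfl
    rw [h1, Basis.repr_self, Finsupp.single_apply, if_neg]
    intro h2
    apply hq1
    exact congrArg Subtype.val (mul_eq_right.1 h2)
  rw [h0, zero_add]
  rfl

end Cfsg.Agent.H926.MEl
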