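import Cfsg.Agent.H926.MThLin

/-!
# `M₁₁` in dimension 10 and characteristic 3: the vector (helper926)

`exists_vec` : elements `x, t, s, r` of a group with the relations `Dat`, acting faithfully and isometrically on an
orthogonal space of dimension 10 in characteristic 3: there is `v ≠ 0` fixed by `t` and `s` with `x v = ± v`.
-/

set_option autoImplicit false

namespace Cfsg.Agent.H926.MTh

open Module

/-- the relations -/
structure Dat {G : Type*} [Group G] (x t s r u : G) : Prop where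
  zz : (x * x) * (x * x) * ((x * x) * (x * x)) = 1
  z1 : (x * x) * (x * x) ≠ 1
  tt : t * t = 1
  tx : t * x = x * x * x * t
  ux : u * x = x * t
  sss : s * s * s = 1
  sz : s * ((x * x) * (x * x)) = t * s
  st : s * t = (x * x) * (x * x) * t * s
  us : u * s = s * s * u
  rf : r * (x * x) = x * t * r
  rg : r * (x * t) = (x * x) * (x * t) * r

variable {k : Type*} [Field k] {V : Type*} [AddCommGroup V] [Module k V] {G : Type*} [Group G]

theorem rmul (ρ : G →* End k V) (g h : G) (v : V) : ρ (g * h) v = ρ g (ρ h v) := by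
  rw [map_mul]; rfl

theorem rone (ρ : G →* End k V) (v : V) : ρ 1 v = v := by
  rw [map_one]; rfl

theorem rinj (ρ : G →* End k V) (g : G) {v w : V} (h : ρ g v = ρ g w) : v = w := by
  have h1 := congrArg (ρ g⁻¹) h
  rwa [← rmul, ← rmul, inv_mul_cancel, rone, rone] at h1

theorem fr_le [FiniteDimensional k V] (ρ : G →* End k V) {A A' : Submodule k V} (g : G) (h : ∀ v ∈ A, ρ g v ∈ A') :
    finrank k A ≤ finrank k A' := by
  have h1 : A.map (ρ g) ≤ A' := by
    rintro _ ⟨v, hv, rfl⟩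
    exact h v hv
  have h2 : finrank k (A.map (ρ g)) = finrank k A :=
    (LinearMap.finrank_range_of_inj (f := (ρ g).domRestrict A) (fun a b hab => Subtype.ext (rinj ρ g hab))).symm ▸ by
      rw [LinearMap.range_domRestrict]
  rw [← h2]
  exact Submodule.finrank_mono h1

theorem fr_conj [FiniteDimensional k V] (ρ : G →* End k V) {a b g : G} (h : g * a = b * g) :
    finrank k (C (ρ a)) = finrank k (C (ρ b)) := by
  apply le_antisymm
  · refine fr_le ρ g fun v hv => ?_
    rw [mem_C] at hv ⊢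
    rw [← rmul, ← h, rmul, hv]
  · refine fr_le ρ g⁻¹ fun v hv => ?_
    rw [mem_C] at hv ⊢
    have h1 : a * g⁻¹ = g⁻¹ * b := by
      rw [eq_inv_mul_iff_mul_eq, ← mul_assoc, h, mul_inv_cancel_right]
    rw [← rmul, h1, rmul, hv]

theorem fr_conj₂ [FiniteDimensional k V] (ρ : G →* End k V) {a b a' b' g : G} (h : g * a = b * g)
    (h' : g * a' = b' * g) :
    finrank k (C (ρ a) ⊓ C (ρ a') : Submodule k V) = finrank k (C (ρ b) ⊓ C (ρ b') : Submodule k V) := by
  have key : ∀ {a b : G}, g * a = b * g → a * g⁻¹ = g⁻¹ * b := by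
    intro a b h
    rw [eq_inv_mul_iff_mul_eq, ← mul_assoc, h, mul_inv_cancel_right]
  apply le_antisymm
  · refine fr_le ρ g fun v hv => ⟨?_, ?_⟩
    · have h1 := mem_C.1 hv.1
      rw [SetLike.mem_coe, mem_C, ← rmul, ← h, rmul, h1]
    · have h1 := mem_C.1 hv.2
      rw [SetLike.mem_coe, mem_C, ← rmul, ← h', rmul, h1]
  · refine fr_le ρ g⁻¹ fun v hv => ⟨?_, ?_⟩
    · have h1 := mem_C.1 hv.1
      rw [SetLike.mem_coe, mem_C, ← rmul, key h, rmul, h1]
    · have h1 := mem_C.1 hv.2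
      rw [SetLike.mem_coe, mem_C, ← rmul, key h', rmul, h1]

theorem exists_vec [FiniteDimensional k V] (h3 : (3 : k) = 0) (h2 : (2 : k) ≠ 0) (h10 : finrank k V = 10)
    {B : LinearMap.BilinForm k V} (hs : ∀ v w, B v w = B w v) (hnd : ∀ v, v ≠ 0 → ∃ w, B v w ≠ 0)
    (ρ : G →* End k V) (hρ : Function.Injective ρ) (hi : ∀ g v w, B (ρ g v) (ρ g w) = B v w) {x t s r u : G}
    (D : Dat x t s r u) :
    ∃ v : V, v ≠ 0 ∧ ρ t v = v ∧ ρ s v = v ∧ (ρ x v = v ∨ ρ x v = -v) := by
  -- group relations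
  obtain ⟨zz, z1, tt, tx, ux, sss, sz, st, us, rf, rg⟩ := D
  have gtu : t * u = x * x := by
    have h1 : u = x * t * x⁻¹ := by rw [← ux, mul_inv_cancel_right]
    rw [h1, ← mul_assoc, ← mul_assoc, tx, mul_assoc (x * x * x), tt, mul_one, mul_inv_cancel_right]
  have guu : u * u = 1 := by
    have h1 : u = x * t * x⁻¹ := by rw [← ux, mul_inv_cancel_right]
    rw [h1]
    calc x * t * x⁻¹ * (x * t * x⁻¹) = x * (t * t) * x⁻¹ := by group
      _ = 1 := by rw [tt]; group
  set f := x * x with hf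
  set z := f * f with hz
  set g := x * t with hg
  clear_value g z f
  have gxz : x * z = z * x := by rw [hz, hf]; group
  have gxf : x * f = f * x := by rw [hf]; group
  have gfz : f * z = z * f := by rw [hz]; group
  have gtf : t * f = z * f * t := by
    rw [hz, hf]
    calc t * (x * x) = (t * x) * x := by group
      _ = (x * x * x * t) * x := by rw [tx, hf]
      _ = x * x * x * (t * x) := by group
      _ = x * x * x * (x * x * x * t) := by rw [tx, hf]
      _ = x * x * (x * x) * (x * x) * t := by group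
  have gtz : t * z = z * t := by
    calc t * z = (t * f) * f := by rw [hz]; group
      _ = (z * f * t) * f := by rw [gtf]
      _ = z * f * (t * f) := by group
      _ = z * f * (z * f * t) := by rw [gtf]
      _ = (z * z) * (f * f) * t := by rw [hz]; group
      _ = z * t := by rw [zz, one_mul, hz]
  have guz : u * z = z * u := by
    have h1 : u = t * f := by rw [← gtu, ← mul_assoc, tt, one_mul]
    rw [h1, mul_assoc, gfz, ← mul_assoc, gtz, mul_assoc]
  have ggg : g * g = z := by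
    rw [hg]
    calc x * t * (x * t) = x * (t * x) * t := by group
      _ = x * (x * x * x * t) * t := by rw [tx, hf]
      _ = x * x * (x * x) * (t * t) := by group
      _ = z := by rw [tt, hz, hf, mul_one]
  have gfg : f * g = z * (g * f) := by
    rw [hg]
    calc f * (x * t) = z * z * f * (x * t) := by rw [zz, one_mul]
      _ = z * (x * (z * f * t)) := by rw [hz, hf]; group
      _ = z * (x * (t * f)) := by rw [gtf]
      _ = z * (x * t * f) := by group
  have gzg : z * g = g * z := by rw [← ggg]; group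
  -- operators
  have hzz : ∀ v, ρ z (ρ z v) = v := fun v => by rw [← rmul, zz, rone]
  have htt : ∀ v, ρ t (ρ t v) = v := fun v => by rw [← rmul, tt, rone]
  have huu : ∀ v, ρ u (ρ u v) = v := fun v => by rw [← rmul, guu, rone]
  have hff : ∀ v, ρ f (ρ f v) = ρ z v := fun v => by rw [← rmul, hz]
  have hgg : ∀ v, ρ g (ρ g v) = ρ z v := fun v => by rw [← rmul, ggg]
  have htu : ∀ v, ρ t (ρ u v) = ρ f v := fun v => by rw [← rmul, gtu]
  have htz : ∀ v, ρ t (ρ z v) = ρ z (ρ t v) := fun v => by rw [← rmul, gtz, rmul]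
  have huz : ∀ v, ρ u (ρ z v) = ρ z (ρ u v) := fun v => by rw [← rmul, guz, rmul]
  have hgz : ∀ v, ρ z (ρ g v) = ρ g (ρ z v) := fun v => by rw [← rmul, gzg, rmul]
  have hfz : ∀ v, ρ f (ρ z v) = ρ z (ρ f v) := fun v => by rw [← rmul, gfz, rmul]
  have hfg : ∀ v, ρ f (ρ g v) = ρ z (ρ g (ρ f v)) := fun v => by rw [← rmul, gfg, rmul, rmul]
  have hxz : ∀ v, ρ x (ρ z v) = ρ z (ρ x v) := fun v => by rw [← rmul, gxz, rmul]
  have hxx : ∀ v, ρ x (ρ x v) = ρ f v := fun v => by rw [← rmul, hf]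
  have hfut : ∀ v, ρ f (ρ u (ρ t v)) = v := fun v => by rw [← htu, huu, htt]
  have hCF : C (ρ f) ≤ C (ρ z) := by
    intro v hv
    rw [mem_C] at hv ⊢
    rw [← hff, hv, hv]
  have hCG : C (ρ g) ≤ C (ρ z) := by
    intro v hv
    rw [mem_C] at hv ⊢
    rw [← hgg, hv, hv]
  have hCFG : C (ρ f * ρ g) ≤ C (ρ z) := by
    intro v hv
    rw [mem_C, Module.End.mul_apply] at hv
    have h1 : ρ f (ρ g (ρ f (ρ g v))) = ρ z v := by
      rw [← rmul, ← rmul, ← rmul]
      congr 2
      calc f * g * f * g = z * (g * f) * f * g := by rw [← gfg]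
        _ = z * g * (f * f) * g := by group
        _ = z * (g * z) * g := by rw [← hz]; group
        _ = z * z * (g * g) := by rw [← gzg]; group
        _ = z := by rw [zz, ggg, one_mul]
    rw [mem_C, ← h1, hv, hv]
  -- the centre
  have e1 := split (α := ρ z) h2 (W := ⊤) (fun _ _ => trivial) (fun w _ => hzz w)
  have e2 := vier (α := ρ z) (β := ρ t) h2 (W := ⊤) (fun _ _ => trivial) (fun _ _ => trivial) (fun w _ => hzz w)
    (fun w _ => htt w) (fun w _ => (htz w).symm)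
  rw [top_inf_eq, top_inf_eq, finrank_top, h10] at e1
  rw [top_inf_eq, top_inf_eq, top_inf_eq, finrank_top, h10, ← map_mul] at e2
  have e3 : finrank k (C (ρ z)) = finrank k (C (ρ t)) := fr_conj ρ sz
  have e4 : finrank k (C (ρ t)) = finrank k (C (ρ (z * t))) := fr_conj ρ st
  have ndV : ND B ⊤ := by
    intro v _ hv
    obtain ⟨w, hw⟩ := hnd v hv
    exact ⟨w, trivial, hw⟩
  have e5 : 4 ∣ finrank k (N (ρ z)) := by
    have hN : ∀ v, v ∈ N (ρ z) → ρ z v = -v := fun v hv => mem_N.1 hv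
    refine quat h2 hs (f := ρ f) (g := ρ g) (hi f) (hi g) _ (N (ρ z)) le_rfl ?_ ?_ ?_ ?_ ?_ ?_
    · have h1 := ndV.minus h2 (α := ρ z) (fun _ _ => trivial) (fun v _ => hzz v) (hi z)
      rwa [top_inf_eq] at h1
    · intro v hv
      rw [mem_N, ← hfz, hN v hv, map_neg]
    · intro v hv
      rw [mem_N, hgz, hN v hv, map_neg]
    · intro v hv
      rw [hff, hN v hv]
    · intro v hv
      rw [hgg, hN v hv]
    · intro v hv
      rw [hfg, hgz, ← hfz, hN v hv, map_neg, map_neg]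
  have e6 : finrank k (N (ρ z)) ≠ 0 := by
    rw [Ne, Submodule.finrank_eq_zero]
    intro h0
    apply z1
    apply hρ
    rw [map_one]
    ext v
    have h1 : v - ρ z v ∈ N (ρ z) := by
      rw [mem_N, map_sub, hzz, neg_sub]
    rw [h0, Submodule.mem_bot, sub_eq_zero] at h1
    exact h1.symm
  have c6 : finrank k (C (ρ z)) = 6 := by omega
  have c4 : finrank k (C (ρ z) ⊓ C (ρ t) : Submodule k V) = 4 := by omega
  have c4' : finrank k (C (ρ z) ⊓ C (ρ u) : Submodule k V) = 4 := by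
    rw [← c4]
    exact (fr_conj₂ ρ gxz (ux.trans hg).symm).symm
  -- `D₈`
  have e7 := vier (α := ρ t) (β := ρ u) h2 (W := C (ρ z))
    (fun w hw => by rw [mem_C] at hw ⊢; rw [← htz, hw]) (fun w hw => by rw [mem_C] at hw ⊢; rw [← huz, hw])
    (fun w _ => htt w) (fun w _ => huu w) (fun w hw => by
      rw [mem_C] at hw
      rw [htu]
      exact (rinj ρ f (by rw [hfut, hff, hw])).symm)
  have e8 : (C (ρ z) ⊓ C (ρ t * ρ u) : Submodule k V) = C (ρ f) := by
    have h1 : ρ t * ρ u = ρ f := by rw [← map_mul, gtu]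
    rw [h1]
    exact inf_eq_right.2 hCF
  rw [e8, c6, c4, c4'] at e7
  -- `Q₈`
  have e9 := vier (α := ρ f) (β := ρ g) h2 (W := C (ρ z))
    (fun w hw => by rw [mem_C] at hw ⊢; rw [← hfz, hw]) (fun w hw => by rw [mem_C] at hw ⊢; rw [hgz, hw])
    (fun w hw => by rw [hff, mem_C.1 hw]) (fun w hw => by rw [hgg, mem_C.1 hw])
    (fun w hw => by rw [hfg, hgz, ← hfz, mem_C.1 hw])
  rw [inf_eq_right.2 hCF, inf_eq_right.2 hCG, inf_eq_right.2 hCFG, c6, ← map_mul] at e9
  have e10 : finrank k (C (ρ f)) = finrank k (C (ρ g)) := fr_conj ρ rf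
  have e11 : finrank k (C (ρ g)) = finrank k (C (ρ (f * g))) := fr_conj ρ rg
  have hA : C (ρ z) ⊓ C (ρ t) ⊓ C (ρ u) ≤ C (ρ f) := by
    rintro v ⟨⟨-, h4⟩, h5⟩
    rw [SetLike.mem_coe, mem_C] at h4 h5
    rw [mem_C, ← htu, h5, h4]
  have e12 := Submodule.finrank_mono hA
  have e13 := Submodule.finrank_mono (R := k)
    (inf_le_left : C (ρ z) ⊓ C (ρ t) ⊓ C (ρ u) ≤ C (ρ z) ⊓ C (ρ t))
  rw [c4] at e13
  have hSY : ∀ v ∈ C (ρ z) ⊓ C (ρ t), ρ s v ∈ C (ρ z) ⊓ C (ρ t) := by
    rintro v ⟨h4, h5⟩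
    rw [SetLike.mem_coe, mem_C] at h4 h5
    have h6 : ρ t (ρ s v) = ρ s v := by rw [← rmul, ← sz, rmul, h4]
    have h7 : ρ z (ρ t (ρ s v)) = ρ s v := by
      rw [← rmul, ← rmul, ← st, rmul, h5]
    rw [h6] at h7
    exact ⟨mem_C.2 h7, mem_C.2 h6⟩
  have hus : ∀ v, ρ u (ρ s v) = ρ s (ρ s (ρ u v)) := fun v => by rw [← rmul, us, rmul, rmul]
  have hsss : ∀ v, ρ s (ρ s (ρ s v)) = v := fun v => by
    rw [← rmul, ← rmul, sss, rone]
  by_cases hn : finrank k (C (ρ z) ⊓ C (ρ t) ⊓ C (ρ u) : Submodule k V) = 2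
  · -- the case of dimension 2
    have hUY : ∀ v ∈ C (ρ z) ⊓ C (ρ t), ρ u v ∈ C (ρ z) ⊓ C (ρ t) := by
      rintro v ⟨h4, h5⟩
      rw [SetLike.mem_coe, mem_C] at h4 h5
      have h6 : ρ u (ρ t v) = ρ f v := rinj ρ f (by rw [hfut, hff, h4])
      refine ⟨?_, ?_⟩
      · rw [SetLike.mem_coe, mem_C, ← huz, h4]
      · rw [SetLike.mem_coe, mem_C, htu, ← h6, h5]
    have hYnd : ND B (C (ρ z) ⊓ C (ρ t)) := by
      have h1 := ndV.plus h2 (α := ρ z) (fun _ _ => trivial) (fun v _ => hzz v) (hi z)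
      rw [top_inf_eq] at h1
      exact h1.plus h2 (fun w hw => by rw [mem_C] at hw ⊢; rw [← htz, hw]) (fun w _ => htt w) (hi t)
    have e14 := split h2 hUY (fun w _ => huu w)
    obtain ⟨v, hv, hv0, huv, hsv⟩ := three_fixed h3 h2 hYnd (by
      intro h0
      rw [h0, finrank_bot] at c4
      omega) hUY hSY (hi u) (hi s) (fun w _ => huu w) (fun w _ => hsss w) (fun w _ => hus w) (by omega)
    have hzv := mem_C.1 hv.1
    have htv := mem_C.1 hv.2
    have hfv : ρ f v = v := by rw [← htu, huv, htv]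
    have hk0 : (C (ρ f) ⊓ C (ρ g) : Submodule k V) = ⊥ := by
      rw [← Submodule.finrank_eq_zero (R := k)]
      omega
    have hmem : v + ρ g v ∈ (C (ρ f) ⊓ C (ρ g) : Submodule k V) := by
      refine ⟨?_, ?_⟩
      · rw [SetLike.mem_coe, mem_C, map_add, hfg, hfv, hgz, hzv]
      · rw [SetLike.mem_coe, mem_C, map_add, hgg, hzv, add_comm]
    rw [hk0, Submodule.mem_bot, hg, rmul, htv, add_comm] at hmem
    exact ⟨v, hv0, htv, hsv, Or.inr (eq_neg_of_add_eq_zero_left hmem)⟩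
  · -- the case of dimension at least 3
    have hAsub : ∀ v ∈ C (ρ z) ⊓ C (ρ t) ⊓ C (ρ u), ρ z v = v ∧ ρ t v = v ∧ ρ u v = v ∧ ρ f v = v := fun v hv =>
      ⟨mem_C.1 hv.1.1, mem_C.1 hv.1.2, mem_C.1 hv.2, mem_C.1 (hA hv)⟩
    set A : Submodule k V := C (ρ z) ⊓ C (ρ t) ⊓ C (ρ u) with hAd
    have hmapfr : ∀ (g : G) (L : Submodule k V), finrank k (L.map (ρ g)) = finrank k L := by
      intro g L
      apply le_antisymm
      · refine fr_le ρ g⁻¹ ?_
        rintro _ ⟨w, hw, rfl⟩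
        rwa [← rmul, inv_mul_cancel, rone]
      · exact fr_le ρ g fun v hv => ⟨v, hv, rfl⟩
    have d1 := Submodule.finrank_sup_add_finrank_inf_eq A (A.map (ρ s))
    have d2 : finrank k (A ⊔ A.map (ρ s) : Submodule k V) ≤ 4 := by
      rw [← c4]
      apply Submodule.finrank_mono
      refine sup_le (fun v hv => hv.1) ?_
      rintro _ ⟨w, hw, rfl⟩
      exact hSY w hw.1
    rw [hmapfr] at d1
    set L : Submodule k V := A ⊓ A.map (ρ s) with hL
    have hLs : ∀ v ∈ L, v ∈ A ∧ ρ s v = v := by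
      rintro v ⟨hv, w, hw, hwv⟩
      refine ⟨hv, ?_⟩
      have h4 := (hAsub v hv).2.2.1
      have h5 := (hAsub w hw).2.2.1
      have h6 := hus w
      rw [h5, hwv, h4] at h6
      exact h6.symm
    have d3 := Submodule.finrank_sup_add_finrank_inf_eq L (L.map (ρ x))
    have hxA : ∀ v ∈ A, ρ x v ∈ A := by
      intro v hv
      obtain ⟨h4, h5, h6, h7⟩ := hAsub v hv
      refine ⟨⟨?_, ?_⟩, ?_⟩
      · rw [SetLike.mem_coe, mem_C, ← hxz, h4]
      · rw [SetLike.mem_coe, mem_C, ← rmul, tx, rmul, h5, ← gxf, rmul, h7]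
      · rw [SetLike.mem_coe, mem_C, ← rmul, ux, hg, rmul, h5]
    have d4 : finrank k (L ⊔ L.map (ρ x) : Submodule k V) ≤ finrank k A := by
      apply Submodule.finrank_mono
      refine sup_le (fun v hv => (hLs v hv).1) ?_
      rintro _ ⟨w, hw, rfl⟩
      exact hxA w (hLs w hw).1
    rw [hmapfr] at d3
    have d5 : (L ⊓ L.map (ρ x) : Submodule k V) ≠ ⊥ := by
      rw [Ne, ← Submodule.finrank_eq_zero (R := k)]
      omega
    obtain ⟨v, ⟨hv, w, hw, hwv⟩, hv0⟩ := Submodule.exists_mem_ne_zero_of_ne_bot d5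
    have hxv : ρ x v = w := by
      rw [← hwv, hxx]
      exact (hAsub w (hLs w hw).1).2.2.2
    by_cases h0 : v + w = 0
    · refine ⟨v, hv0, (hAsub v (hLs v hv).1).2.1, (hLs v hv).2, Or.inr ?_⟩
      rw [hxv]
      exact eq_neg_of_add_eq_zero_right h0
    · refine ⟨v + w, h0, ?_, ?_, Or.inl ?_⟩
      · rw [map_add, (hAsub v (hLs v hv).1).2.1, (hAsub w (hLs w hw).1).2.1]
      · rw [map_add, (hLs v hv).2, (hLs w hw).2]
      · rw [map_add, hxv, hwv, add_comm]

end Cfsg.Agent.H926.MTh
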