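import Cfsg.Agent.H926.MThMod
import Cfsg.Agent.H915.LD

/-!
# `M₁₁` in dimension 10 and characteristic 3, orthogonal: a vector fixed by the stabiliser of a point (helper926)
-/

set_option autoImplicit false

namespace Cfsg.Agent.H926.MTh

open Module Cfsg Cfsg.Geo

section rep

variable {k : Type*} [Field k] {V : Type*} [AddCommGroup V] [Module k V]

theorem exists_fix [FiniteDimensional k V] (h3 : (3 : k) = 0) (h2 : (2 : k) ≠ 0) (h10 : finrank k V = 10)
    {B : LinearMap.BilinForm k V} (hs : ∀ v w, B v w = B w v) (hnd : ∀ v, v ≠ 0 → ∃ w, B v w ≠ 0)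
    (ρ : Spor.M11 →* End k V) (hρ : Function.Injective ρ) (hi : ∀ g v w, B (ρ g v) (ρ g w) = B v w)
    (hirr : ∀ S : Submodule k V, (∀ g, ∀ w ∈ S, ρ g w ∈ S) → S = ⊥ ∨ S = ⊤) :
    ∃ v : V, v ≠ 0 ∧ ∀ g ∈ K, ρ g v = v := by
  obtain ⟨v, hv0, ht, hsv, hx | hx⟩ := exists_vec h3 h2 h10 hs hnd ρ hρ hi dat
  · let S : Subgroup Spor.M11 :=
      { carrier := {g | ρ g v = v}
        one_mem' := rone ρ v
        mul_mem' := by
          intro a b ha hb
          change ρ (a * b) v = v
          rw [rmul, show ρ b v = v from hb, show ρ a v = v from ha]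
        inv_mem' := by
          intro a ha
          change ρ a⁻¹ v = v
          apply rinj ρ a
          rw [← rmul, mul_inv_cancel, rone, show ρ a v = v from ha] }
    exact ⟨v, hv0, fun g hg => K_le (K0 := S) hx ht hsv hg⟩
  · exfalso
    let S : Subgroup Spor.M11 :=
      { carrier := {g | ρ g v = v ∨ ρ g v = -v}
        one_mem' := Or.inl (rone ρ v)
        mul_mem' := by
          intro a b ha hb
          change ρ (a * b) v = v ∨ ρ (a * b) v = -v
          rcases (show ρ b v = v ∨ ρ b v = -v from hb) with hb | hb <;>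
            rcases (show ρ a v = v ∨ ρ a v = -v from ha) with ha | ha
          · exact Or.inl (by rw [rmul, hb, ha])
          · exact Or.inr (by rw [rmul, hb, ha])
          · exact Or.inr (by rw [rmul, hb, map_neg, ha])
          · exact Or.inl (by rw [rmul, hb, map_neg, ha, neg_neg])
        inv_mem' := by
          intro a ha
          change ρ a⁻¹ v = v ∨ ρ a⁻¹ v = -v
          rcases (show ρ a v = v ∨ ρ a v = -v from ha) with ha | ha
          · left
            apply rinj ρ a
            rw [← rmul, mul_inv_cancel, rone, ha]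
          · right
            apply rinj ρ a
            rw [← rmul, mul_inv_cancel, rone, map_neg, ha, neg_neg] }
    have hK : ∀ g ∈ K, ρ g v = v ∨ ρ g v = -v := fun g hg => K_le (K0 := S) (Or.inr hx) (Or.inl ht) (Or.inl hsv) hg
    have hgv : ρ (ex * et) v = -v := by rw [rmul, ht, hx]
    have hfv : ρ (ex * ex) v = v := by rw [rmul, hx, map_neg, hx, neg_neg]
    have self_zero : ∀ a : k, a = -a → a = 0 := by
      intro a h
      have h1 : (2 : k) * a = 0 := by linear_combination h
      exact (mul_eq_zero.1 h1).resolve_left h2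
    have hr : B v (ρ er v) = 0 := by
      apply self_zero
      have h1 := hi (ex * et) v (ρ er v)
      rw [← rmul, ← dat.rf, rmul ρ er, hfv, hgv, map_neg, LinearMap.neg_apply] at h1
      exact h1.symm
    have hall : ∀ g, g ∉ K → B v (ρ g v) = 0 := by
      intro g hg
      obtain ⟨a, ha, b, hb, rfl⟩ := double_K er_not_mem hg
      have h1 := hi a⁻¹ v (ρ (a * er * b) v)
      rw [← rmul, show a⁻¹ * (a * er * b) = er * b by group, rmul] at h1
      rw [← h1]
      rcases hK _ (K.inv_mem ha) with h4 | h4 <;> rcases hK _ hb with h5 | h5 <;>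
        simp [h4, h5, hr]
    have hvv : B v v ≠ 0 := by
      intro h0
      let T : Submodule k V :=
        { carrier := {w | ∀ g, B (ρ g v) w = 0}
          zero_mem' := fun g => map_zero _
          add_mem' := by
            intro a b ha hb g
            rw [map_add, ha g, hb g, add_zero]
          smul_mem' := by
            intro c a ha g
            rw [map_smul, ha g, smul_zero] }
      have hvT : v ∈ T := by
        intro g
        rw [hs]
        by_cases hg : g ∈ K
        · rcases hK g hg with h4 | h4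
          · rw [h4, h0]
          · rw [h4, map_neg, h0, neg_zero]
        · exact hall g hg
      rcases hirr T (by
        intro g w hw h
        have h1 := hi g⁻¹ (ρ h v) (ρ g w)
        rw [← rmul, ← rmul, inv_mul_cancel, rone] at h1
        rw [← h1]
        exact hw (g⁻¹ * h)) with h1 | h1
      · rw [h1, Submodule.mem_bot] at hvT
        exact hv0 hvT
      · obtain ⟨w, hw⟩ := hnd v hv0
        have h4 : w ∈ T := by rw [h1]; trivial
        apply hw
        have h5 := h4 1
        rwa [rone] at h5
    haveI : Finite (Spor.M11 ⧸ K) := inferInstance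
    haveI := Fintype.ofFinite (Spor.M11 ⧸ K)
    have hli : LinearIndependent k (fun q : Spor.M11 ⧸ K => ρ q.out v) := by
      refine LinearMap.linearIndependent_of_isOrthoᵢ (B := B) ?_ ?_
      · intro q q' hqq
        change B (ρ q.out v) (ρ q'.out v) = 0
        have h1 := hi q.out⁻¹ (ρ q.out v) (ρ q'.out v)
        rw [← rmul, ← rmul, inv_mul_cancel, rone] at h1
        rw [← h1]
        apply hall
        intro hmem
        apply hqq
        have h4 := QuotientGroup.eq.2 hmem
        rwa [QuotientGroup.out_eq', QuotientGroup.out_eq'] at h4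
      · intro q h
        apply hvv
        rw [← hi q.out]
        exact h
    have h1 := hli.fintype_card_le_finrank
    rw [h10, ← Nat.card_eq_fintype_card] at h1
    have h4 : Nat.card (Spor.M11 ⧸ K) = 11 := index_K
    omega

end rep

open Matrix Cfsg.Agent.H915.LD

universe u

variable {ι : Type} [Fintype ι] [DecidableEq ι] {F : Type u} [Field F]

/-- a group of matrices isomorphic to `M₁₁` -/
theorem fixed_three {P : Subgroup (GL ι F)} (hirr : ActsIrreducibly (matrixSet P)) (e : P ≃* Spor.M11)
    (hι : Fintype.card ι = 10) (h3 : (3 : F) = 0) (h2 : (2 : F) ≠ 0) (hf : FixQ P) :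
    ∃ v : ι → F, v ≠ 0 ∧ ∀ g : P, e g ∈ K → ((g : GL ι F) : Matrix ι ι F) *ᵥ v = v := by
  obtain ⟨Q, hQ, hfix⟩ := hf
  have hb := hQ.polar_bilinear
  let B : LinearMap.BilinForm F (ι → F) :=
    LinearMap.mk₂ F (QuadraticMap.polar Q) hb.add_left hb.smul_left hb.add_right hb.smul_right
  have hB : ∀ v w, B v w = QuadraticMap.polar Q v w := fun v w => rfl
  let ρ : Spor.M11 →* End F (ι → F) :=
    { toFun := fun g => Matrix.toLin' (((e.symm g : P) : GL ι F) : Matrix ι ι F)
      map_one' := by
        rw [map_one, Subgroup.coe_one, Units.val_one, Matrix.toLin'_one]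
        rfl
      map_mul' := by
        intro g h
        rw [map_mul, Subgroup.coe_mul, Units.val_mul, Matrix.toLin'_mul]
        rfl }
  have hρa : ∀ (g : Spor.M11) (v : ι → F), ρ g v = (((e.symm g : P) : GL ι F) : Matrix ι ι F) *ᵥ v :=
    fun g v => Matrix.toLin'_apply _ _
  have hρi : Function.Injective ρ := by
    intro g h hgh
    exact e.symm.injective (Subtype.ext (Units.ext (Matrix.toLin'.injective hgh)))
  obtain ⟨v, hv, hv'⟩ := exists_fix h3 h2 (by rw [Module.finrank_fintype_fun_eq_card, hι]) (B := B)
    (fun v w => QuadraticMap.polar_comm Q v w)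
    (fun v hv => by
      obtain ⟨-, w, hw⟩ := hQ.nondegenerate v hv
      exact ⟨w, hw⟩) ρ hρi
    (fun g v w => by
      rw [hB, hB, hρa, hρa, QuadraticMap.polar, QuadraticMap.polar, ← Matrix.mulVec_add,
        hfix _ ⟨_, (e.symm g).2, rfl⟩, hfix _ ⟨_, (e.symm g).2, rfl⟩, hfix _ ⟨_, (e.symm g).2, rfl⟩])
    (fun S hS => by
      refine hirr S ?_
      rintro _ ⟨g, hg, rfl⟩ _ ⟨w, hw, rfl⟩
      have h1 := hS (e ⟨g, hg⟩) w hw
      rw [hρa, MulEquiv.symm_apply_apply] at h1
      rw [Matrix.toLin'_apply]
      exact h1)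
  refine ⟨v, hv, fun g hg => ?_⟩
  have h1 := hv' (e g) hg
  rwa [hρa, MulEquiv.symm_apply_apply] at h1

end Cfsg.Agent.H926.MTh
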