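import Cfsg.Agent.H926.MThFix
import Cfsg.Agent.H926.MElGeo
import Cfsg.Agent.H933.O10.DelNM
import Cfsg.Agent.S2034

/-!
# `M₁₁` is not a residual socle of a maximal subgroup of `Ω₁₀^±(q)`, `q` odd (helper926)

* `lines_of_inner` : the lines condition if all automorphisms of `P` are inner;
* `kill_of_fixed` : `P ≅ M₁₁`, a subgroup of index 11 with two double cosets fixing a vector: impossible;
* `m11_dead` : `Cx p Q H P`, `p ≠ 2`, `Soc P ≅ M₁₁` is impossible.
-/

set_option autoImplicit false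

namespace Cfsg.Agent.H926.MTh

open Cfsg Cfsg.Geo Matrix Module
open Cfsg.Agent.H915.LD Cfsg.Agent.H933.O10

universe u

theorem lines_of_inner {ι : Type} [Fintype ι] [DecidableEq ι] {F : Type u} [Field F] {H P : Subgroup (GL ι F)}
    (hPc : IsResidualCore H P)
    (hin : ∀ φ : P ≃* P, ∃ g : P, φ = MulAut.conj g) {h : GL ι F} (hh : h ∈ H) (v : ι → F) :
    ∃ g ∈ P, ∃ c : F, (h : Matrix ι ι F) *ᵥ v = c • ((g : Matrix ι ι F) *ᵥ v) := by
  let φ : P ≃* P :=
    { toFun := fun x => ⟨h * x * h⁻¹, hPc.normal h hh x x.2⟩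
      invFun := fun x => ⟨h⁻¹ * x * h, by
        have h1 := hPc.normal h⁻¹ (inv_mem hh) x x.2
        rwa [inv_inv] at h1⟩
      left_inv := fun x => Subtype.ext (by change h⁻¹ * (h * x * h⁻¹) * h = x; group)
      right_inv := fun x => Subtype.ext (by change h * (h⁻¹ * x * h) * h⁻¹ = x; group)
      map_mul' := fun x y => Subtype.ext (by change h * (x * y) * h⁻¹ = (h * x * h⁻¹) * (h * y * h⁻¹); group) }
  obtain ⟨g, hg⟩ := hin φ
  have hgh : (g : GL ι F)⁻¹ * h ∈ scalars ι F := by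
    apply hPc.centralizer_scalar _ (mul_mem (inv_mem (hPc.le g.2)) hh)
    intro x hx
    have h1 := congrArg Subtype.val (DFunLike.congr_fun hg ⟨x, hx⟩)
    change h * x * h⁻¹ = (g : GL ι F) * x * (g : GL ι F)⁻¹ at h1
    have h2 : (g : GL ι F)⁻¹ * h * x * ((g : GL ι F)⁻¹ * h)⁻¹ * x⁻¹ = 1 := by
      calc (g : GL ι F)⁻¹ * h * x * ((g : GL ι F)⁻¹ * h)⁻¹ * x⁻¹
          = (g : GL ι F)⁻¹ * (h * x * h⁻¹) * (g : GL ι F) * x⁻¹ := by group
        _ = 1 := by rw [h1]; group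
    rw [h2]
    exact one_mem _
  rw [mem_scalars_iff] at hgh
  obtain ⟨c, hc⟩ := hgh
  refine ⟨g, g.2, c, ?_⟩
  have h3 : (h : Matrix ι ι F) = ((g : GL ι F) : Matrix ι ι F) * (((g : GL ι F)⁻¹ * h : GL ι F) : Matrix ι ι F) := by
    rw [← Units.val_mul, mul_inv_cancel_left]
  rw [h3, hc, ← Matrix.mulVec_mulVec, Matrix.smul_mulVec, Matrix.one_mulVec, Matrix.mulVec_smul]

variable {F : Type u} [Field F] [Finite F] {p : ℕ} {Q : (Fin 10 → F) → F} {H P : Subgroup (GL (Fin 10) F)}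

theorem kill_of_fixed (h : Cx p Q H P) (hP : Spor.IsoM11 P) {K : Subgroup P} (hK : K.index = 11) {v0 : Fin 10 → F}
    (h0 : v0 ≠ 0) (hfix : ∀ k ∈ K, ((k : GL (Fin 10) F) : Matrix (Fin 10) (Fin 10) F) *ᵥ v0 = v0)
    (hdc : ∀ g ∉ K, ∀ g' ∉ K, ∃ k ∈ K, ∃ k' ∈ K, g' = k * g * k') : False := by
  obtain ⟨⟨e⟩, -, -⟩ := h.eleven hK h0 hfix hdc
    (fun x hx => lines_of_inner h.hc (Cfsg.Agent.UGT.End.MEleven.inner hP) hx v0)
  obtain ⟨f⟩ := hP
  have hc1 : Nat.card P = 7920 := (Cfsg.Agent.UGT.End.MEleven.isM11 ⟨f⟩).2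
  have hc2 : Nat.card (alternatingGroup (Fin 11)) ≤ Nat.card P := by
    rw [← Nat.card_congr e.toEquiv]
    exact Nat.card_le_card_of_surjective _ (toSoc_surjective P)
  rw [hc1, Nat.card_eq_fintype_card] at hc2
  have hc3 := two_mul_card_alternatingGroup (α := Fin 11)
  rw [Fintype.card_perm, Fintype.card_fin] at hc3
  have hc4 : Nat.factorial 11 = 39916800 := rfl
  omega

/-- `M₁₁`, characteristic 3 -/
theorem m11_dead_three (h : Cx p Q H P) (hp : p = 3) (hP : Spor.IsoM11 P) : False := by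
  subst hp
  haveI := h.char
  have h3 : (3 : F) = 0 := by
    have := CharP.cast_eq_zero F 3
    exact_mod_cast this
  have h2 : (2 : F) ≠ 0 := by
    intro h2
    have : (1 : F) = 0 := by linear_combination h3 - h2
    exact one_ne_zero this
  have hP' := hP
  obtain ⟨e⟩ := hP'
  obtain ⟨v0, hv0, hfix⟩ := fixed_three h.core.absIrred.1 e (Fintype.card_fin 10) h3 h2 h.fixQ
  have hidx : (MTh.K.comap e.toMonoidHom).index = 11 := by
    rw [Subgroup.index_comap_of_surjective _ e.surjective]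
    exact index_K
  refine kill_of_fixed h hP hidx hv0 (fun k hk => hfix k hk) ?_
  intro g hg g' hg'
  obtain ⟨k, hk, k', hk', hgk⟩ := double_K (g := e g) (g' := e g') hg hg'
  refine ⟨e.symm k, ?_, e.symm k', ?_, ?_⟩
  · change e (e.symm k) ∈ MTh.K
    rwa [MulEquiv.apply_symm_apply]
  · change e (e.symm k') ∈ MTh.K
    rwa [MulEquiv.apply_symm_apply]
  · apply e.injective
    rw [hgk, map_mul, map_mul, MulEquiv.apply_symm_apply, MulEquiv.apply_symm_apply]

open Cfsg.Agent.SporadicA.SharpFour Cfsg.Agent.H926.MEl in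
/-- `M₁₁`, characteristic at least 5 -/
theorem m11_dead_ne (h : Cx p Q H P) (h2 : (2 : F) ≠ 0) (h3 : (3 : F) ≠ 0) (hP : Spor.IsoM11 P) : False := by
  obtain ⟨X, i1, i2, i3, h11, h4, hfix⟩ := m11_fixed hP (Fintype.card_fin 10) h2 h3 (Or.inl h.fixQ)
  obtain ⟨a⟩ : Nonempty X := by
    rw [← Fintype.card_pos_iff, h11]; norm_num
  obtain ⟨v0, hv0, hK⟩ := hfix a
  have htr : ∀ x : X, ∃ g : P, g • a = x := by
    intro x
    obtain ⟨b, hb⟩ := exists_other h11 {a} (by simp)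
    obtain ⟨c, hc⟩ := exists_other h11 {a, b} (lt_of_le_of_lt Finset.card_le_two (by norm_num))
    obtain ⟨d, hd⟩ := exists_other h11 {a, b, c} (lt_of_le_of_lt Finset.card_le_three (by norm_num))
    obtain ⟨b', hb'⟩ := exists_other h11 {x} (by simp)
    obtain ⟨c', hc'⟩ := exists_other h11 {x, b'} (lt_of_le_of_lt Finset.card_le_two (by norm_num))
    obtain ⟨d', hd'⟩ := exists_other h11 {x, b', c'} (lt_of_le_of_lt Finset.card_le_three (by norm_num))
    simp only [Finset.mem_insert, Finset.mem_singleton, not_or] at hb hc hd hb' hc' hd'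
    obtain ⟨g, hg, -⟩ := h4.exists_map a b c d x b' c' d'
      (nodup4_iff.2 ⟨Ne.symm hb, Ne.symm hc.1, Ne.symm hd.1, Ne.symm hc.2, Ne.symm hd.2.1, Ne.symm hd.2.2⟩)
      (nodup4_iff.2 ⟨Ne.symm hb', Ne.symm hc'.1, Ne.symm hd'.1, Ne.symm hc'.2, Ne.symm hd'.2.1, Ne.symm hd'.2.2⟩)
    exact ⟨g, hg⟩
  have htr2 : ∀ x y : X, x ≠ a → y ≠ a → ∃ g : P, g • a = a ∧ g • x = y := by
    intro x y hx hy
    obtain ⟨c, hc⟩ := exists_other h11 {a, x} (lt_of_le_of_lt Finset.card_le_two (by norm_num))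
    obtain ⟨d, hd⟩ := exists_other h11 {a, x, c} (lt_of_le_of_lt Finset.card_le_three (by norm_num))
    obtain ⟨c', hc'⟩ := exists_other h11 {a, y} (lt_of_le_of_lt Finset.card_le_two (by norm_num))
    obtain ⟨d', hd'⟩ := exists_other h11 {a, y, c'} (lt_of_le_of_lt Finset.card_le_three (by norm_num))
    simp only [Finset.mem_insert, Finset.mem_singleton, not_or] at hc hd hc' hd'
    obtain ⟨g, hg, hg', -⟩ := h4.exists_map a x c d a y c' d'
      (nodup4_iff.2 ⟨Ne.symm hx, Ne.symm hc.1, Ne.symm hd.1, Ne.symm hc.2, Ne.symm hd.2.1, Ne.symm hd.2.2⟩)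
      (nodup4_iff.2 ⟨Ne.symm hy, Ne.symm hc'.1, Ne.symm hd'.1, Ne.symm hc'.2, Ne.symm hd'.2.1, Ne.symm hd'.2.2⟩)
    exact ⟨g, hg, hg'⟩
  have hidx : (MulAction.stabilizer P a).index = 11 := by
    rw [MulAction.index_stabilizer, show MulAction.orbit P a = Set.univ by
      rw [Set.eq_univ_iff_forall]
      intro x
      obtain ⟨g, hg⟩ := htr x
      exact ⟨g, hg⟩, Set.ncard_univ, Nat.card_eq_fintype_card, h11]
  refine kill_of_fixed h hP hidx hv0 (fun k hk => hK k hk) ?_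
  intro g hg g' hg'
  rw [MulAction.mem_stabilizer_iff] at hg hg'
  obtain ⟨k, hk, hk'⟩ := htr2 (g • a) (g' • a) hg hg'
  refine ⟨k, hk, (k * g)⁻¹ * g', ?_, by group⟩
  rw [MulAction.mem_stabilizer_iff, mul_smul, ← hk', ← mul_smul k g, inv_smul_smul]

/-- **The row `M₁₁`, odd characteristic.** -/
theorem m11_dead (h : Cx p Q H P) (hp : p ≠ 2) (hP : Spor.IsoM11 (Soc P)) : False := by
  haveI := h.char
  haveI : Fact p.Prime := ⟨h.prime⟩
  have hP' : Spor.IsoM11 P := by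
    obtain ⟨e⟩ := hP
    obtain ⟨e', -⟩ := h.core.equiv_of_coprime e S2034.result (by
      rw [Nat.card_eq_fintype_card, Fintype.card_multiplicative, ZMod.card]
      exact Nat.coprime_one_left _)
    exact ⟨e'⟩
  by_cases hp3 : p = 3
  · exact m11_dead_three h hp3 hP'
  · refine m11_dead_ne h ?_ ?_ hP'
    · intro h2
      have h4 : ((2 : ℕ) : F) = 0 := by exact_mod_cast h2
      rw [CharP.cast_eq_zero_iff F p] at h4
      exact hp ((Nat.prime_dvd_prime_iff_eq h.prime Nat.prime_two).1 h4)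
    · intro h3
      have h4 : ((3 : ℕ) : F) = 0 := by exact_mod_cast h3
      rw [CharP.cast_eq_zero_iff F p] at h4
      exact hp3 ((Nat.prime_dvd_prime_iff_eq h.prime Nat.prime_three).1 h4)

end Cfsg.Agent.H926.MTh
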