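import Mathlib

/-!
# Involutions, quaternion groups and `S₃` in characteristic 3: dimensions of fixed spaces (helper926)

* `split`, `vier` : involutions and commuting pairs of involutions on a subspace;
* `ND` : the form is nondegenerate on the subspace; `ND.plus`, `ND.minus`;
* `quat` : a quaternion group acting faithfully and isometrically (symmetric form): `4 ∣ dim`;
* `three_fixed` : `S₃` acting isometrically in characteristic 3, the involution having trace zero: there is a fixed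
  vector.
-/

set_option autoImplicit false

namespace Cfsg.Agent.H926.MTh

open Module

variable {k : Type*} [Field k] {V : Type*} [AddCommGroup V] [Module k V]

/-- the fixed vectors -/
def C (α : End k V) : Submodule k V := LinearMap.ker (α - 1)

/-- the negated vectors -/
def N (α : End k V) : Submodule k V := LinearMap.ker (α + 1)

theorem mem_C {α : End k V} {v : V} : v ∈ C α ↔ α v = v := by
  rw [C, LinearMap.mem_ker, LinearMap.sub_apply, Module.End.one_apply, sub_eq_zero]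

theorem mem_N {α : End k V} {v : V} : v ∈ N α ↔ α v = -v := by
  rw [N, LinearMap.mem_ker, LinearMap.add_apply, Module.End.one_apply, add_eq_zero_iff_eq_neg]

theorem eq_zero_of_neg (h2 : (2 : k) ≠ 0) {v : V} (h : v = -v) : v = 0 := by
  have h1 : (2 : k) • v = 0 := by
    rw [two_smul]
    nth_rewrite 2 [h]
    rw [add_neg_cancel]
  exact (smul_eq_zero.1 h1).resolve_left h2

theorem split [FiniteDimensional k V] (h2 : (2 : k) ≠ 0) {α : End k V} {W : Submodule k V} (hW : ∀ w ∈ W, α w ∈ W)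
    (hα : ∀ w ∈ W, α (α w) = w) :
    finrank k W = finrank k (W ⊓ C α : Submodule k V) + finrank k (W ⊓ N α : Submodule k V) := by
  have h1 : (W ⊓ C α) ⊔ (W ⊓ N α) = W := by
    apply le_antisymm
    · exact sup_le inf_le_left inf_le_left
    · intro w hw
      rw [Submodule.mem_sup]
      refine ⟨(2 : k)⁻¹ • (w + α w), ⟨W.smul_mem _ (W.add_mem hw (hW w hw)), ?_⟩,
        (2 : k)⁻¹ • (w - α w), ⟨W.smul_mem _ (W.sub_mem hw (hW w hw)), ?_⟩, ?_⟩
      · rw [SetLike.mem_coe, mem_C, map_smul, map_add, hα w hw, add_comm]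
      · rw [SetLike.mem_coe, mem_N, map_smul, map_sub, hα w hw, ← smul_neg, neg_sub]
      · rw [← smul_add, add_add_sub_cancel, ← two_smul k w, smul_smul, inv_mul_cancel₀ h2, one_smul]
  have h3 : (W ⊓ C α) ⊓ (W ⊓ N α) = ⊥ := by
    rw [eq_bot_iff]
    rintro w ⟨⟨-, hw1⟩, -, hw2⟩
    rw [SetLike.mem_coe, mem_C] at hw1
    rw [SetLike.mem_coe, mem_N] at hw2
    exact eq_zero_of_neg h2 (hw1.symm.trans hw2)
  have h4 := Submodule.finrank_sup_add_finrank_inf_eq (W ⊓ C α) (W ⊓ N α)
  rw [h1, h3, finrank_bot, add_zero] at h4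
  exact h4

theorem vier [FiniteDimensional k V] (h2 : (2 : k) ≠ 0) {α β : End k V} {W : Submodule k V} (hα : ∀ w ∈ W, α w ∈ W)
    (hβ : ∀ w ∈ W, β w ∈ W) (hα2 : ∀ w ∈ W, α (α w) = w) (hβ2 : ∀ w ∈ W, β (β w) = w)
    (hc : ∀ w ∈ W, α (β w) = β (α w)) :
    finrank k W + 2 * finrank k (W ⊓ C α ⊓ C β : Submodule k V) =
      finrank k (W ⊓ C α : Submodule k V) + finrank k (W ⊓ C β : Submodule k V) +
        finrank k (W ⊓ C (α * β) : Submodule k V) := by
  have e1 := split h2 hα hα2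
  have e2 : finrank k (W ⊓ C α : Submodule k V) = finrank k (W ⊓ C α ⊓ C β : Submodule k V) +
      finrank k (W ⊓ C α ⊓ N β : Submodule k V) := by
    refine split h2 ?_ fun w hw => hβ2 w hw.1
    rintro w ⟨hw, hw'⟩
    rw [SetLike.mem_coe, mem_C] at hw'
    refine ⟨hβ w hw, ?_⟩
    rw [SetLike.mem_coe, mem_C, hc w hw, hw']
  have e3 : finrank k (W ⊓ C β : Submodule k V) = finrank k (W ⊓ C β ⊓ C α : Submodule k V) +
      finrank k (W ⊓ C β ⊓ N α : Submodule k V) := by
    refine split h2 ?_ fun w hw => hα2 w hw.1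
    rintro w ⟨hw, hw'⟩
    rw [SetLike.mem_coe, mem_C] at hw'
    refine ⟨hα w hw, ?_⟩
    rw [SetLike.mem_coe, mem_C, ← hc w hw, hw']
  have e4 : finrank k (W ⊓ N α : Submodule k V) = finrank k (W ⊓ N α ⊓ C β : Submodule k V) +
      finrank k (W ⊓ N α ⊓ N β : Submodule k V) := by
    refine split h2 ?_ fun w hw => hβ2 w hw.1
    rintro w ⟨hw, hw'⟩
    rw [SetLike.mem_coe, mem_N] at hw'
    refine ⟨hβ w hw, ?_⟩
    rw [SetLike.mem_coe, mem_N, hc w hw, hw', map_neg]
  have e5 : finrank k (W ⊓ C (α * β) : Submodule k V) = finrank k (W ⊓ C (α * β) ⊓ C α : Submodule k V) +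
      finrank k (W ⊓ C (α * β) ⊓ N α : Submodule k V) := by
    refine split h2 ?_ fun w hw => hα2 w hw.1
    rintro w ⟨hw, hw'⟩
    rw [SetLike.mem_coe, mem_C, Module.End.mul_apply] at hw'
    refine ⟨hα w hw, ?_⟩
    rw [SetLike.mem_coe, mem_C, Module.End.mul_apply, ← hc w hw, hw']
  have s1 : (W ⊓ C β ⊓ C α : Submodule k V) = W ⊓ C α ⊓ C β := by
    rw [inf_assoc, inf_comm (C β), inf_assoc]
  have s2 : (W ⊓ C β ⊓ N α : Submodule k V) = W ⊓ N α ⊓ C β := by
    rw [inf_assoc, inf_comm (C β), inf_assoc]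
  have key : ∀ w ∈ W, α (β w) = w → β w = α w := by
    intro w hw h
    have h1 := congrArg α h
    rwa [hα2 _ (hβ w hw)] at h1
  have s3 : (W ⊓ C (α * β) ⊓ C α : Submodule k V) = W ⊓ C α ⊓ C β := by
    ext w
    constructor
    · rintro ⟨⟨hw, h1⟩, h3⟩
      rw [SetLike.mem_coe, mem_C, Module.End.mul_apply] at h1
      rw [SetLike.mem_coe, mem_C] at h3
      exact ⟨⟨hw, mem_C.2 h3⟩, mem_C.2 ((key w hw h1).trans h3)⟩
    · rintro ⟨⟨hw, h1⟩, h3⟩
      rw [SetLike.mem_coe, mem_C] at h1 h3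
      refine ⟨⟨hw, ?_⟩, mem_C.2 h1⟩
      rw [SetLike.mem_coe, mem_C, Module.End.mul_apply, h3, h1]
  have s4 : (W ⊓ C (α * β) ⊓ N α : Submodule k V) = W ⊓ N α ⊓ N β := by
    ext w
    constructor
    · rintro ⟨⟨hw, h1⟩, h3⟩
      rw [SetLike.mem_coe, mem_C, Module.End.mul_apply] at h1
      rw [SetLike.mem_coe, mem_N] at h3
      exact ⟨⟨hw, mem_N.2 h3⟩, mem_N.2 ((key w hw h1).trans h3)⟩
    · rintro ⟨⟨hw, h1⟩, h3⟩
      rw [SetLike.mem_coe, mem_N] at h1 h3
      refine ⟨⟨hw, ?_⟩, mem_N.2 h1⟩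
      rw [SetLike.mem_coe, mem_C, Module.End.mul_apply, h3, map_neg, h1, neg_neg]
  rw [s1, s2] at e3
  rw [s3, s4] at e5
  omega

/-! ### The form -/

variable (B : LinearMap.BilinForm k V)

/-- the form is nondegenerate on `U` -/
def ND (U : Submodule k V) : Prop := ∀ v ∈ U, v ≠ 0 → ∃ w ∈ U, B v w ≠ 0

variable {B}

theorem ND.plus (h2 : (2 : k) ≠ 0) {U : Submodule k V} (hU : ND B U) {α : End k V} (hα : ∀ v ∈ U, α v ∈ U)
    (hα2 : ∀ v ∈ U, α (α v) = v) (hi : ∀ v w, B (α v) (α w) = B v w) : ND B (U ⊓ C α) := by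
  rintro v ⟨hv, hv'⟩ h0
  rw [SetLike.mem_coe, mem_C] at hv'
  obtain ⟨w, hw, hvw⟩ := hU v hv h0
  refine ⟨w + α w, ⟨U.add_mem hw (hα w hw), ?_⟩, ?_⟩
  · rw [SetLike.mem_coe, mem_C, map_add, hα2 w hw, add_comm]
  · have h1 := hi v w
    rw [hv'] at h1
    rw [map_add, h1, ← two_mul]
    exact mul_ne_zero h2 hvw

theorem ND.minus (h2 : (2 : k) ≠ 0) {U : Submodule k V} (hU : ND B U) {α : End k V} (hα : ∀ v ∈ U, α v ∈ U)
    (hα2 : ∀ v ∈ U, α (α v) = v) (hi : ∀ v w, B (α v) (α w) = B v w) : ND B (U ⊓ N α) := by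
  rintro v ⟨hv, hv'⟩ h0
  rw [SetLike.mem_coe, mem_N] at hv'
  obtain ⟨w, hw, hvw⟩ := hU v hv h0
  refine ⟨w - α w, ⟨U.sub_mem hw (hα w hw), ?_⟩, ?_⟩
  · rw [SetLike.mem_coe, mem_N, map_sub, hα2 w hw, neg_sub]
  · have h1 := hi v w
    rw [hv', map_neg, LinearMap.neg_apply] at h1
    rw [map_sub, sub_eq_add_neg, h1, ← two_mul]
    exact mul_ne_zero h2 hvw

theorem exists_nonsing (h2 : (2 : k) ≠ 0) (hs : ∀ v w, B v w = B w v) {U : Submodule k V} (hU : ND B U) (h0 : U ≠ ⊥) :
    ∃ v ∈ U, B v v ≠ 0 := by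
  by_contra hcon
  push Not at hcon
  obtain ⟨v, hv, hv0⟩ := U.exists_mem_ne_zero_of_ne_bot h0
  obtain ⟨w, hw, hvw⟩ := hU v hv hv0
  have h1 := hcon (v + w) (U.add_mem hv hw)
  simp only [map_add, LinearMap.add_apply] at h1
  rw [hcon v hv, hcon w hw, hs w v, zero_add, add_zero, ← two_mul] at h1
  exact (mul_ne_zero h2 hvw) h1

theorem quat [FiniteDimensional k V] (h2 : (2 : k) ≠ 0) (hs : ∀ v w, B v w = B w v) {f g : End k V}
    (hf : ∀ v w, B (f v) (f w) = B v w) (hg : ∀ v w, B (g v) (g w) = B v w) : ∀ (n : ℕ) (U : Submodule k V),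
    finrank k U ≤ n → ND B U → (∀ u ∈ U, f u ∈ U) → (∀ u ∈ U, g u ∈ U) → (∀ u ∈ U, f (f u) = -u) →
    (∀ u ∈ U, g (g u) = -u) → (∀ u ∈ U, f (g u) = -g (f u)) → 4 ∣ finrank k U := by
  intro n
  induction n with
  | zero =>
    intro U hU _ _ _ _ _ _
    rw [Nat.le_zero.1 hU]
    exact dvd_zero 4
  | succ n ih =>
    intro U hU hnd hfU hgU hff hgg hfg
    by_cases h0 : U = ⊥
    · rw [h0, finrank_bot]
      exact dvd_zero 4
    obtain ⟨v, hv, hvv⟩ := exists_nonsing h2 hs hnd h0
    have self_zero : ∀ a b : V, B a b = -B a b → B a b = 0 := by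
      intro a b h
      have h1 : (2 : k) * B a b = 0 := by linear_combination h
      exact (mul_eq_zero.1 h1).resolve_left h2
    -- skewness
    have skf : ∀ a ∈ U, ∀ b ∈ U, B (f a) b = -B a (f b) := by
      intro a ha b hb
      have h1 := hf a (f b)
      rw [hff b hb, map_neg] at h1
      rw [← h1, neg_neg]
    have skg : ∀ a ∈ U, ∀ b ∈ U, B (g a) b = -B a (g b) := by
      intro a ha b hb
      have h1 := hg a (g b)
      rw [hgg b hb, map_neg] at h1
      rw [← h1, neg_neg]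
    have hfv := hfU v hv
    have hgv := hgU v hv
    have hfgv := hfU _ hgv
    have b12 : B v (f v) = 0 := by
      apply self_zero
      rw [← skf v hv v hv, hs]
    have b13 : B v (g v) = 0 := by
      apply self_zero
      rw [← skg v hv v hv, hs]
    have b14 : B v (f (g v)) = 0 := by
      apply self_zero
      have h1 : B v (f (g v)) = -B (f v) (g v) := by rw [skf v hv (g v) hgv, neg_neg]
      have h3 : B (f v) (g v) = B v (f (g v)) := by
        have h4 := skg (f v) hfv v hv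
        rw [hfg v hv, map_neg, hs v, h4, neg_neg]
      rw [h3] at h1
      exact h1
    have b23 : B (f v) (g v) = 0 := by
      rw [skf v hv (g v) hgv, b14, neg_zero]
    have b24 : B (f v) (f (g v)) = 0 := by rw [hf, b13]
    have b34 : B (g v) (f (g v)) = 0 := by
      apply self_zero
      have h1 := skf (g v) hgv (g v) hgv
      rw [← h1, hs]
    have b22 : B (f v) (f v) = B v v := hf v v
    have b33 : B (g v) (g v) = B v v := hg v v
    have b44 : B (f (g v)) (f (g v)) = B v v := by rw [hf, hg]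
    -- the map
    let L : U →ₗ[k] (Fin 4 → k) := LinearMap.pi ![(B v).comp U.subtype, (B (f v)).comp U.subtype,
      (B (g v)).comp U.subtype, (B (f (g v))).comp U.subtype]
    have hL : ∀ u : U, L u = ![B v u, B (f v) u, B (g v) u, B (f (g v)) u] := by
      intro u
      ext i
      fin_cases i <;> rfl
    have hsurj : Function.Surjective L := by
      intro c
      refine ⟨⟨(B v v)⁻¹ • (c 0 • v + c 1 • f v + c 2 • g v + c 3 • f (g v)),
        U.smul_mem _ (U.add_mem (U.add_mem (U.add_mem (U.smul_mem _ hv) (U.smul_mem _ hfv)) (U.smul_mem _ hgv))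
          (U.smul_mem _ hfgv))⟩, ?_⟩
      rw [hL]
      ext i
      fin_cases i
      · change B v ((B v v)⁻¹ • (c 0 • v + c 1 • f v + c 2 • g v + c 3 • f (g v))) = c 0
        simp only [map_smul, map_add, smul_eq_mul, b12, b13, b14, mul_zero, add_zero]
        field_simp
      · change B (f v) ((B v v)⁻¹ • (c 0 • v + c 1 • f v + c 2 • g v + c 3 • f (g v))) = c 1
        simp only [map_smul, map_add, smul_eq_mul, hs (f v) v, b12, b22, b23, b24, mul_zero, add_zero, zero_add]
        field_simp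
      · change B (g v) ((B v v)⁻¹ • (c 0 • v + c 1 • f v + c 2 • g v + c 3 • f (g v))) = c 2
        simp only [map_smul, map_add, smul_eq_mul, hs (g v) v, hs (g v) (f v), b13, b23, b33, b34, mul_zero, add_zero,
          zero_add]
        field_simp
      · change B (f (g v)) ((B v v)⁻¹ • (c 0 • v + c 1 • f v + c 2 • g v + c 3 • f (g v))) = c 3
        simp only [map_smul, map_add, smul_eq_mul, hs (f (g v)) v, hs (f (g v)) (f v), hs (f (g v)) (g v), b14, b24,
          b34, b44, mul_zero, add_zero, zero_add]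
        field_simp
    have hrn := L.finrank_range_add_finrank_ker
    rw [LinearMap.range_eq_top.2 hsurj, finrank_top, Module.finrank_fin_fun] at hrn
    let U' : Submodule k V := (LinearMap.ker L).map U.subtype
    have hU' : ∀ u, u ∈ U' ↔ u ∈ U ∧ B v u = 0 ∧ B (f v) u = 0 ∧ B (g v) u = 0 ∧ B (f (g v)) u = 0 := by
      intro u
      constructor
      · rintro ⟨u, hu, rfl⟩
        rw [SetLike.mem_coe, LinearMap.mem_ker, hL] at hu
        exact ⟨u.2, congrFun hu 0, congrFun hu 1, congrFun hu 2, congrFun hu 3⟩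
      · rintro ⟨hu, h1, h3, h4, h5⟩
        refine ⟨⟨u, hu⟩, ?_, rfl⟩
        rw [SetLike.mem_coe, LinearMap.mem_ker, hL]
        ext i
        fin_cases i
        · exact h1
        · exact h3
        · exact h4
        · exact h5
    have hfr : finrank k U' = finrank k (LinearMap.ker L) :=
      Submodule.finrank_map_subtype_eq _ _
    have h4 : 4 ∣ finrank k U' := by
      refine ih U' (by omega) ?_ ?_ ?_ ?_ ?_ ?_
      · intro u hu hu0
        obtain ⟨hu, h1, h3, h4, h5⟩ := (hU' u).1 hu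
        obtain ⟨w, hw, huw⟩ := hnd u hu hu0
        refine ⟨w - (B v v)⁻¹ • (B v w • v + B (f v) w • f v + B (g v) w • g v + B (f (g v)) w • f (g v)),
          (hU' _).2 ⟨U.sub_mem hw (U.smul_mem _ (U.add_mem (U.add_mem (U.add_mem (U.smul_mem _ hv) (U.smul_mem _ hfv))
            (U.smul_mem _ hgv)) (U.smul_mem _ hfgv))), ?_, ?_, ?_, ?_⟩, ?_⟩
        · simp only [map_sub, map_smul, map_add, smul_eq_mul, b12, b13, b14, mul_zero, add_zero]
          field_simp
          ring
        · simp only [map_sub, map_smul, map_add, smul_eq_mul, hs (f v) v, b12, b22, b23, b24, mul_zero, add_zero,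
            zero_add]
          field_simp
          ring
        · simp only [map_sub, map_smul, map_add, smul_eq_mul, hs (g v) v, hs (g v) (f v), b13, b23, b33, b34, mul_zero,
            add_zero, zero_add]
          field_simp
          ring
        · simp only [map_sub, map_smul, map_add, smul_eq_mul, hs (f (g v)) v, hs (f (g v)) (f v), hs (f (g v)) (g v),
            b14, b24, b34, b44, mul_zero, add_zero, zero_add]
          field_simp
          ring
        · simp only [map_sub, map_smul, map_add, smul_eq_mul, hs u v, hs u (f v), hs u (g v), hs u (f (g v)), h1, h3,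
            h4, h5, mul_zero, add_zero, sub_zero]
          exact huw
      · intro u hu
        obtain ⟨hu, h1, h3, h4, h5⟩ := (hU' u).1 hu
        refine (hU' _).2 ⟨hfU u hu, ?_, ?_, ?_, ?_⟩
        · rw [hs, skf u hu v hv, hs, h3, neg_zero]
        · rw [hf, h1]
        · rw [hs, skf u hu (g v) hgv, hs, h5, neg_zero]
        · rw [hf, h4]
      · intro u hu
        obtain ⟨hu, h1, h3, h4, h5⟩ := (hU' u).1 hu
        refine (hU' _).2 ⟨hgU u hu, ?_, ?_, ?_, ?_⟩
        · rw [hs, skg u hu v hv, hs, h4, neg_zero]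
        · have e : g (f v) = -f (g v) := by rw [hfg v hv, neg_neg]
          rw [hs, skg u hu (f v) hfv, e, map_neg, neg_neg, hs, h5]
        · rw [hg, h1]
        · rw [hfg v hv, map_neg, LinearMap.neg_apply, hg, h3, neg_zero]
      · intro u hu
        exact hff u ((hU' u).1 hu).1
      · intro u hu
        exact hgg u ((hU' u).1 hu).1
      · intro u hu
        exact hfg u ((hU' u).1 hu).1
    omega

/-- `S₃` in characteristic 3 -/
theorem three_fixed [FiniteDimensional k V] (h3 : (3 : k) = 0) (h2 : (2 : k) ≠ 0) {Y : Submodule k V}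
    (hY : ND B Y) (h0 : Y ≠ ⊥) {u s : End k V} (hu : ∀ y ∈ Y, u y ∈ Y) (hs' : ∀ y ∈ Y, s y ∈ Y)
    (hui : ∀ v w, B (u v) (u w) = B v w) (hsi : ∀ v w, B (s v) (s w) = B v w) (huu : ∀ y ∈ Y, u (u y) = y)
    (hsss : ∀ y ∈ Y, s (s (s y)) = y) (hus : ∀ y ∈ Y, u (s y) = s (s (u y)))
    (hd : finrank k (Y ⊓ C u : Submodule k V) = finrank k (Y ⊓ N u : Submodule k V)) :
    ∃ v ∈ Y, v ≠ 0 ∧ u v = v ∧ s v = v := by
  by_contra hcon
  push Not at hcon
  let D : End k V := s - s * s
  have hD : ∀ y, D y = s y - s (s y) := fun y => rfl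
  have hDY : ∀ y ∈ Y, D y ∈ Y := fun y hy => Y.sub_mem (hs' y hy) (hs' _ (hs' y hy))
  have huD : ∀ y ∈ Y, u (D y) = -D (u y) := by
    intro y hy
    have h1 : u (s (s y)) = s (u y) := by
      rw [hus _ (hs' y hy), hus y hy, hsss _ (hs' _ (hu y hy))]
    rw [hD, map_sub, hus y hy, h1, hD, neg_sub]
  have hDp : ∀ y ∈ Y ⊓ C u, D y ∈ Y ⊓ N u := by
    rintro y ⟨hy, hy'⟩
    rw [SetLike.mem_coe, mem_C] at hy'
    refine ⟨hDY y hy, ?_⟩
    rw [SetLike.mem_coe, mem_N, huD y hy, hy']
  have hDm : ∀ y ∈ Y ⊓ N u, D y ∈ Y ⊓ C u := by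
    rintro y ⟨hy, hy'⟩
    rw [SetLike.mem_coe, mem_N] at hy'
    refine ⟨hDY y hy, ?_⟩
    rw [SetLike.mem_coe, mem_C, huD y hy, hy', map_neg, neg_neg]
  have hinj : ∀ y ∈ Y ⊓ C u, D y = 0 → y = 0 := by
    rintro y ⟨hy, hy'⟩ hDy
    rw [SetLike.mem_coe, mem_C] at hy'
    by_contra hy0
    refine hcon y hy hy0 hy' ?_
    rw [hD, sub_eq_zero] at hDy
    have h1 := congrArg (fun w => s (s w)) hDy
    rw [hsss y hy] at h1
    exact h1.symm
  have hD3 : ∀ y ∈ Y, D (D (D y)) = 0 := by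
    intro y hy
    have h4 : ∀ w : V, (3 : k) • w = 0 := fun w => by rw [h3, zero_smul]
    have e1 : D (D y) = s y + s (s y) - (2 : k) • y := by
      rw [hD, hD, map_sub, map_sub, hsss y hy, two_smul]
      abel
    rw [e1, hD, map_sub, map_add, map_smul, map_sub, map_add, map_smul, hsss y hy, two_smul, two_smul]
    have h5 := h4 (s (s y) - s y)
    rw [show (3 : k) = 1 + 1 + 1 by norm_num, add_smul, add_smul, one_smul] at h5
    rw [← h5]
    abel
  -- surjectivity
  have hsurj : ∀ y' ∈ Y ⊓ N u, ∃ y ∈ Y ⊓ C u, D y = y' := by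
    have h1 : (Y ⊓ C u).map D ≤ Y ⊓ N u := by
      rintro _ ⟨y, hy, rfl⟩
      exact hDp y hy
    have h4 : finrank k ((Y ⊓ C u).map D) = finrank k (Y ⊓ C u : Submodule k V) := by
      have h5 : Function.Injective (D.domRestrict (Y ⊓ C u)) := by
        rw [injective_iff_map_eq_zero]
        intro y hy
        exact Subtype.ext (hinj y y.2 hy)
      have h6 := LinearMap.finrank_range_of_inj h5
      rw [LinearMap.range_domRestrict] at h6
      exact h6
    have h5 := Submodule.eq_of_le_of_finrank_eq h1 (h4.trans hd)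
    intro y' hy'
    rw [← h5] at hy'
    obtain ⟨y, hy, hyy⟩ := hy'
    exact ⟨y, hy, hyy⟩
  have hDm0 : ∀ y' ∈ Y ⊓ N u, D y' = 0 := by
    intro y' hy'
    obtain ⟨y, hy, rfl⟩ := hsurj y' hy'
    exact hinj _ (hDm _ (hDp y hy)) (hD3 y hy.1)
  have hYm : ND B (Y ⊓ N u) := hY.minus h2 hu huu hui
  have hp : ∀ y ∈ Y ⊓ C u, y = 0 := by
    intro y hy
    apply hinj y hy
    by_contra hne
    obtain ⟨w, hw, hyw⟩ := hYm _ (hDp y hy) hne
    apply hyw
    have h1 := hDm0 w hw
    rw [hD, sub_eq_zero] at h1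
    have e1 : B (s y) w = B y (s (s w)) := by
      rw [← hsi (s y) w, ← hsi (s (s y)) (s w), hsss y hy.1]
    have e2 : B (s (s y)) w = B y (s w) := by
      rw [← hsi (s (s y)) w, hsss y hy.1]
    rw [hD, map_sub, LinearMap.sub_apply, e1, e2, ← h1, sub_self]
  have h1 : finrank k (Y ⊓ C u : Submodule k V) = 0 := by
    rw [Submodule.finrank_eq_zero, eq_bot_iff]
    exact fun y hy => hp y hy
  have h4 := split h2 hu huu
  rw [← hd, h1, add_zero, Submodule.finrank_eq_zero] at h4
  exact h0 h4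

end Cfsg.Agent.H926.MTh
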