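import Cfsg.Agent.H926.MThDim
import Cfsg.Agent.H882.Del.M11Grp
import Cfsg.Agent.S0384

/-!
# Explicit elements of `M₁₁` and the stabiliser of a point of the dodecad (helper926)

* `dat` : the elements `ex, et, es, er, eu` of `Spor.M11` satisfy `Dat`;
* `K` : the stabiliser of the point `some 1` (index 11); `K_le` : it is generated by `ex, et, es`;
* `index_K`, `double_K`, `er_not_mem`.
-/

set_option autoImplicit false

namespace Cfsg.Agent.H926.MTh

open Cfsg Cfsg.Agent.SporadicA.GolayBase Cfsg.Agent.SporadicA.GolayPerm Cfsg.Agent.H882.Tab Cfsg.Agent.H882.Grp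
open scoped Pointwise

def qx : ℕ := 233950865888990746377447415904013344
def qt : ℕ := 965346966670364367458681901213092896
def qs : ℕ := 970294198445089438799834204141527072
def qr : ℕ := 735007443424217238740507493471945824
def qu : ℕ := 721064549862662597311266359538158624

noncomputable def ex : Spor.M11 := mk11 qx (by decide +kernel)
noncomputable def et : Spor.M11 := mk11 qt (by decide +kernel)
noncomputable def es : Spor.M11 := mk11 qs (by decide +kernel)
noncomputable def er : Spor.M11 := mk11 qr (by decide +kernel)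
noncomputable def eu : Spor.M11 := mk11 qu (by decide +kernel)

theorem ix : IsT ex qx := isT_mk11 _ _
theorem it : IsT et qt := isT_mk11 _ _
theorem is : IsT es qs := isT_mk11 _ _
theorem ir : IsT er qr := isT_mk11 _ _
theorem iu : IsT eu qu := isT_mk11 _ _

theorem dat : Dat ex et es er eu where
  zz := eq11 (m11 (m11 (m11 ix ix) (m11 ix ix)) (m11 (m11 ix ix) (m11 ix ix))) one11 (by decide +kernel)
  z1 := fun h => ne_of_isT (m11 (m11 ix ix) (m11 ix ix)) one11 4 (by norm_num) (by decide +kernel)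
    (congrArg Subtype.val h)
  tt := eq11 (m11 it it) one11 (by decide +kernel)
  tx := eq11 (m11 it ix) (m11 (m11 (m11 ix ix) ix) it) (by decide +kernel)
  ux := eq11 (m11 iu ix) (m11 ix it) (by decide +kernel)
  sss := eq11 (m11 (m11 is is) is) one11 (by decide +kernel)
  sz := eq11 (m11 is (m11 (m11 ix ix) (m11 ix ix))) (m11 it is) (by decide +kernel)
  st := eq11 (m11 is it) (m11 (m11 (m11 (m11 ix ix) (m11 ix ix)) it) is) (by decide +kernel)
  us := eq11 (m11 iu is) (m11 (m11 is is) iu) (by decide +kernel)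
  rf := eq11 (m11 ir (m11 ix ix)) (m11 (m11 ix it) ir) (by decide +kernel)
  rg := eq11 (m11 ir (m11 ix it)) (m11 (m11 (m11 ix ix) (m11 ix it)) ir) (by decide +kernel)

/-! ### Words -/

def gt : ℕ → ℕ
  | 0 => qx
  | 1 => qt
  | 2 => qs
  | _ => qr

noncomputable def ge : ℕ → Spor.M11
  | 0 => ex
  | 1 => et
  | 2 => es
  | _ => er

theorem ig : ∀ i, IsT (ge i) (gt i)
  | 0 => ix
  | 1 => it
  | 2 => is
  | _ + 3 => ir

def wt : List ℕ → ℕ
  | [] => pone
  | i :: w => pcomp (gt i) (wt w)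

noncomputable def we : List ℕ → Spor.M11
  | [] => 1
  | i :: w => ge i * we w

theorem iw : ∀ w, IsT (we w) (wt w)
  | [] => one11
  | i :: w => m11 (ig i) (iw w)

theorem we_mem {K0 : Subgroup Spor.M11} (hx : ex ∈ K0) (ht : et ∈ K0) (hs : es ∈ K0) :
    ∀ w : List ℕ, (w.all fun i => Nat.blt i 3) = true → we w ∈ K0
  | [], _ => K0.one_mem
  | i :: w, h => by
    rw [List.all_cons, Bool.and_eq_true] at h
    refine K0.mul_mem ?_ (we_mem hx ht hs w h.2)
    match i, h.1 with
    | 0, _ => exact hx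
    | 1, _ => exact ht
    | 2, _ => exact hs

/-! ### The action on indices -/

/-- the action on indices -/
def act (g : Spor.M11) (i : ℕ) : ℕ := idx ((g : Equiv.Perm GolayPt) (pt i))

theorem act_lt (g : Spor.M11) (i : ℕ) : act g i < 24 := idx_lt _

theorem act_mul (g h : Spor.M11) (i : ℕ) : act (g * h) i = act g (act h i) := by
  rw [act, act, act, pt_idx]
  rfl

theorem act_one {i : ℕ} (hi : i < 24) : act 1 i = i := idx_pt hi

theorem act_we (w : List ℕ) {i : ℕ} (hi : i < 24) : act (we w) i = papp (wt w) i := by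
  rw [act, iw w, idx_pt hi]

theorem act_inv (g : Spor.M11) {i : ℕ} (hi : i < 24) : act g⁻¹ (act g i) = i := by
  rw [← act_mul, inv_mul_cancel, act_one hi]

theorem act_inj (g : Spor.M11) {i j : ℕ} (hi : i < 24) (hj : j < 24) (h : act g i = act g j) : i = j := by
  rw [← act_inv g hi, h, act_inv g hj]

theorem act_zero (g : Spor.M11) : act g 0 = 0 := by
  have h : (g : Equiv.Perm GolayPt) (some 0) = some 0 := g.2.2
  have h1 : pt 0 = (some 0 : GolayPt) := by decide +kernel
  rw [act, h1, h, ← h1, idx_pt (by norm_num)]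

theorem act_D (g : Spor.M11) {i : ℕ} (hi : i < 24) (h : (340831 : ℕ).testBit i = true) :
    (340831 : ℕ).testBit (act g i) = true := by
  have h1 : pt i ∈ Spor.squareDodecad := by
    rw [squareDodecad_eq, mem_fin, idx_pt hi, h]
  have h2 : (g : Equiv.Perm GolayPt) • Spor.squareDodecad = Spor.squareDodecad := g.2.1.2
  have h3 : (g : Equiv.Perm GolayPt) (pt i) ∈ (g : Equiv.Perm GolayPt) • Spor.squareDodecad :=
    (mem_smul_iff _ _ _).2 h1
  rw [h2, squareDodecad_eq, mem_fin] at h3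
  exact h3

/-- the stabiliser of the point `1` -/
def K : Subgroup Spor.M11 := MulAction.stabilizer Spor.M11 (some 1 : GolayPt)

theorem pt_one : pt 1 = (some 1 : GolayPt) := by decide +kernel

theorem mem_K {g : Spor.M11} : g ∈ K ↔ act g 1 = 1 := by
  have h1 : g ∈ K ↔ (g : Equiv.Perm GolayPt) (some 1) = some 1 := Iff.rfl
  rw [h1, act, pt_one]
  constructor
  · intro h
    rw [h]
    decide +kernel
  · intro h
    apply idx_injective
    rw [h]
    decide +kernel

def W0 : List (List ℕ) := [[], [0, 3], [3], [0, 2, 2, 3], [0, 2, 0, 3], [2, 0, 3], [0, 2, 3], [3, 2, 2, 3],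
  [1, 2, 2, 3], [2, 3], [2, 2, 3]]
def W1 : List (List ℕ) := [[], [0], [2, 0, 2], [0, 2], [2], [0, 2, 0], [0, 2, 2], [2, 2], [2, 0], [1, 2, 2]]
def W2 : List (List ℕ) := [[], [0, 2, 0, 2, 1, 2, 0, 2], [0, 2, 1, 2, 0, 2, 0, 2], [2, 2, 1, 0, 2, 0, 2],
  [0, 2, 2, 0, 2, 2, 0, 2], [0, 2, 0, 1, 2, 0, 2], [2, 0, 0, 0, 2, 0, 2], [2, 2, 0, 2, 0, 2], [2, 0, 2, 0, 2, 2]]
def W3 : List (List ℕ) := [[], [0, 0], [1, 0], [1, 0, 0, 1], [0, 0, 0, 0], [0, 0, 1, 0], [0, 1, 0, 0], [0, 1]]

theorem orb0 : ∀ i < 24, (340831 : ℕ).testBit i = true → i ≠ 0 → ∃ w ∈ W0, papp (wt w) 1 = i := by decide +kernel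

def ck1 (i : ℕ) : Bool := W1.any fun w =>
  (w.all fun i => Nat.blt i 3) && (Nat.beq (papp (wt w) 1) 1 && Nat.beq (papp (wt w) 2) i)
def ck2 (i : ℕ) : Bool := W2.any fun w =>
  (w.all fun i => Nat.blt i 3) && (Nat.beq (papp (wt w) 1) 1 && (Nat.beq (papp (wt w) 2) 2 && Nat.beq (papp (wt w) 3) i))
def ck3 (i : ℕ) : Bool := W3.any fun w =>
  (w.all fun i => Nat.blt i 3) && (Nat.beq (papp (wt w) 1) 1 && (Nat.beq (papp (wt w) 2) 2 &&
    (Nat.beq (papp (wt w) 3) 3 && Nat.beq (papp (wt w) 4) i)))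

theorem orb1 : ∀ i < 24, (340831 : ℕ).testBit i = true → i ≠ 0 → i ≠ 1 →
    ∃ w, (w.all fun i => Nat.blt i 3) = true ∧ papp (wt w) 1 = 1 ∧ papp (wt w) 2 = i := by
  have h : ∀ i < 24, (340831 : ℕ).testBit i = true → i ≠ 0 → i ≠ 1 → ck1 i = true := by decide +kernel
  intro i hi h1 h2 h3
  have h4 := h i hi h1 h2 h3
  rw [ck1, List.any_eq_true] at h4
  obtain ⟨w, -, hw⟩ := h4
  simp only [Bool.and_eq_true, Nat.beq_eq] at hw
  exact ⟨w, hw⟩

theorem orb2 : ∀ i < 24, (340831 : ℕ).testBit i = true → i ≠ 0 → i ≠ 1 → i ≠ 2 →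
    ∃ w, (w.all fun i => Nat.blt i 3) = true ∧ papp (wt w) 1 = 1 ∧ papp (wt w) 2 = 2 ∧ papp (wt w) 3 = i := by
  have h : ∀ i < 24, (340831 : ℕ).testBit i = true → i ≠ 0 → i ≠ 1 → i ≠ 2 → ck2 i = true := by decide +kernel
  intro i hi h1 h2 h3 h3'
  have h4 := h i hi h1 h2 h3 h3'
  rw [ck2, List.any_eq_true] at h4
  obtain ⟨w, -, hw⟩ := h4
  simp only [Bool.and_eq_true, Nat.beq_eq] at hw
  exact ⟨w, hw⟩

theorem orb3 : ∀ i < 24, (340831 : ℕ).testBit i = true → i ≠ 0 → i ≠ 1 → i ≠ 2 → i ≠ 3 →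
    ∃ w, (w.all fun i => Nat.blt i 3) = true ∧ papp (wt w) 1 = 1 ∧ papp (wt w) 2 = 2 ∧ papp (wt w) 3 = 3 ∧
      papp (wt w) 4 = i := by
  have h : ∀ i < 24, (340831 : ℕ).testBit i = true → (i = 0 ∨ i = 1 ∨ i = 2 ∨ i = 3 ∨ ck3 i = true) := by
    decide +kernel
  intro i hi h1 h2 h3 h3' h3''
  have h4 := (((h i hi h1).resolve_left h2).resolve_left h3).resolve_left h3' |>.resolve_left h3''
  rw [ck3, List.any_eq_true] at h4
  obtain ⟨w, -, hw⟩ := h4
  simp only [Bool.and_eq_true, Nat.beq_eq] at hw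
  exact ⟨w, hw⟩

/-- the points `0, 1, 2, 3, 4` -/
def five : Fin 5 ↪ GolayPt := ⟨fun i => pt i, by decide +kernel⟩

theorem sharp {g : Spor.M11} (h1 : act g 1 = 1) (h2 : act g 2 = 2) (h3 : act g 3 = 3) (h4 : act g 4 = 4) : g = 1 := by
  have h0 := act_zero g
  have key := Cfsg.Agent.S0384.result _ squareDodecad_mem five five (by decide +kernel) (by decide +kernel)
  have e := key.unique (y₁ := equiv12.symm ⟨(g : Equiv.Perm GolayPt), g.2.1⟩) (y₂ := 1) (by
    intro i
    apply idx_injective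
    change act g (i : ℕ) = idx (pt (i : ℕ))
    rw [idx_pt (by omega)]
    fin_cases i
    · exact h0
    · exact h1
    · exact h2
    · exact h3
    · exact h4) (fun i => rfl)
  have e2 := congrArg equiv12 e
  rw [MulEquiv.apply_symm_apply, map_one] at e2
  exact Subtype.ext (congrArg (fun x : Spor.M12 => (x : Equiv.Perm GolayPt)) e2)

theorem K_le {K0 : Subgroup Spor.M11} (hx : ex ∈ K0) (ht : et ∈ K0) (hs : es ∈ K0) : K ≤ K0 := by
  intro g hg
  rw [mem_K] at hg
  have n : ∀ (g : Spor.M11) {i j : ℕ}, i < 24 → act g i = i → j < 24 → j ≠ i → act g j ≠ i := by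
    intro g i j hi h hj hne h1
    exact hne (act_inj g hj hi (h1.trans h.symm))
  obtain ⟨w1, m1, a1, a2⟩ := orb1 (act g 2) (act_lt _ _) (act_D g (by norm_num) (by decide))
    (n g (by norm_num) (act_zero g) (by norm_num) (by norm_num)) (n g (by norm_num) hg (by norm_num) (by norm_num))
  rw [← act_we w1 (by norm_num)] at a1 a2
  set g1 := (we w1)⁻¹ * g with hg1
  have b0 := act_zero g1
  have b1 : act g1 1 = 1 := by
    rw [hg1, act_mul, hg]
    nth_rewrite 1 [← a1]
    rw [act_inv _ (by norm_num)]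
  have b2 : act g1 2 = 2 := by
    rw [hg1, act_mul, ← a2, act_inv _ (by norm_num)]
  obtain ⟨w2, m2, c1, c2, c3⟩ := orb2 (act g1 3) (act_lt _ _) (act_D g1 (by norm_num) (by decide))
    (n g1 (by norm_num) b0 (by norm_num) (by norm_num)) (n g1 (by norm_num) b1 (by norm_num) (by norm_num))
    (n g1 (by norm_num) b2 (by norm_num) (by norm_num))
  rw [← act_we w2 (by norm_num)] at c1 c2 c3
  set g2 := (we w2)⁻¹ * g1 with hg2
  have d0 := act_zero g2
  have d1 : act g2 1 = 1 := by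
    rw [hg2, act_mul, b1]
    nth_rewrite 1 [← c1]
    rw [act_inv _ (by norm_num)]
  have d2 : act g2 2 = 2 := by
    rw [hg2, act_mul, b2]
    nth_rewrite 1 [← c2]
    rw [act_inv _ (by norm_num)]
  have d3 : act g2 3 = 3 := by
    rw [hg2, act_mul, ← c3, act_inv _ (by norm_num)]
  obtain ⟨w3, m3, f1, f2, f3, f4⟩ := orb3 (act g2 4) (act_lt _ _) (act_D g2 (by norm_num) (by decide))
    (n g2 (by norm_num) d0 (by norm_num) (by norm_num)) (n g2 (by norm_num) d1 (by norm_num) (by norm_num))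
    (n g2 (by norm_num) d2 (by norm_num) (by norm_num)) (n g2 (by norm_num) d3 (by norm_num) (by norm_num))
  rw [← act_we w3 (by norm_num)] at f1 f2 f3 f4
  have e : (we w3)⁻¹ * g2 = 1 := by
    apply sharp
    · rw [act_mul, d1]
      nth_rewrite 1 [← f1]
      rw [act_inv _ (by norm_num)]
    · rw [act_mul, d2]
      nth_rewrite 1 [← f2]
      rw [act_inv _ (by norm_num)]
    · rw [act_mul, d3]
      nth_rewrite 1 [← f3]
      rw [act_inv _ (by norm_num)]
    · rw [act_mul, ← f4, act_inv _ (by norm_num)]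
  have e2 : g = we w1 * (we w2 * we w3) := by
    rw [inv_mul_eq_one] at e
    rw [e, hg2, hg1]
    group
  rw [e2]
  exact K0.mul_mem (we_mem hx ht hs _ m1) (K0.mul_mem (we_mem hx ht hs _ m2) (we_mem hx ht hs _ m3))

theorem index_K : K.index = 11 := by
  have h1 : MulAction.orbit Spor.M11 (some 1 : GolayPt) = (fin 340830 : Set GolayPt) := by
    ext p
    rw [Finset.mem_coe, mem_fin]
    constructor
    · rintro ⟨g, rfl⟩
      have h2 : act g 1 = idx ((g : Equiv.Perm GolayPt) (some 1)) := by rw [act, pt_one]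
      change (340830 : ℕ).testBit (idx ((g : Equiv.Perm GolayPt) (some 1))) = true
      rw [← h2]
      have h3 := act_D g (i := 1) (by norm_num) (by decide)
      have h4 : act g 1 ≠ 0 := by
        intro h
        exact absurd (act_inj g (by norm_num) (by norm_num) (h.trans (act_zero g).symm)) (by norm_num)
      have h5 : ∀ i < 24, (340831 : ℕ).testBit i = true → i ≠ 0 → (340830 : ℕ).testBit i = true := by decide
      exact h5 _ (act_lt _ _) h3 h4
    · intro hp
      have h5 : ∀ i < 24, (340830 : ℕ).testBit i = true → (340831 : ℕ).testBit i = true ∧ i ≠ 0 := by decide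
      obtain ⟨h6, h7⟩ := h5 _ (idx_lt p) hp
      obtain ⟨w, -, hw⟩ := orb0 _ (idx_lt p) h6 h7
      refine ⟨we w, ?_⟩
      apply idx_injective
      rw [← hw, ← act_we w (by norm_num), act, pt_one]
      rfl
  rw [K, MulAction.index_stabilizer, h1, Set.ncard_coe_finset]
  decide +kernel

theorem double_K {g g' : Spor.M11} (hg : g ∉ K) (hg' : g' ∉ K) : ∃ k ∈ K, ∃ k' ∈ K, g' = k * g * k' := by
  rw [mem_K] at hg hg'
  have n : ∀ g : Spor.M11, act g 1 ≠ 0 := by
    intro g h
    exact absurd (act_inj g (by norm_num) (by norm_num) (h.trans (act_zero g).symm)) (by norm_num)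
  obtain ⟨w, m, a1, a2⟩ := orb1 (act g 1) (act_lt _ _) (act_D g (by norm_num) (by decide)) (n g) hg
  obtain ⟨w', m', a1', a2'⟩ := orb1 (act g' 1) (act_lt _ _) (act_D g' (by norm_num) (by decide)) (n g') hg'
  rw [← act_we _ (by norm_num)] at a1 a2 a1' a2'
  refine ⟨we w' * (we w)⁻¹, K.mul_mem (mem_K.2 a1') (K.inv_mem (mem_K.2 a1)),
    (we w' * (we w)⁻¹ * g)⁻¹ * g', ?_, by group⟩
  have h1 : act (we w' * (we w)⁻¹ * g) 1 = act g' 1 := by
    rw [act_mul, act_mul, ← a2, act_inv _ (by norm_num), a2']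
  rw [mem_K, act_mul, ← h1, act_inv _ (by norm_num)]

theorem er_not_mem : er ∉ K := by
  rw [mem_K, act, ir, idx_pt (by norm_num)]
  decide +kernel

end Cfsg.Agent.H926.MTh
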