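import Mathlib

/-!
# Isometries of order eleven normalised by an element of order five, in dimension ten

`X` of order `11`, `Y X = X³ Y`, on a `10`-dimensional quadratic space over a finite field in which
`η² + η + 3 = 0` is solvable (i.e. `|F|` is a square modulo `11`): there is a totally isotropic subspace of dimension `5`.
-/

set_option autoImplicit false

namespace Cfsg.Agent.H926.OEl

open Module Polynomial

section eta

variable {F : Type*} [Field F] [Finite F]

theorem exists_of_pow_card_eq {K : Type*} [Field K] (i : F →+* K) {x : K}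
    (hx : x ^ Nat.card F = x) : ∃ a : F, x = i a := by
  let _ : Fintype F := Fintype.ofFinite F
  rw [Nat.card_eq_fintype_card] at hx
  have hdeg : (Polynomial.X ^ Fintype.card F - Polynomial.X : Polynomial F).natDegree = Fintype.card F :=
    FiniteField.X_pow_card_sub_X_natDegree_eq F Fintype.one_lt_card
  have hmon : (Polynomial.X ^ Fintype.card F - Polynomial.X : Polynomial F).Monic :=
    Polynomial.monic_X_pow_sub (by rw [Polynomial.degree_X]; exact_mod_cast Fintype.one_lt_card)
  have h1 : (Polynomial.X ^ Fintype.card F - Polynomial.X : Polynomial F) =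
      ∏ a : F, (Polynomial.X - Polynomial.C a) := by
    have h3 := Polynomial.prod_multiset_X_sub_C_of_monic_of_roots_card_eq hmon (by
      rw [FiniteField.roots_X_pow_card_sub_X, hdeg]
      rfl)
    rw [FiniteField.roots_X_pow_card_sub_X] at h3
    exact h3.symm
  have h2 : Polynomial.eval₂ i x (Polynomial.X ^ Fintype.card F - Polynomial.X) = 0 := by
    rw [Polynomial.eval₂_sub, Polynomial.eval₂_pow, Polynomial.eval₂_X, hx, sub_self]
  rw [h1, Polynomial.eval₂_finsetProd, Finset.prod_eq_zero_iff] at h2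
  obtain ⟨a, -, ha⟩ := h2
  rw [Polynomial.eval₂_sub, Polynomial.eval₂_X, Polynomial.eval₂_C, sub_eq_zero] at ha
  exact ⟨a, ha⟩

/-- The Gauss period of a primitive eleventh root of unity. -/
theorem exists_eta (h11 : (11 : F) ≠ 0)
    (hq : Nat.card F % 11 = 1 ∨ Nat.card F % 11 = 3 ∨ Nat.card F % 11 = 4 ∨ Nat.card F % 11 = 5 ∨
      Nat.card F % 11 = 9) : ∃ η : F, η ^ 2 + η + 3 = 0 := by
  let _ : Fintype F := Fintype.ofFinite F
  let K := AlgebraicClosure F
  have hK : ((11 : ℕ) : K) ≠ 0 := by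
    intro h
    apply h11
    have h1 : algebraMap F K 11 = 0 := by
      rw [map_ofNat]; exact_mod_cast h
    exact (map_eq_zero _).1 h1
  have : NeZero ((11 : ℕ) : K) := ⟨hK⟩
  obtain ⟨ζ, hζ⟩ := HasEnoughRootsOfUnity.exists_primitiveRoot K 11
  have hζ11 : ζ ^ 11 = 1 := hζ.pow_eq_one
  have hsum : 1 + ζ + ζ ^ 2 + ζ ^ 3 + ζ ^ 4 + ζ ^ 5 + ζ ^ 6 + ζ ^ 7 + ζ ^ 8 + ζ ^ 9 + ζ ^ 10 = 0 := by
    have h1 := hζ.geom_sum_eq_zero (by norm_num)
    rw [← h1]
    simp only [Finset.sum_range_succ, Finset.sum_range_zero]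
    ring
  set η := ζ + ζ ^ 3 + ζ ^ 4 + ζ ^ 5 + ζ ^ 9 with hη
  have hη2 : η ^ 2 + η + 3 = 0 := by
    rw [hη]
    linear_combination (3 : K) * hsum + (2 * ζ + 2 * ζ ^ 2 + 2 * ζ ^ 3 + ζ ^ 7) * hζ11
  have hfrob : η ^ Nat.card F = η := by
    let f : K →ₐ[F] K := FiniteField.frobeniusAlgHom F K
    have hf : ∀ a : K, f a = a ^ Fintype.card F := fun a => rfl
    rw [Nat.card_eq_fintype_card] at hq ⊢
    rw [← hf]
    have hfζ : f ζ = ζ ^ (Fintype.card F % 11) := by
      rw [hf]
      conv_lhs => rw [← Nat.div_add_mod (Fintype.card F) 11, pow_add, pow_mul, hζ11, one_pow, one_mul]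
    have hred : ∀ m : ℕ, ζ ^ m = ζ ^ (m % 11) := by
      intro m
      conv_lhs => rw [← Nat.div_add_mod m 11, pow_add, pow_mul, hζ11, one_pow, one_mul]
    rw [hη]
    simp only [map_add, map_pow, hfζ]
    rcases hq with h | h | h | h | h <;> rw [h] <;> simp only [← pow_mul]
    · norm_num
    · rw [hred (3 * 3), hred (3 * 4), hred (3 * 5), hred (3 * 9)]; norm_num; ring
    · rw [hred (4 * 3), hred (4 * 4), hred (4 * 5), hred (4 * 9)]; norm_num; ring
    · rw [hred (5 * 3), hred (5 * 4), hred (5 * 5), hred (5 * 9)]; norm_num; ring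
    · rw [hred (9 * 3), hred (9 * 4), hred (9 * 5), hred (9 * 9)]; norm_num; ring
  obtain ⟨a, ha⟩ := exists_of_pow_card_eq (algebraMap F K) hfrob
  refine ⟨a, (algebraMap F K).injective ?_⟩
  rw [map_add, map_add, map_pow, ← ha, map_zero, map_ofNat]
  exact hη2

end eta

section five

variable {F : Type*} [Field F] {V : Type*} [AddCommGroup V] [Module F V] [FiniteDimensional F V]

/-- A subspace invariant under `X` of order eleven without fixed vectors and under `Y`, `Y X = X³ Y`, has dimension at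
least `5`. -/
theorem five_le {X Y : Module.End F V} (hY : Function.Injective Y)
    (hYX : Y * X = X ^ 3 * Y) (hX11 : X ^ 11 = 1) {W : Submodule F V} (hW0 : W ≠ ⊥)
    (hXW : ∀ w ∈ W, X w ∈ W) (hYW : ∀ w ∈ W, Y w ∈ W) (hfix : ∀ w ∈ W, X w = w → w = 0) :
    5 ≤ finrank F W := by
  classical
  let x : Module.End F W := X.restrict hXW
  let y : Module.End F W := Y.restrict hYW
  have hx : ∀ w : W, ((x w : W) : V) = X w := fun w => rfl
  have hy : ∀ w : W, ((y w : W) : V) = Y w := fun w => rfl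
  have hxpow : ∀ (k : ℕ) (w : W), (((x ^ k) w : W) : V) = (X ^ k) w := by
    intro k
    induction k with
    | zero => intro w; rfl
    | succ k ih =>
      intro w
      rw [pow_succ, pow_succ, Module.End.mul_apply, Module.End.mul_apply, ih, hx]
  have hyx : y * x = x ^ 3 * y := by
    ext w
    rw [Module.End.mul_apply, Module.End.mul_apply, hxpow, hy, hx, hy]
    exact LinearMap.congr_fun hYX (w : V)
  have hyinj : Function.Injective y := by
    intro u v huv
    apply Subtype.ext
    apply hY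
    rw [← hy, ← hy, huv]
  have hysurj : Function.Surjective y := LinearMap.injective_iff_surjective.1 hyinj
  have hx11 : x ^ 11 = 1 := by
    ext w
    rw [hxpow, hX11]; rfl
  have hyp : ∀ p : F[X], y * aeval x p = aeval (x ^ 3) p * y := by
    intro p
    induction p using Polynomial.induction_on' with
    | add p q hp hq => rw [map_add, map_add, mul_add, add_mul, hp, hq]
    | monomial k a =>
      have h1 : ∀ k : ℕ, y * x ^ k = (x ^ 3) ^ k * y := by
        intro k
        induction k with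
        | zero => simp
        | succ k ih => rw [pow_succ, ← mul_assoc, ih, mul_assoc, hyx, ← mul_assoc, pow_succ (x ^ 3)]
      rw [aeval_monomial, aeval_monomial, ← mul_assoc, ← Algebra.commutes, mul_assoc, h1, mul_assoc]
  set m := minpoly F x with hm
  have hmx : aeval x m = 0 := minpoly.aeval F x
  have hm3 : aeval (x ^ 3) m = 0 := by
    have h1 := hyp m
    rw [hmx, mul_zero] at h1
    ext w
    obtain ⟨u, rfl⟩ := hysurj w
    have h2 := LinearMap.congr_fun h1 u
    rw [Module.End.mul_apply] at h2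
    rw [← h2]
    rfl
  have hdvd : m ∣ m.comp (Polynomial.X ^ 3) := by
    apply minpoly.dvd
    rw [aeval_comp, map_pow, aeval_X]
    exact hm3
  have hdvd11 : m ∣ Polynomial.X ^ 11 - 1 := by
    apply minpoly.dvd
    rw [map_sub, map_pow, aeval_X, map_one, hx11, sub_self]
  have hint : IsIntegral F x := Algebra.IsIntegral.isIntegral x
  have : Nontrivial W := Submodule.nontrivial_iff_ne_bot.2 hW0
  have hdeg : m.degree ≠ 0 := (minpoly.degree_pos hint).ne'
  let K := AlgebraicClosure F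
  obtain ⟨ρ, hρ⟩ := IsAlgClosed.exists_aeval_eq_zero K m hdeg
  have hstep : ∀ τ : K, aeval τ m = 0 → aeval (τ ^ 3) m = 0 := by
    intro τ hτ
    obtain ⟨g, hg⟩ := hdvd
    have h1 := congrArg (aeval τ) hg
    rw [map_mul, hτ, zero_mul, aeval_comp, map_pow, aeval_X] at h1
    exact h1
  have hρ11 : ρ ^ 11 = 1 := by
    obtain ⟨g, hg⟩ := hdvd11
    have h1 := congrArg (aeval ρ) hg
    rw [map_mul, hρ, zero_mul, map_sub, map_pow, aeval_X, map_one, sub_eq_zero] at h1
    exact h1
  have hρ1 : ρ ≠ 1 := by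
    rintro rfl
    have h1 : m.IsRoot 1 := by
      have h2 : algebraMap F K (m.eval 1) = 0 := by
        rw [← Polynomial.aeval_algebraMap_apply_eq_algebraMap_eval, map_one]
        exact hρ
      exact (map_eq_zero _).1 h2
    obtain ⟨g, hg⟩ := Polynomial.dvd_iff_isRoot.2 h1
    have hg0 : g ≠ 0 := by
      rintro rfl
      rw [mul_zero] at hg
      exact (minpoly.ne_zero hint) hg
    have h3 : aeval x g ≠ 0 := by
      intro h4
      have h5 := minpoly.degree_le_of_ne_zero F x hg0 h4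
      rw [← hm, hg, Polynomial.degree_mul, Polynomial.degree_X_sub_C] at h5
      have h6 : g.degree = (g.natDegree : WithBot ℕ) := Polynomial.degree_eq_natDegree hg0
      rw [h6] at h5
      have h7 : 1 + g.natDegree ≤ g.natDegree := by exact_mod_cast h5
      omega
    obtain ⟨w, hw⟩ : ∃ w, aeval x g w ≠ 0 := by
      by_contra hcon
      push Not at hcon
      exact h3 (LinearMap.ext hcon)
    have h4 : (x - 1) (aeval x g w) = 0 := by
      have h5 : aeval x m = (x - 1) * aeval x g := by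
        rw [hg, map_mul, map_sub, aeval_X, aeval_C, map_one]
      rw [hmx] at h5
      have h6 := LinearMap.congr_fun h5 w
      exact h6.symm
    have h5 : X ((aeval x g w : W) : V) = ((aeval x g w : W) : V) := by
      rw [← hx]
      congr 1
      rw [← sub_eq_zero]
      exact h4
    exact hw (Subtype.ext (hfix _ (aeval x g w).2 h5))
  have hord : orderOf ρ = 11 := orderOf_eq_prime hρ11 hρ1 (hp := ⟨by norm_num⟩)
  have hroots : ∀ k ∈ ({1, 3, 4, 5, 9} : Finset ℕ), aeval (ρ ^ k) m = 0 := by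
    have h3 := hstep ρ hρ
    have h9 := hstep _ h3
    have h27 := hstep _ h9
    have h81 := hstep _ h27
    rw [← pow_mul] at h9 h27 h81
    rw [← pow_mul] at h27 h81
    rw [← pow_mul] at h81
    have hred : ∀ m : ℕ, ρ ^ m = ρ ^ (m % 11) := by
      intro m
      conv_lhs => rw [← Nat.div_add_mod m 11, pow_add, pow_mul, hρ11, one_pow, one_mul]
    norm_num at h9 h27 h81
    rw [hred 27] at h27
    rw [hred 81] at h81
    norm_num at h27 h81
    intro k hk
    simp only [Finset.mem_insert, Finset.mem_singleton] at hk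
    rcases hk with rfl | rfl | rfl | rfl | rfl
    · rw [pow_one]; exact hρ
    · exact h3
    · exact h81
    · exact h27
    · exact h9
  have hcard : 5 ≤ (m.aroots K).toFinset.card := by
    have h1 : (({1, 3, 4, 5, 9} : Finset ℕ).image fun k => ρ ^ k).card = 5 := by
      rw [Finset.card_image_of_injOn]
      · rfl
      · intro a ha b hb hab
        simp only [Finset.coe_insert, Finset.coe_singleton, Set.mem_insert_iff,
          Set.mem_singleton_iff] at ha hb
        have h2 : IsPrimitiveRoot ρ 11 := by rw [← hord]; exact IsPrimitiveRoot.orderOf ρ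
        exact h2.pow_inj (by omega) (by omega) hab
    rw [← h1]
    apply Finset.card_le_card
    intro τ hτ
    obtain ⟨k, hk, rfl⟩ := Finset.mem_image.1 hτ
    rw [Multiset.mem_toFinset, mem_aroots]
    exact ⟨minpoly.ne_zero hint, hroots k hk⟩
  calc 5 ≤ (m.aroots K).toFinset.card := hcard
    _ ≤ Multiset.card (m.aroots K) := Multiset.toFinset_card_le _
    _ ≤ (m.map (algebraMap F K)).natDegree := card_roots' _
    _ = m.natDegree := natDegree_map _
    _ ≤ (LinearMap.charpoly x).natDegree :=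
        natDegree_le_of_dvd (LinearMap.minpoly_dvd_charpoly x) (LinearMap.charpoly_monic x).ne_zero
    _ = finrank F W := LinearMap.charpoly_natDegree x

end five

section iso

variable {F : Type*} [Field F] {V : Type*} [AddCommGroup V] [Module F V] [FiniteDimensional F V]

/-- The eigenspace of the two period elements. -/
def Wp (X : Module.End F V) (η : F) : Submodule F V :=
  LinearMap.ker (X + X ^ 3 + X ^ 4 + X ^ 5 + X ^ 9 - η • (1 : Module.End F V)) ⊓
    LinearMap.ker (X ^ 2 + X ^ 6 + X ^ 7 + X ^ 8 + X ^ 10 - (-1 - η) • (1 : Module.End F V))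

theorem mem_Wp {X : Module.End F V} {η : F} {v : V} : v ∈ Wp X η ↔
    (X + X ^ 3 + X ^ 4 + X ^ 5 + X ^ 9) v = η • v ∧
      (X ^ 2 + X ^ 6 + X ^ 7 + X ^ 8 + X ^ 10) v = (-1 - η) • v := by
  rw [Wp, Submodule.mem_inf, LinearMap.mem_ker, LinearMap.mem_ker, LinearMap.sub_apply,
    LinearMap.sub_apply, sub_eq_zero, sub_eq_zero]
  rfl

theorem Wp_X {X : Module.End F V} {η : F} {v : V} (hv : v ∈ Wp X η) : X v ∈ Wp X η := by
  obtain ⟨h1, h2⟩ := mem_Wp.1 hv
  rw [mem_Wp]
  constructor
  · rw [← map_smul, ← h1, ← Module.End.mul_apply, ← Module.End.mul_apply]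
    congr 1
    noncomm_ring
  · rw [← map_smul, ← h2, ← Module.End.mul_apply, ← Module.End.mul_apply]
    congr 1
    noncomm_ring

/-- The idempotent relations. -/
theorem Wp_proj {X : Module.End F V} (hX11 : X ^ 11 = 1) {η : F} (hη : η ^ 2 + η + 3 = 0) (v : V) :
    (5 : F) • v + (-1 - η) • (X + X ^ 3 + X ^ 4 + X ^ 5 + X ^ 9) v +
      η • (X ^ 2 + X ^ 6 + X ^ 7 + X ^ 8 + X ^ 10) v ∈ Wp X η := by
  let T : F[X] := Polynomial.X
  let AS : F[X] := T + T ^ 3 + T ^ 4 + T ^ 5 + T ^ 9
  let AN : F[X] := T ^ 2 + T ^ 6 + T ^ 7 + T ^ 8 + T ^ 10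
  let E : F[X] := C 5 + C (-1 - η) * AS + C η * AN
  have hC : (C η : F[X]) ^ 2 + C η + 3 = 0 := by
    have := congrArg (C : F →+* F[X]) hη
    rw [map_add, map_add, map_pow, map_ofNat, map_zero] at this
    exact this
  have e1 : (AS - C η) * E = (T ^ 11 - 1) *
      (C (-1 - η) * (2 * T + 2 * T ^ 2 + 2 * T ^ 3 + T ^ 7) +
        C η * (5 + 2 * T + 2 * T ^ 2 + T ^ 3 + 2 * T ^ 4 + T ^ 5 + T ^ 6 + T ^ 8)) := by
    simp only [AS, AN, E, map_sub, map_neg, map_one, map_ofNat]
    linear_combination (T + T ^ 3 + T ^ 4 + T ^ 5 + T ^ 9 - (T ^ 2 + T ^ 6 + T ^ 7 + T ^ 8 + T ^ 10)) * hC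
  have e2 : (AN - C (-1 - η)) * E = (T ^ 11 - 1) *
      (C (-1 - η) * (5 + 2 * T + 2 * T ^ 2 + T ^ 3 + 2 * T ^ 4 + T ^ 5 + T ^ 6 + T ^ 8) +
        C η * (3 * T + 2 * T ^ 2 + 3 * T ^ 3 + 2 * T ^ 4 + 3 * T ^ 5 + 2 * T ^ 6 + 2 * T ^ 7 + T ^ 9)) := by
    simp only [AS, AN, E, map_sub, map_neg, map_one, map_ofNat]
    linear_combination (T ^ 2 + T ^ 6 + T ^ 7 + T ^ 8 + T ^ 10 - (T + T ^ 3 + T ^ 4 + T ^ 5 + T ^ 9)) * hC
  have hT : aeval X T = X := aeval_X X
  have hAS : aeval X AS = X + X ^ 3 + X ^ 4 + X ^ 5 + X ^ 9 := by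
    simp only [AS, map_add, map_pow, hT]
  have hAN : aeval X AN = X ^ 2 + X ^ 6 + X ^ 7 + X ^ 8 + X ^ 10 := by
    simp only [AN, map_add, map_pow, hT]
  have hE : aeval X E v = (5 : F) • v + (-1 - η) • (X + X ^ 3 + X ^ 4 + X ^ 5 + X ^ 9) v +
      η • (X ^ 2 + X ^ 6 + X ^ 7 + X ^ 8 + X ^ 10) v := by
    simp only [E, map_add, map_mul, hAS, hAN, aeval_C, Algebra.algebraMap_eq_smul_one, smul_one_mul]
    rfl
  have h11 : aeval X (T ^ 11 - 1) = 0 := by
    rw [map_sub, map_pow, hT, hX11, map_one, sub_self]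
  rw [← hE, mem_Wp, ← hAS, ← hAN]
  constructor
  · have h1 := congrArg (fun p => aeval X p v) e1
    simp only [map_mul, h11, zero_mul] at h1
    rw [map_sub, aeval_C, Algebra.algebraMap_eq_smul_one] at h1
    exact sub_eq_zero.1 h1
  · have h1 := congrArg (fun p => aeval X p v) e2
    simp only [map_mul, h11, zero_mul] at h1
    rw [map_sub, aeval_C, Algebra.algebraMap_eq_smul_one] at h1
    exact sub_eq_zero.1 h1

theorem b_pow {X : Module.End F V} {b : LinearMap.BilinForm F V} (hb : ∀ u v, b (X u) (X v) = b u v)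
    (hX11 : X ^ 11 = 1) {k : ℕ} (hk : k ≤ 11) (u v : V) : b ((X ^ k) u) v = b u ((X ^ (11 - k)) v) := by
  have h1 : ∀ (k : ℕ) (u v : V), b ((X ^ k) u) ((X ^ k) v) = b u v := by
    intro k
    induction k with
    | zero => intro u v; rfl
    | succ k ih =>
      intro u v
      rw [pow_succ', Module.End.mul_apply, Module.End.mul_apply, hb, ih]
  rw [← h1 k u ((X ^ (11 - k)) v), ← Module.End.mul_apply, ← pow_add, Nat.add_sub_cancel' hk, hX11]
  rfl

theorem b_AS {X : Module.End F V} {b : LinearMap.BilinForm F V} (hb : ∀ u v, b (X u) (X v) = b u v)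
    (hX11 : X ^ 11 = 1) (u v : V) : b ((X + X ^ 3 + X ^ 4 + X ^ 5 + X ^ 9) u) v =
      b u ((X ^ 2 + X ^ 6 + X ^ 7 + X ^ 8 + X ^ 10) v) := by
  have h1 := b_pow hb hX11 (k := 1) (by norm_num) u v
  have h3 := b_pow hb hX11 (k := 3) (by norm_num) u v
  have h4 := b_pow hb hX11 (k := 4) (by norm_num) u v
  have h5 := b_pow hb hX11 (k := 5) (by norm_num) u v
  have h9 := b_pow hb hX11 (k := 9) (by norm_num) u v
  rw [pow_one] at h1
  simp only [LinearMap.add_apply, map_add, h1, h3, h4, h5, h9]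
  ring

theorem b_AN {X : Module.End F V} {b : LinearMap.BilinForm F V} (hb : ∀ u v, b (X u) (X v) = b u v)
    (hX11 : X ^ 11 = 1) (u v : V) : b ((X ^ 2 + X ^ 6 + X ^ 7 + X ^ 8 + X ^ 10) u) v =
      b u ((X + X ^ 3 + X ^ 4 + X ^ 5 + X ^ 9) v) := by
  have h1 := b_pow hb hX11 (k := 2) (by norm_num) u v
  have h3 := b_pow hb hX11 (k := 6) (by norm_num) u v
  have h4 := b_pow hb hX11 (k := 7) (by norm_num) u v
  have h5 := b_pow hb hX11 (k := 8) (by norm_num) u v
  have h9 := b_pow hb hX11 (k := 10) (by norm_num) u v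
  simp only [LinearMap.add_apply, map_add, h1, h3, h4, h5, h9]
  norm_num
  ring

theorem isotropic {X : Module.End F V} {b : LinearMap.BilinForm F V} (hb : ∀ u v, b (X u) (X v) = b u v)
    (hX11 : X ^ 11 = 1) (h11 : (11 : F) ≠ 0) {η : F} (hη : η ^ 2 + η + 3 = 0) {u w : V}
    (hu : u ∈ Wp X η) (hw : w ∈ Wp X η) : b u w = 0 := by
  have h1 := b_AS hb hX11 u w
  rw [(mem_Wp.1 hu).1, (mem_Wp.1 hw).2, map_smul, LinearMap.smul_apply, map_smul, smul_eq_mul,
    smul_eq_mul] at h1
  have h2 : (2 * η + 1) * b u w = 0 := by linear_combination h1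
  rcases mul_eq_zero.1 h2 with h3 | h3
  · exfalso
    apply h11
    linear_combination 4 * hη - (2 * η + 1) * h3
  · exact h3

theorem fixed_perp {X : Module.End F V} {b : LinearMap.BilinForm F V} (hb : ∀ u v, b (X u) (X v) = b u v)
    (hX11 : X ^ 11 = 1) (h11 : (11 : F) ≠ 0) {η : F} {u w : V}
    (hu : X u = u) (hw : w ∈ Wp X η) : b u w = 0 := by
  have hpow : ∀ k : ℕ, (X ^ k) u = u := by
    intro k
    induction k with
    | zero => rfl
    | succ k ih => rw [pow_succ', Module.End.mul_apply, ih, hu]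
  have h1 := b_AS hb hX11 u w
  have h2 := b_AN hb hX11 u w
  simp only [LinearMap.add_apply, hpow, hu, map_add] at h1 h2
  have h3 := (mem_Wp.1 hw).1
  have h4 := (mem_Wp.1 hw).2
  have h5 := congrArg (b u) h3
  have h6 := congrArg (b u) h4
  simp only [LinearMap.add_apply, map_add, map_smul, smul_eq_mul] at h5 h6
  have h7 : 11 * b u w = 0 := by linear_combination h1 + h2 + h5 + h6
  exact (mul_eq_zero.1 h7).resolve_left h11

/-- **The structure of an isometry of order eleven, normalised by an element of order five, in dimension ten.** -/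
theorem main {X Y : Module.End F V} {b : LinearMap.BilinForm F V} (hb : ∀ u v, b (X u) (X v) = b u v)
    (hsymm : ∀ u v, b u v = b v u) (hnd : ∀ u, (∀ w, b u w = 0) → u = 0) (hX11 : X ^ 11 = 1) (hX1 : X ≠ 1)
    (h11 : (11 : F) ≠ 0) {η : F} (hη : η ^ 2 + η + 3 = 0) (hY : Function.Injective Y)
    (hYX : Y * X = X ^ 3 * Y) (hdim : finrank F V = 10) :
    finrank F (Wp X η) = 5 ∧ (∀ u ∈ Wp X η, ∀ w ∈ Wp X η, b u w = 0) ∧ ∀ u, X u = u → u = 0 := by
  have hη' : (-1 - η) ^ 2 + (-1 - η) + 3 = 0 := by linear_combination hη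
  have hYk : ∀ k : ℕ, Y * X ^ k = X ^ (3 * k) * Y := by
    intro k
    induction k with
    | zero => simp
    | succ k ih =>
      rw [pow_succ, ← mul_assoc, ih, mul_assoc, hYX, ← mul_assoc, ← pow_add]
      rfl
  have hred : ∀ m : ℕ, X ^ m = X ^ (m % 11) := by
    intro m
    conv_lhs => rw [← Nat.div_add_mod m 11, pow_add, pow_mul, hX11, one_pow, one_mul]
  have hYW : ∀ η : F, ∀ v ∈ Wp X η, Y v ∈ Wp X η := by
    intro η v hv
    obtain ⟨h1, h2⟩ := mem_Wp.1 hv
    have hS : (X + X ^ 3 + X ^ 4 + X ^ 5 + X ^ 9) * Y = Y * (X + X ^ 3 + X ^ 4 + X ^ 5 + X ^ 9) := by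
      have k1 := hYk 1
      have k3 := hYk 3
      have k4 := hYk 4
      have k5 := hYk 5
      have k9 := hYk 9
      rw [hred (3 * 1)] at k1
      rw [hred (3 * 3)] at k3
      rw [hred (3 * 4)] at k4
      rw [hred (3 * 5)] at k5
      rw [hred (3 * 9)] at k9
      norm_num at k1 k3 k4 k5 k9
      simp only [mul_add, add_mul, k1, k3, k4, k5, k9]
      abel
    have hN : (X ^ 2 + X ^ 6 + X ^ 7 + X ^ 8 + X ^ 10) * Y =
        Y * (X ^ 2 + X ^ 6 + X ^ 7 + X ^ 8 + X ^ 10) := by
      have k1 := hYk 2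
      have k3 := hYk 6
      have k4 := hYk 7
      have k5 := hYk 8
      have k9 := hYk 10
      rw [hred (3 * 2)] at k1
      rw [hred (3 * 6)] at k3
      rw [hred (3 * 7)] at k4
      rw [hred (3 * 8)] at k5
      rw [hred (3 * 10)] at k9
      norm_num at k1 k3 k4 k5 k9
      simp only [mul_add, add_mul, k1, k3, k4, k5, k9]
      abel
    rw [mem_Wp]
    constructor
    · rw [← Module.End.mul_apply, hS, Module.End.mul_apply, h1, map_smul]
    · rw [← Module.End.mul_apply, hN, Module.End.mul_apply, h2, map_smul]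
  have hfixW : ∀ η : F, ∀ w ∈ Wp X η, X w = w → w = 0 := by
    intro η w hw hXw
    apply hnd
    have hpow : ∀ k : ℕ, (X ^ k) w = w := by
      intro k
      induction k with
      | zero => rfl
      | succ k ih => rw [pow_succ', Module.End.mul_apply, ih, hXw]
    obtain ⟨h1, h2⟩ := mem_Wp.1 hw
    simp only [LinearMap.add_apply, hpow, hXw] at h1 h2
    have h3 : (11 : F) • w = 0 := by linear_combination (norm := module) h1 + h2
    have h4 : w = 0 := (smul_eq_zero.1 h3).resolve_left h11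
    intro z
    rw [h4, map_zero, LinearMap.zero_apply]
  have hne : ∀ η : F, η ^ 2 + η + 3 = 0 → Wp X η ≠ ⊥ := by
    intro η hη h0
    have hη' : (-1 - η) ^ 2 + (-1 - η) + 3 = 0 := by linear_combination hη
    apply hX1
    have hp : ∀ v, (5 : F) • v + (-1 - η) • (X + X ^ 3 + X ^ 4 + X ^ 5 + X ^ 9) v +
      η • (X ^ 2 + X ^ 6 + X ^ 7 + X ^ 8 + X ^ 10) v = 0 := by
      intro v
      have := Wp_proj hX11 hη v
      rw [h0, Submodule.mem_bot] at this
      exact this
    set AS := X + X ^ 3 + X ^ 4 + X ^ 5 + X ^ 9 with hAS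
    set AN := X ^ 2 + X ^ 6 + X ^ 7 + X ^ 8 + X ^ 10 with hAN
    -- the other projection
    have hq : ∀ v, (5 : F) • v + (-1 - (-1 - η)) • AS v + (-1 - η) • AN v ∈ Wp X (-1 - η) :=
      fun v => Wp_proj hX11 hη' v
    have hJ : ∀ v, X (v + AS v + AN v) = v + AS v + AN v := by
      intro v
      have h1 : X * (1 + AS + AN) = 1 + AS + AN := by
        have h2 : X * (1 + AS + AN) = AS + AN + X ^ 11 := by
          rw [hAS, hAN]; noncomm_ring
        rw [h2, hX11]; abel
      exact LinearMap.congr_fun h1 v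
    have hsum : ∀ v, (11 : F) • v = ((5 : F) • v + (-1 - (-1 - η)) • AS v + (-1 - η) • AN v) +
        (v + AS v + AN v) := by
      intro v
      have h1 := hp v
      have h2 : (11 : F) • v = ((5 : F) • v + (-1 - (-1 - η)) • AS v + (-1 - η) • AN v) +
        (v + AS v + AN v) + ((5 : F) • v + (-1 - η) • AS v + η • AN v) := by module
      rw [h1, add_zero] at h2
      exact h2
    have hzero : ∀ v, (5 : F) • v + (-1 - (-1 - η)) • AS v + (-1 - η) • AN v = 0 := by
      intro v
      apply hnd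
      intro z
      have h1 : (11 : F) * b ((5 : F) • v + (-1 - (-1 - η)) • AS v + (-1 - η) • AN v) z = 0 := by
        rw [← smul_eq_mul, ← map_smul, hsum z, map_add, isotropic hb hX11 h11 hη' (hq v) (hq z), zero_add]
        rw [hsymm]
        exact fixed_perp hb hX11 h11 (hJ z) (hq v)
      exact (mul_eq_zero.1 h1).resolve_left h11
    ext v
    have h1 := hsum v
    rw [hzero, zero_add] at h1
    have h2 := hJ v
    rw [← h1, map_smul] at h2
    have h3 := smul_right_injective V h11 h2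
    exact h3
  have h5 : ∀ η : F, η ^ 2 + η + 3 = 0 → 5 ≤ finrank F (Wp X η) := by
    intro η hη
    exact five_le hY hYX hX11 (hne η hη) (fun w hw => Wp_X hw) (hYW η) (hfixW η)
  have hdisj : Disjoint (Wp X η) (Wp X (-1 - η)) := by
    rw [Submodule.disjoint_def]
    intro w hw hw'
    have h1 := (mem_Wp.1 hw).1
    rw [(mem_Wp.1 hw').1, ← sub_eq_zero, ← sub_smul] at h1
    refine (smul_eq_zero.1 h1).resolve_left fun h2 => h11 ?_
    linear_combination 4 * hη + (2 * η + 1) * h2
  have hsup := Submodule.finrank_sup_add_finrank_inf_eq (Wp X η) (Wp X (-1 - η))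
  rw [hdisj.eq_bot, finrank_bot, add_zero] at hsup
  have hle : finrank F ↥(Wp X η ⊔ Wp X (-1 - η)) ≤ 10 := by rw [← hdim]; exact Submodule.finrank_le _
  have h5a := h5 η hη
  have h5b := h5 _ hη'
  refine ⟨by omega, fun u hu w hw => isotropic hb hX11 h11 hη hu hw, ?_⟩
  intro u hu
  apply hnd
  intro w
  have htop : Wp X η ⊔ Wp X (-1 - η) = ⊤ := by
    apply Submodule.eq_top_of_finrank_eq
    omega
  have hw : w ∈ Wp X η ⊔ Wp X (-1 - η) := by rw [htop]; trivial
  obtain ⟨w1, hw1, w2, hw2, rfl⟩ := Submodule.mem_sup.1 hw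
  rw [map_add, fixed_perp hb hX11 h11 hu hw1, fixed_perp hb hX11 h11 hu hw2, add_zero]

end iso

end Cfsg.Agent.H926.OEl
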