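import Cfsg.Agent.H926.OEl
import Cfsg.Prelude.Def_GeometricClasses

/-!
# Type of a ten-dimensional orthogonal space with an isometry of order eleven normalised by an element of order five
-/

set_option autoImplicit false

namespace Cfsg.Agent.H926.OEl

open Module Cfsg.Geo
open scoped Matrix MatrixGroups

variable {F : Type*} [Field F] {ι : Type} [Fintype ι] [DecidableEq ι]

/-- The polar form as a bilinear form. -/
def pol (Q : (ι → F) → F) (hQ : IsNondegenerateQuadraticForm Q) : LinearMap.BilinForm F (ι → F) :=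
  LinearMap.mk₂ F (QuadraticMap.polar Q) hQ.polar_bilinear.add_left hQ.polar_bilinear.smul_left
    hQ.polar_bilinear.add_right hQ.polar_bilinear.smul_right

theorem pol_apply (Q : (ι → F) → F) (hQ : IsNondegenerateQuadraticForm Q) (u v : ι → F) :
    pol Q hQ u v = QuadraticMap.polar Q u v := rfl

theorem toLin_pow (x : GL ι F) (k : ℕ) :
    Matrix.toLin' ((x ^ k : GL ι F) : Matrix ι ι F) = (Matrix.toLin' (x : Matrix ι ι F)) ^ k := by
  rw [Units.val_pow_eq_pow_val, Matrix.toLin'_pow]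

/-- A totally singular `5`-space, if `|F|` is a square modulo `11`. -/
theorem exists_singular [Finite F] (hι : Fintype.card ι = 10) {Q : (ι → F) → F}
    (hQ : IsNondegenerateQuadraticForm Q) (h2 : (2 : F) ≠ 0) (h11 : (11 : F) ≠ 0) {x y : GL ι F}
    (hx : ∀ v, Q ((x : Matrix ι ι F) *ᵥ v) = Q v) (hx11 : x ^ 11 = 1) (hx1 : x ≠ 1)
    (hxy : y * x * y⁻¹ = x ^ 3) {η : F} (hη : η ^ 2 + η + 3 = 0) :
    (∃ W : Submodule F (ι → F), finrank F W = 5 ∧ IsTotallySingularQuad Q W) ∧
      ∀ v, (x : Matrix ι ι F) *ᵥ v = v → v = 0 := by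
  set X := Matrix.toLin' (x : Matrix ι ι F) with hX
  set Y := Matrix.toLin' (y : Matrix ι ι F) with hY
  have hXa : ∀ v, X v = (x : Matrix ι ι F) *ᵥ v := fun v => Matrix.toLin'_apply _ _
  have hYa : ∀ v, Y v = (y : Matrix ι ι F) *ᵥ v := fun v => Matrix.toLin'_apply _ _
  have hb : ∀ u v, pol Q hQ (X u) (X v) = pol Q hQ u v := by
    intro u v
    rw [pol_apply, pol_apply, hXa, hXa, QuadraticMap.polar, QuadraticMap.polar, ← Matrix.mulVec_add,
      hx, hx, hx]
  have hsymm : ∀ u v, pol Q hQ u v = pol Q hQ v u := by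
    intro u v
    rw [pol_apply, pol_apply, QuadraticMap.polar_comm]
  have hnd : ∀ u, (∀ w, pol Q hQ u w = 0) → u = 0 := by
    intro u hu
    by_contra h0
    obtain ⟨-, w, hw⟩ := hQ.nondegenerate u h0
    exact hw (hu w)
  have hX11 : X ^ 11 = 1 := by
    rw [hX, ← toLin_pow, hx11, Units.val_one, Matrix.toLin'_one]; rfl
  have hX1 : X ≠ 1 := by
    intro h
    apply hx1
    apply Units.ext
    apply Matrix.toLin'.injective
    rw [← hX, h, Units.val_one, Matrix.toLin'_one]; rfl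
  have hYX : Y * X = X ^ 3 * Y := by
    have h1 : y * x = x ^ 3 * y := by rw [← hxy]; group
    rw [hY, hX, ← toLin_pow]
    show (Matrix.toLin' (y : Matrix ι ι F)).comp (Matrix.toLin' (x : Matrix ι ι F)) =
      (Matrix.toLin' ((x ^ 3 : GL ι F) : Matrix ι ι F)).comp (Matrix.toLin' (y : Matrix ι ι F))
    rw [← Matrix.toLin'_mul, ← Matrix.toLin'_mul, ← Units.val_mul, ← Units.val_mul, h1]
  have hYinj : Function.Injective Y := by
    intro u v huv
    rw [hYa, hYa] at huv
    have h1 := congrArg (fun w => ((y⁻¹ : GL ι F) : Matrix ι ι F) *ᵥ w) huv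
    simp only [Matrix.mulVec_mulVec, ← Units.val_mul, inv_mul_cancel, Units.val_one,
      Matrix.one_mulVec] at h1
    exact h1
  obtain ⟨h5, hiso, hfix⟩ := main hb hsymm hnd hX11 hX1 h11 hη hYinj hYX
    (by rw [Module.finrank_fintype_fun_eq_card, hι])
  refine ⟨⟨Wp X η, h5, ?_⟩, fun v hv => hfix v (by rw [hXa]; exact hv)⟩
  intro w hw
  have h1 := hiso w hw w hw
  rw [pol_apply, QuadraticMap.polar] at h1
  have h3 : Q (w + w) = 4 * Q w := by
    have h4 : w + w = (2 : F) • w := by rw [two_smul]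
    rw [h4, hQ.smul]; ring
  have h4 : 2 * Q w = 0 := by linear_combination h1 - h3
  exact (mul_eq_zero.1 h4).resolve_left h2

/-- **The order of the field is not a square modulo `11` in minus type.** -/
theorem mod_of_minus [Finite F] (hι : Fintype.card ι = 10) {Q : (ι → F) → F}
    (hQ : IsNondegenerateQuadraticForm Q) (hminus : ¬ IsPlusTypeOn Q ⊤) (h2 : (2 : F) ≠ 0)
    (h11 : (11 : F) ≠ 0) {x y : GL ι F}
    (hx : ∀ v, Q ((x : Matrix ι ι F) *ᵥ v) = Q v) (hx11 : x ^ 11 = 1) (hx1 : x ≠ 1)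
    (hxy : y * x * y⁻¹ = x ^ 3) : Nat.card F % 11 = 2 ∨ Nat.card F % 11 = 6 ∨ Nat.card F % 11 = 7 ∨
      Nat.card F % 11 = 8 ∨ Nat.card F % 11 = 10 := by
  have h0 : Nat.card F % 11 ≠ 0 := by
    intro h
    apply h11
    have h1 : 11 ∣ Nat.card F := Nat.dvd_of_mod_eq_zero h
    have h3 : ((Nat.card F : ℕ) : F) = 0 := by
      let _ : Fintype F := Fintype.ofFinite F
      rw [Nat.card_eq_fintype_card]
      exact FiniteField.cast_card_eq_zero F
    obtain ⟨p, hp⟩ := CharP.exists F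
    have hpp : p.Prime := CharP.char_is_prime F p
    have h4 : ∃ k, Nat.card F = p ^ k := by
      let _ : Fintype F := Fintype.ofFinite F
      obtain ⟨k, -, hk⟩ := FiniteField.card F p
      exact ⟨k, by rw [Nat.card_eq_fintype_card]; exact hk⟩
    obtain ⟨k, hk⟩ := h4
    rw [hk] at h1
    have h5 : 11 ∣ p := (by norm_num : Nat.Prime 11).dvd_of_dvd_pow h1
    have h6 : p = 11 := ((Nat.prime_dvd_prime_iff_eq (by norm_num) hpp).1 h5).symm
    rw [h6] at hp
    have := CharP.cast_eq_zero F 11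
    exact_mod_cast this
  by_contra hcon
  push Not at hcon
  have hmod : Nat.card F % 11 = 1 ∨ Nat.card F % 11 = 3 ∨ Nat.card F % 11 = 4 ∨ Nat.card F % 11 = 5 ∨
      Nat.card F % 11 = 9 := by omega
  obtain ⟨η, hη⟩ := exists_eta h11 hmod
  obtain ⟨⟨W, hW5, hW⟩, -⟩ := exists_singular hι hQ h2 h11 hx hx11 hx1 hxy hη
  apply hminus
  refine ⟨W, le_top, hW, ?_⟩
  rw [hW5, finrank_top, Module.finrank_fintype_fun_eq_card, hι]

end Cfsg.Agent.H926.OEl
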