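import Cfsg.Agent.H926.Half
import Cfsg.Agent.H919.AschBurnside

/-!
# Half-degree fields: reduction to degree two (helper926)

`comm_over` : a commutative adjoint-closed algebra properly containing a field of degree `n / 2`, normalised by an
irreducible group of isometries ⇒ C2a, C2b or a degree-two field.
`half_cases` (odd characteristic), `half_cases_two` (characteristic two).
-/

set_option autoImplicit false
set_option linter.unusedSectionVars false

namespace Cfsg.Agent.H926

open QuadraticMap Matrix Cfsg.Geo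
open Cfsg.Agent.H919 Cfsg.Agent.H924

variable {ι : Type} [Fintype ι] [DecidableEq ι] {F : Type*} [Field F]

theorem comm_over [Nonempty ι] [Finite F] {σ : F ≃+* F} {ε : F} {f : (ι → F) → (ι → F) → F} (hf : HermForm σ ε f)
    {H : Subgroup (GL ι F)} (hirr : ActsIrreducibly (matrixSet H))
    (hH : ∀ g ∈ H, ∀ u v, f ((g : Matrix ι ι F) *ᵥ u) ((g : Matrix ι ι F) *ᵥ v) = f u v)
    {C : Subalgebra F (Matrix ι ι F)} (hN : H ≤ subalgebraNormalizer C)
    (hcomm : ∀ x ∈ C, ∀ y ∈ C, x * y = y * x) (hC : IsAdjointClosedFor f C)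
    {r : ℕ} {K : Subalgebra F (Matrix ι ι F)} (hK : IsFieldSubalgebra r K) (hn : Fintype.card ι = 2 * r)
    (hKC : K < C) :
    (∃ (t m : ℕ) (D : Fin t → Submodule F (ι → F)), IsNondegenerateMDecomposition f m D ∧
      H ≤ decompositionStabilizer D ∧
      (∀ i j, ∃ h ∈ H, (D i).map (Matrix.toLin' (h : Matrix ι ι F)) = D j)) ∨
    (∃ (m : ℕ) (D : Fin 2 → Submodule F (ι → F)), IsMDecomposition m D ∧
      (∀ i, IsTotallySingularFor f (D i)) ∧ H ≤ decompositionStabilizer D) ∨
    (∃ K₂ : Subalgebra F (Matrix ι ι F), IsFieldSubalgebra 2 K₂ ∧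
      IsAdjointClosedFor f K₂ ∧ H ≤ subalgebraNormalizer K₂) := by
  have hN' := normalises_iff_le.mpr hN
  obtain ⟨t, e, h1, h2, h3, h4⟩ := exists_idems hirr hN' hcomm
  have hE : IdemSystem C t e := ⟨h1, h2, h3, h4⟩
  rcases Nat.lt_or_ge t 2 with ht | ht
  · have ht1 : t = 1 := by
      rcases Nat.eq_zero_or_pos t with h | h
      · subst h
        exfalso
        have : (0 : Matrix ι ι F) = 1 := by simpa using h3
        exact zero_ne_one this
      · omega
    subst ht1
    have hinv := field_of_one hE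
    have hCF : IsFieldSubalgebra (Module.finrank F C) C := ⟨hcomm, hinv, rfl⟩
    have hdvd : Module.finrank F C ∣ Fintype.card ι := H912.finrank_dvd_of_fieldSub hCF
    have hlt : r < Module.finrank F C := by
      rw [← hK.finrank_eq]
      exact Submodule.finrank_lt_finrank_of_lt (s := Subalgebra.toSubmodule K) (t := Subalgebra.toSubmodule C) hKC
    have heq : Module.finrank F C = 2 * r := by
      obtain ⟨s, hs⟩ := hdvd
      rw [hn] at hs
      have hs0 : 0 < s := by
        rcases Nat.eq_zero_or_pos s with h | h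
        · subst h
          rw [mul_zero] at hs
          have := H912.finrank_pos_fieldSub hK
          omega
        · exact h
      have hs2 : s < 2 := by
        by_contra hcon
        have : Module.finrank F C * 2 ≤ Module.finrank F C * s := Nat.mul_le_mul_left _ (by omega)
        omega
      have : s = 1 := by omega
      rw [this, mul_one] at hs
      exact hs.symm
    obtain ⟨K₂, _, hK₂, hHK, hKf⟩ := exists_prime_subfield hN' hcomm hinv 2 Nat.prime_two (by
      rw [heq]; exact dvd_mul_right 2 r)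
    exact Or.inr (Or.inr ⟨K₂, hK₂, hKf σ ε f hf hC, hHK⟩)
  · rcases imprimitive_of_comm hf hirr hH hN' hcomm hC hE ht with h | h
    · left; exact h
    · right; left; exact h

/-- The algebra generated by a commuting set. -/
theorem adjoin_comm {S : Set (Matrix ι ι F)} (hS : ∀ x ∈ S, ∀ y ∈ S, x * y = y * x) :
    ∀ x ∈ Algebra.adjoin F S, ∀ y ∈ Algebra.adjoin F S, x * y = y * x := by
  intro x hx y hy
  have h1 : ∀ s ∈ S, ∀ a ∈ Algebra.adjoin F S, s * a = a * s := fun s hs =>
    commute_adjoin (fun s' hs' => hS s hs s' hs')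
  exact commute_adjoin (S := S) (M := x) (fun s hs => (h1 s hs x hx).symm) y hy

/-- A generating set invariant under conjugation by `H`. -/
theorem le_normalizer_adjoin_set {S : Set (Matrix ι ι F)} {H : Subgroup (GL ι F)}
    (hS : ∀ h ∈ H, ∀ s ∈ S, (h : Matrix ι ι F) * s * ((h⁻¹ : GL ι F) : Matrix ι ι F) ∈ S) :
    H ≤ subalgebraNormalizer (Algebra.adjoin F S) := by
  rw [← normalises_iff_le]
  have key : ∀ h ∈ H, ∀ c ∈ Algebra.adjoin F S, conjM h c ∈ Algebra.adjoin F S := by
    intro h hh c hc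
    induction hc using Algebra.adjoin_induction with
    | mem x hx => exact Algebra.subset_adjoin (hS h hh x hx)
    | algebraMap a => rw [AlgEquiv.commutes]; exact Subalgebra.algebraMap_mem _ a
    | add x y _ _ hx hy => rw [map_add]; exact Subalgebra.add_mem _ hx hy
    | mul x y _ _ hx hy => rw [map_mul]; exact Subalgebra.mul_mem _ hx hy
  intro h hh c hc
  exact key h hh c hc

/-- A generating set closed under adjoints. -/
theorem adjointClosed_adjoin {σ : F ≃+* F} {ε : F} {f : (ι → F) → (ι → F) → F} (hf : HermForm σ ε f)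
    {S : Set (Matrix ι ι F)} (hS : ∀ s ∈ S, adjM σ f s ∈ S) : IsAdjointClosedFor f (Algebra.adjoin F S) := by
  apply isAdjointClosedFor_of hf
  intro c hc
  induction hc using Algebra.adjoin_induction with
  | mem x hx => exact Algebra.subset_adjoin (hS x hx)
  | algebraMap a =>
    rw [Algebra.algebraMap_eq_smul_one, adjM_smul hf, adjM_one hf, ← Algebra.algebraMap_eq_smul_one]
    exact Subalgebra.algebraMap_mem _ _
  | add x y _ _ hx hy => rw [adjM_add hf]; exact Subalgebra.add_mem _ hx hy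
  | mul x y _ _ hx hy => rw [adjM_mul hf]; exact Subalgebra.mul_mem _ hy hx

theorem conj_adj {f : (ι → F) → (ι → F) → F} {g : GL ι F}
    (hg : ∀ u v, f ((g : Matrix ι ι F) *ᵥ u) ((g : Matrix ι ι F) *ᵥ v) = f u v) {x y : Matrix ι ι F}
    (hxy : ∀ u v, f (x *ᵥ u) v = f u (y *ᵥ v)) (u v : ι → F) :
    f (((g : Matrix ι ι F) * x * ((g⁻¹ : GL ι F) : Matrix ι ι F)) *ᵥ u) v =
      f u (((g : Matrix ι ι F) * y * ((g⁻¹ : GL ι F) : Matrix ι ι F)) *ᵥ v) := by
  have hgi : ∀ w, (g : Matrix ι ι F) *ᵥ (((g⁻¹ : GL ι F) : Matrix ι ι F) *ᵥ w) = w := by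
    intro w
    rw [Matrix.mulVec_mulVec, ← Units.val_mul, mul_inv_cancel, Units.val_one, Matrix.one_mulVec]
  have h1 : f (((g : Matrix ι ι F) * x * ((g⁻¹ : GL ι F) : Matrix ι ι F)) *ᵥ u) v =
      f (x *ᵥ (((g⁻¹ : GL ι F) : Matrix ι ι F) *ᵥ u)) (((g⁻¹ : GL ι F) : Matrix ι ι F) *ᵥ v) := by
    rw [← hg (x *ᵥ (((g⁻¹ : GL ι F) : Matrix ι ι F) *ᵥ u)), hgi, ← Matrix.mulVec_mulVec, ← Matrix.mulVec_mulVec]
  have h2 : f u (((g : Matrix ι ι F) * y * ((g⁻¹ : GL ι F) : Matrix ι ι F)) *ᵥ v) =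
      f (((g⁻¹ : GL ι F) : Matrix ι ι F) *ᵥ u) (y *ᵥ (((g⁻¹ : GL ι F) : Matrix ι ι F) *ᵥ v)) := by
    rw [← hg (((g⁻¹ : GL ι F) : Matrix ι ι F) *ᵥ u), hgi, ← Matrix.mulVec_mulVec, ← Matrix.mulVec_mulVec]
  rw [h1, h2, hxy]

/-- conjugation preserves the centraliser of a normalised subalgebra -/
theorem conj_centralizes {K : Subalgebra F (Matrix ι ι F)} {g : GL ι F} (hg : g ∈ subalgebraNormalizer K)
    {x : Matrix ι ι F} (hx : ∀ k ∈ K, x * k = k * x) :
    ∀ k ∈ K, ((g : Matrix ι ι F) * x * ((g⁻¹ : GL ι F) : Matrix ι ι F)) * k =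
      k * ((g : Matrix ι ι F) * x * ((g⁻¹ : GL ι F) : Matrix ι ι F)) := by
  intro k hk
  have hgg : (g : Matrix ι ι F) * ((g⁻¹ : GL ι F) : Matrix ι ι F) = 1 := by
    rw [← Units.val_mul, mul_inv_cancel, Units.val_one]
  have hk' : ((g⁻¹ : GL ι F) : Matrix ι ι F) * k * (g : Matrix ι ι F) ∈ K := by
    have := ((subalgebraNormalizer K).inv_mem hg k).1 hk
    rwa [inv_inv] at this
  have h1 := hx _ hk'
  calc ((g : Matrix ι ι F) * x * ((g⁻¹ : GL ι F) : Matrix ι ι F)) * k
      = (g : Matrix ι ι F) * (x * (((g⁻¹ : GL ι F) : Matrix ι ι F) * k * (g : Matrix ι ι F))) *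
          ((g⁻¹ : GL ι F) : Matrix ι ι F) := by
        simp only [mul_assoc, hgg, mul_one]
    _ = ((g : Matrix ι ι F) * ((g⁻¹ : GL ι F) : Matrix ι ι F)) * k * ((g : Matrix ι ι F) * x *
          ((g⁻¹ : GL ι F) : Matrix ι ι F)) := by
        rw [h1]; simp only [mul_assoc]
    _ = _ := by rw [hgg, one_mul]

/-- **Half-degree fields, odd characteristic.** -/
theorem half_cases [Nonempty ι] [Finite F] {f : (ι → F) → (ι → F) → F} (hf : HermForm (RingEquiv.refl F) 1 f)
    (h2 : (2 : F) ≠ 0) {H : Subgroup (GL ι F)} (hirr : ActsIrreducibly (matrixSet H))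
    (hH : ∀ g ∈ H, ∀ u v, f ((g : Matrix ι ι F) *ᵥ u) ((g : Matrix ι ι F) *ᵥ v) = f u v)
    {r : ℕ} {K : Subalgebra F (Matrix ι ι F)} (hK : IsFieldSubalgebra r K) (hsa : IsSelfAdjointFor f K)
    (hn : Fintype.card ι = 2 * r) (hN : H ≤ subalgebraNormalizer K) :
    (∃ (t m : ℕ) (D : Fin t → Submodule F (ι → F)), IsNondegenerateMDecomposition f m D ∧
      H ≤ decompositionStabilizer D ∧
      (∀ i j, ∃ h ∈ H, (D i).map (Matrix.toLin' (h : Matrix ι ι F)) = D j)) ∨
    (∃ (m : ℕ) (D : Fin 2 → Submodule F (ι → F)), IsMDecomposition m D ∧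
      (∀ i, IsTotallySingularFor f (D i)) ∧ H ≤ decompositionStabilizer D) ∨
    (∃ K₂ : Subalgebra F (Matrix ι ι F), IsFieldSubalgebra 2 K₂ ∧
      IsAdjointClosedFor f K₂ ∧ H ≤ subalgebraNormalizer K₂) := by
  have hb : IsBilinearForm f := ⟨hf.add_left, hf.smul_left, hf.add_right, fun c v x => hf.smul_right v c x⟩
  have hsymm : ∀ u v, f u v = f v u := fun u v => by
    have := hf.herm u v
    rwa [one_mul] at this
  obtain ⟨x, hx, hx0⟩ := exists_skew hf hb hK hsa hn
  let S : Set (Matrix ι ι F) := {y | y ∈ K ∨ IsSkewFor f K y}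
  have hadjskew : ∀ y, IsSkewFor f K y → adjM (RingEquiv.refl F) f y = -y := fun y hy => adjM_eq hf hy.2
  have hScomm : ∀ y ∈ S, ∀ z ∈ S, y * z = z * y := by
    rintro y (hy | hy) z (hz | hz)
    · exact hK.comm y hy z hz
    · exact (hz.1 y hy).symm
    · exact hy.1 z hz
    · obtain ⟨k, hk, rfl⟩ := hx.exists_smul hb hsymm hf.nondegenerate h2 hK hsa hn hx0 hy
      obtain ⟨l, hl, rfl⟩ := hx.exists_smul hb hsymm hf.nondegenerate h2 hK hsa hn hx0 hz
      calc k * x * (l * x) = k * (x * l) * x := by simp only [mul_assoc]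
        _ = k * (l * x) * x := by rw [hx.1 l hl]
        _ = (k * l) * x * x := by simp only [mul_assoc]
        _ = (l * k) * x * x := by rw [hK.comm k hk l hl]
        _ = l * (k * x) * x := by simp only [mul_assoc]
        _ = l * (x * k) * x := by rw [hx.1 k hk]
        _ = l * x * (k * x) := by simp only [mul_assoc]
  have hSconj : ∀ h ∈ H, ∀ s ∈ S, (h : Matrix ι ι F) * s * ((h⁻¹ : GL ι F) : Matrix ι ι F) ∈ S := by
    rintro h hh s (hs | hs)
    · exact Or.inl ((hN hh s).1 hs)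
    · refine Or.inr ⟨conj_centralizes (hN hh) hs.1, fun u v => ?_⟩
      rw [conj_adj (hH h hh) hs.2]
      rw [mul_neg, neg_mul]
  have hSadj : ∀ s ∈ S, adjM (RingEquiv.refl F) f s ∈ S := by
    rintro s (hs | hs)
    · left
      rw [adjM_eq hf (hsa s hs)]
      exact hs
    · right
      rw [hadjskew s hs]
      refine ⟨fun k hk => by rw [neg_mul, mul_neg, hs.1 k hk], fun u v => ?_⟩
      have h1 := isAdj_adjM hf (-s)
      have h3 : adjM (RingEquiv.refl F) f (-s) = - -s := by
        rw [← neg_one_smul F s, adjM_smul hf, hadjskew s hs]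
        simp
      rw [h3] at h1
      exact h1 u v
  refine comm_over hf hirr hH (le_normalizer_adjoin_set hSconj) (adjoin_comm hScomm)
    (adjointClosed_adjoin hf hSadj) hK hn ?_
  refine lt_of_le_of_ne (fun y hy => Algebra.subset_adjoin (Or.inl hy)) (fun heq => ?_)
  have hxK : x ∈ K := by
    rw [heq]; exact Algebra.subset_adjoin (Or.inr hx)
  apply hx0
  have h3 : adjM (RingEquiv.refl F) f x = x := adjM_eq hf (hsa x hxK)
  rw [hadjskew x hx] at h3
  have h4 : (2 : F) • x = 0 := by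
    rw [two_smul]
    nth_rw 1 [← h3]
    rw [neg_add_cancel]
  rcases smul_eq_zero.1 h4 with h | h
  · exact absurd h h2
  · exact h

end Cfsg.Agent.H926
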