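import Cfsg.Agent.H926.Over

/-!
# Half-degree fields in characteristic two (helper926)

`half_cases_two` : `Q` nondegenerate in characteristic two, `K` a self-adjoint field subalgebra of degree `n / 2`
normalised by the irreducible group `H` of isometries of `Q` ⇒ C2a, C2b or a degree-two field.
-/

set_option autoImplicit false
set_option linter.unusedSectionVars false

namespace Cfsg.Agent.H926

open QuadraticMap Matrix Cfsg.Geo
open Cfsg.Agent.H919 Cfsg.Agent.H924

variable {ι : Type} [Fintype ι] [DecidableEq ι] {F : Type*} [Field F]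

theorem sq_inj_of_two {R : Type*} [CommRing R] [IsDomain R] (h2 : (2 : R) = 0) {a b : R} (h : a ^ 2 = b ^ 2) :
    a = b := by
  have h1 : (a - b) ^ 2 = 0 := by linear_combination h + (b ^ 2 - a * b) * h2
  exact sub_eq_zero.1 (pow_eq_zero_iff (two_ne_zero) |>.1 h1)

theorem form_self_eq_zero_two [Nonempty ι] [Finite F] {f : (ι → F) → (ι → F) → F}
    (halt : ∀ v, f v v = 0) (h2 : (2 : F) = 0) {r : ℕ}
    {K : Subalgebra F (Matrix ι ι F)} (hK : IsFieldSubalgebra r K) (hsa : IsSelfAdjointFor f K) :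
    ∀ k ∈ K, ∀ v, f (k *ᵥ v) v = 0 := by
  let _ : Field K := (H912.isField_of_fieldSub hK).toField
  have : Finite K := Module.finite_of_finite F
  have h20 : (2 : K) = 0 := by
    have : (2 : K) = algebraMap F K 2 := by rw [map_ofNat]
    rw [this, h2, map_zero]
  intro k hk v
  obtain ⟨s, hs⟩ := exists_sq h20 (⟨k, hk⟩ : K)
  have h1 : k = (s : Matrix ι ι F) * (s : Matrix ι ι F) := by
    have := congrArg Subtype.val hs
    rw [pow_two] at this
    exact this.symm
  rw [h1, ← Matrix.mulVec_mulVec, hsa s s.2, halt]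

/-- Elements of the centraliser with `f v (ℓ v) = 0` are in `K` (characteristic two). -/
theorem mem_of_alt_two [Nonempty ι] [Finite F] {f : (ι → F) → (ι → F) → F} (hf : IsBilinearForm f)
    (hsymm : ∀ u v, f u v = f v u) (hnd : IsNondegenerateForm f)
    (halt : ∀ v, f v v = 0) (h2 : (2 : F) = 0) {r : ℕ}
    {K : Subalgebra F (Matrix ι ι F)} (hK : IsFieldSubalgebra r K) (hsa : IsSelfAdjointFor f K)
    (hn : Fintype.card ι = 2 * r) {ℓ : Matrix ι ι F} (hℓ : ∀ k ∈ K, ℓ * k = k * ℓ)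
    (h0 : ∀ v, f v (ℓ *ᵥ v) = 0) : ℓ ∈ K := by
  obtain ⟨τ, hτ⟩ := exists_tau K
  obtain ⟨⟨e₁, e₂, hspan⟩, -⟩ := exists_two_gen hK hn
  have hself := form_self_eq_zero_two halt h2 hK hsa
  -- square roots in `K`
  have hroot : ∀ k : K, ∃ s : K, (k : Matrix ι ι F) = (s : Matrix ι ι F) * (s : Matrix ι ι F) := by
    let _ : Field K := (H912.isField_of_fieldSub hK).toField
    have : Finite K := Module.finite_of_finite F
    have h20 : (2 : K) = 0 := by
      have : (2 : K) = algebraMap F K 2 := by rw [map_ofNat]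
      rw [this, h2, map_zero]
    intro k
    obtain ⟨s, hs⟩ := exists_sq h20 k
    refine ⟨s, ?_⟩
    have := congrArg Subtype.val hs
    rw [pow_two] at this
    exact this.symm
  set B := kForm hK hτ hf with hB
  have hBl : ∀ v, B v (ℓ *ᵥ v) = 0 := by
    intro v
    refine kForm_unique hK hτ hf fun k => ?_
    obtain ⟨s, hs⟩ := hroot k
    rw [mul_zero, map_zero, hs, ← Matrix.mulVec_mulVec, hsa s s.2, Matrix.mulVec_mulVec, ← hℓ s s.2,
      ← Matrix.mulVec_mulVec, h0]
  have hBB : ∀ v, B v v = 0 := by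
    intro v
    refine kForm_unique hK hτ hf fun k => ?_
    rw [mul_zero, map_zero, hself k k.2]
  have hadd_l : ∀ u u' v, B (u + u') v = B u v + B u' v := kForm_add_left hK hτ hf
  have hadd_r : ∀ u v v', B u (v + v') = B u v + B u v' := kForm_add_right hK hτ hf
  have hBsymm : ∀ u v, B u v = B v u := kForm_comm hK hτ hf hsa hsymm
  have h2K : ∀ a : K, a + a = 0 := by
    intro a
    rw [← two_smul F a, h2, zero_smul]
  have hBl2 : ∀ u v, B u (ℓ *ᵥ v) = B v (ℓ *ᵥ u) := by
    intro u v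
    have h1 := hBl (u + v)
    rw [Matrix.mulVec_add, hadd_l, hadd_r, hadd_r, hBl, hBl, zero_add, add_zero] at h1
    have h3 := h2K (B v (ℓ *ᵥ u))
    rw [← h3] at h1
    exact add_right_cancel h1
  -- `B e₁ e₂ ≠ 0`
  have hb0 : B e₁ e₂ ≠ 0 := by
    intro hb
    have hall : ∀ u v, B u v = 0 := by
      intro u v
      obtain ⟨a, b, rfl⟩ := hspan u
      obtain ⟨c, d, rfl⟩ := hspan v
      rw [hadd_l, hadd_r, hadd_r, hB, kForm_smul_left, kForm_smul_left, kForm_smul_left, kForm_smul_left,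
        kForm_smul_right hK hτ hf hsa, kForm_smul_right hK hτ hf hsa, kForm_smul_right hK hτ hf hsa,
        kForm_smul_right hK hτ hf hsa, ← hB, hBB, hBB, hb, hBsymm e₂ e₁, hb]
      simp
    obtain ⟨i⟩ := (inferInstance : Nonempty ι)
    have hne : (Pi.single i 1 : ι → F) ≠ 0 := by
      intro h
      have := congrFun h i
      simp at this
    obtain ⟨y, hy⟩ := (hnd _ hne).2
    exact hy (form_eq_zero_of_kForm hK hτ hf (hall _ y))
  obtain ⟨b', hb', hbb⟩ := hK.inv _ (B e₁ e₂).2 (fun h => hb0 (Subtype.ext h))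
  let k : K := B e₁ (ℓ *ᵥ e₂) * ⟨b', hb'⟩
  have hk : k * B e₁ e₂ = B e₁ (ℓ *ᵥ e₂) := by
    apply Subtype.ext
    show ((B e₁ (ℓ *ᵥ e₂) : Matrix ι ι F) * b') * (B e₁ e₂ : Matrix ι ι F) = _
    rw [mul_assoc, hK.comm b' hb' _ (B e₁ e₂).2, hbb, mul_one]
  -- `ℓ - k` vanishes
  have hsub : ∀ u v, B u (ℓ *ᵥ v) = k * B u v := by
    intro u v
    obtain ⟨a, b, rfl⟩ := hspan u
    obtain ⟨c, d, rfl⟩ := hspan v
    have hℓe : ℓ *ᵥ ((c : Matrix ι ι F) *ᵥ e₁ + (d : Matrix ι ι F) *ᵥ e₂) =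
        (c : Matrix ι ι F) *ᵥ (ℓ *ᵥ e₁) + (d : Matrix ι ι F) *ᵥ (ℓ *ᵥ e₂) := by
      rw [Matrix.mulVec_add, Matrix.mulVec_mulVec, Matrix.mulVec_mulVec, hℓ c c.2, hℓ d d.2,
        ← Matrix.mulVec_mulVec, ← Matrix.mulVec_mulVec]
    rw [hℓe, hadd_l, hadd_r, hadd_r, hadd_l, hadd_r, hadd_r, hB]
    simp only [kForm_smul_left, kForm_smul_right hK hτ hf hsa]
    rw [← hB, hBl, hBl, hBl2 e₂ e₁, ← hk, hBB, hBB, hBsymm e₂ e₁]
    have hcomm : ∀ x y : K, x * y = y * x := fun x y => Subtype.ext (hK.comm x x.2 y y.2)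
    have e1 : ∀ x y z : K, x * (y * (k * z)) = k * (x * (y * z)) := by
      intro x y z
      rw [← mul_assoc y, hcomm y k, mul_assoc, ← mul_assoc x, hcomm x k, mul_assoc]
    simp only [mul_zero, zero_add, add_zero, mul_add]
    rw [e1, e1]
  have hzero : ∀ u v, f u ((ℓ - (k : Matrix ι ι F)) *ᵥ v) = 0 := by
    intro u v
    apply form_eq_zero_of_kForm hK hτ hf
    have h3 : (ℓ - (k : Matrix ι ι F)) *ᵥ v = ℓ *ᵥ v + ((-k : K) : Matrix ι ι F) *ᵥ v := by
      rw [Matrix.sub_mulVec, sub_eq_add_neg, ← Matrix.neg_mulVec]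
      rfl
    rw [h3, kForm_add_right, kForm_smul_right hK hτ hf hsa]
    show B u (ℓ *ᵥ v) + -k * B u v = 0
    rw [hsub]
    apply Subtype.ext
    show (k : Matrix ι ι F) * (B u v : Matrix ι ι F) + -(k : Matrix ι ι F) * (B u v : Matrix ι ι F) = 0
    rw [neg_mul, add_neg_cancel]
  have heq : ℓ - (k : Matrix ι ι F) = 0 := by
    apply Matrix.toLin'.injective
    apply LinearMap.ext
    intro v
    rw [Matrix.toLin'_apply, map_zero, LinearMap.zero_apply]
    by_contra hne
    obtain ⟨x, hx⟩ := (hnd _ hne).1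
    exact hx (hzero x v)
  rw [sub_eq_zero.1 heq]
  exact k.2

/-- Existence of an element of the centraliser representing `Q` (characteristic two). -/
theorem exists_repr_two [Nonempty ι] [Finite F] {Q : (ι → F) → F} (hQ : IsNondegenerateQuadraticForm Q)
    (h2 : (2 : F) = 0) {r : ℕ}
    {K : Subalgebra F (Matrix ι ι F)} (hK : IsFieldSubalgebra r K) (hsa : IsSelfAdjointFor (polar Q) K) :
    ∃ ℓ : Matrix ι ι F, (∀ k ∈ K, ℓ * k = k * ℓ) ∧ ∀ v, polar Q v (ℓ *ᵥ v) = Q v := by
  have hf := hQ.polar_bilinear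
  have halt : ∀ v, polar Q v v = 0 := fun v => by rw [polar_self_two hQ, h2, zero_mul]
  have hself := form_self_eq_zero_two halt h2 hK hsa
  obtain ⟨τ, hτ⟩ := exists_tau K
  let _ : Field K := (H912.isField_of_fieldSub hK).toField
  have : Finite K := Module.finite_of_finite F
  have h20 : (2 : K) = 0 := by
    have : (2 : K) = algebraMap F K 2 := by rw [map_ofNat]
    rw [this, h2, map_zero]
  choose sq hsq using exists_sq (F := K) h20
  have sq_add : ∀ a b : K, sq (a + b) = sq a + sq b := fun a b => sq_inj_of_two h20 (by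
    rw [hsq]
    have : (sq a + sq b) ^ 2 = sq a ^ 2 + sq b ^ 2 + 2 * (sq a * sq b) := by ring
    rw [this, hsq, hsq, h20]; ring)
  have sq_mul : ∀ a b : K, sq (a * b ^ 2) = sq a * b := fun a b => sq_inj_of_two h20 (by
    rw [hsq, mul_pow, hsq])
  have sq_one : sq 1 = 1 := sq_inj_of_two h20 (by rw [hsq, one_pow])
  have sq_smul : ∀ (c : F) (k : K), ∃ d : F, d ^ 2 = c ∧ sq (c • k) = d • sq k := by
    intro c k
    obtain ⟨d, hd⟩ := exists_sq h2 c
    refine ⟨d, hd, sq_inj_of_two h20 ?_⟩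
    rw [hsq, ← hd, Algebra.smul_def, Algebra.smul_def, mul_pow, hsq, map_pow]
  -- the functional `k ↦ Q (√k v)`
  let T : (ι → F) → K →ₗ[F] F := fun v =>
    { toFun := fun k => Q ((sq k : Matrix ι ι F) *ᵥ v)
      map_add' := by
        intro k k'
        rw [sq_add]
        show Q (((sq k : Matrix ι ι F) + (sq k' : Matrix ι ι F)) *ᵥ v) = _
        rw [Matrix.add_mulVec, Q_add' Q, hsa (sq k) (sq k).2, Matrix.mulVec_mulVec, polar_comm,
          hself _ (K.mul_mem (sq k).2 (sq k').2), add_zero]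
      map_smul' := by
        intro c k
        obtain ⟨d, hd, hd'⟩ := sq_smul c k
        rw [hd']
        show Q ((d • (sq k : Matrix ι ι F)) *ᵥ v) = _
        rw [Matrix.smul_mulVec, hQ.smul, hd]
        rfl }
  have hT : ∀ v k, T v k = Q ((sq k : Matrix ι ι F) *ᵥ v) := fun v k => rfl
  let qK : (ι → F) → K := fun v => (dualEquiv hK hτ).symm (T v)
  have hqK : ∀ v k, τ (k * qK v) = Q ((sq k : Matrix ι ι F) *ᵥ v) := by
    intro v k
    have h : dualMap τ (qK v) = T v := (dualEquiv hK hτ).apply_symm_apply _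
    exact congrArg (fun g => g k) h
  have hqKu : ∀ v (c : K), (∀ k : K, τ (k * c) = Q ((sq k : Matrix ι ι F) *ᵥ v)) → qK v = c := by
    intro v c h
    apply dualMap_injective hK hτ
    ext1 k
    rw [dualMap_apply, dualMap_apply, h, hqK]
  have hpolar : ∀ u v, qK (u + v) = qK u + qK v + kForm hK hτ hf u v := by
    intro u v
    apply hqKu
    intro k
    rw [mul_add, mul_add, map_add, map_add, hqK, hqK, kForm_spec, Matrix.mulVec_add, Q_add' Q]
    congr 1
    have h1 : (k : Matrix ι ι F) = (sq k : Matrix ι ι F) * (sq k : Matrix ι ι F) := by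
      have := congrArg Subtype.val (hsq k)
      rw [pow_two] at this
      exact this.symm
    rw [← hsa (sq k) (sq k).2 (((sq k : K) : Matrix ι ι F) *ᵥ u) v]
    rw [Matrix.mulVec_mulVec, ← h1]
  have hsmul : ∀ (a : K) v, qK ((a : Matrix ι ι F) *ᵥ v) = a * a * qK v := by
    intro a v
    apply hqKu
    intro k
    have h1 : k * (a * a * qK v) = (k * a ^ 2) * qK v := by ring
    rw [h1, hqK, sq_mul, Matrix.mulVec_mulVec]
    rfl
  let QK : QuadraticForm K (ι → F) := QuadraticMap.ofPolar qK (fun a v => hsmul a v)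
    (fun x x' y => by
      have hp : ∀ u v, polar qK u v = kForm hK hτ hf u v := fun u v => by
        simp only [polar, hpolar]; abel
      rw [hp, hp, hp, kForm_add_left])
    (fun a x y => by
      have hp : ∀ u v, polar qK u v = kForm hK hτ hf u v := fun u v => by
        simp only [polar, hpolar]; abel
      rw [hp, hp]
      exact kForm_smul_left hK hτ hf a x y)
  obtain ⟨g, hg⟩ := LinearMap.BilinMap.toQuadraticMap_surjective QK
  have hgg : ∀ v, g v v = qK v := fun v => by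
    have := congrArg (fun q => q v) hg
    exact this
  -- the bilinear forms over `F`
  let B₁ : LinearMap.BilinForm F (ι → F) := LinearMap.mk₂ F (fun u v => τ (g u v))
    (fun u u' v => by rw [map_add, LinearMap.add_apply, map_add])
    (fun c u v => by
      have : c • u = (algebraMap F K c) • u := by rw [algebraMap_smul]
      rw [this, map_smul, LinearMap.smul_apply, algebraMap_smul, map_smul])
    (fun u v v' => by rw [map_add, map_add])
    (fun c u v => by
      have : c • v = (algebraMap F K c) • v := by rw [algebraMap_smul]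
      rw [this, map_smul, algebraMap_smul, map_smul])
  let B₂ : LinearMap.BilinForm F (ι → F) := LinearMap.mk₂ F (fun u v => polar Q u v)
    hf.add_left hf.smul_left hf.add_right hf.smul_right
  have hB₂ : B₂.Nondegenerate := by
    refine ⟨fun v hv => ?_, fun v hv => ?_⟩
    · by_contra h
      obtain ⟨x, hx⟩ := (hQ.nondegenerate v h).2
      exact hx (hv x)
    · by_contra h
      obtain ⟨x, hx⟩ := (hQ.nondegenerate v h).1
      exact hx (hv x)
  let L := B₁.symmCompOfNondegenerate B₂ hB₂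
  have hL : ∀ v w, polar Q (L w) v = τ (g w v) := fun v w =>
    LinearMap.BilinForm.symmCompOfNondegenerate_left_apply B₁ hB₂ v w
  have hLm : ∀ v, LinearMap.toMatrix' L *ᵥ v = L v := fun v => LinearMap.toMatrix'_mulVec L v
  refine ⟨LinearMap.toMatrix' L, fun k hk => ?_, fun v => ?_⟩
  · apply Matrix.toLin'.injective
    apply LinearMap.ext
    intro w
    rw [Matrix.toLin'_apply, Matrix.toLin'_apply, ← Matrix.mulVec_mulVec, ← Matrix.mulVec_mulVec, hLm, hLm]
    rw [← sub_eq_zero]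
    by_contra hne
    obtain ⟨x, hx⟩ := (hQ.nondegenerate _ hne).2
    apply hx
    have h1 : polar Q (L (k *ᵥ w)) x = polar Q (k *ᵥ L w) x := by
      rw [hL, hsa k hk, hL]
      have e1 : g (k *ᵥ w) x = (⟨k, hk⟩ : K) • g w x := by
        have : k *ᵥ w = (⟨k, hk⟩ : K) • w := rfl
        rw [this, map_smul, LinearMap.smul_apply]
      have e2 : g w (k *ᵥ x) = (⟨k, hk⟩ : K) • g w x := by
        have : k *ᵥ x = (⟨k, hk⟩ : K) • x := rfl
        rw [this, map_smul]
      rw [e1, e2]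
    rw [sub_eq_add_neg, ← neg_one_smul F, hf.add_left, hf.smul_left, h1]
    ring
  · rw [hLm, polar_comm, hL, hgg]
    have h1 := hqK v 1
    rw [one_mul, sq_one] at h1
    rw [h1]
    show Q ((1 : Matrix ι ι F) *ᵥ v) = Q v
    rw [Matrix.one_mulVec]

/-- **Half-degree fields, characteristic two.** -/
theorem half_cases_two [Nonempty ι] [Finite F] {Q : (ι → F) → F} (hQ : IsNondegenerateQuadraticForm Q)
    (h2 : (2 : F) = 0) {H : Subgroup (GL ι F)} (hirr : ActsIrreducibly (matrixSet H))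
    (hH : H ≤ Cfsg.isometryGroup F Q)
    {r : ℕ} {K : Subalgebra F (Matrix ι ι F)} (hK : IsFieldSubalgebra r K) (hsa : IsSelfAdjointFor (polar Q) K)
    (hn : Fintype.card ι = 2 * r) (hN : H ≤ subalgebraNormalizer K) :
    (∃ (t m : ℕ) (D : Fin t → Submodule F (ι → F)), IsNondegenerateMDecomposition (polar Q) m D ∧
      H ≤ decompositionStabilizer D ∧
      (∀ i j, ∃ h ∈ H, (D i).map (Matrix.toLin' (h : Matrix ι ι F)) = D j)) ∨
    (∃ (m : ℕ) (D : Fin 2 → Submodule F (ι → F)), IsMDecomposition m D ∧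
      (∀ i, IsTotallySingularFor (polar Q) (D i)) ∧ H ≤ decompositionStabilizer D) ∨
    (∃ K₂ : Subalgebra F (Matrix ι ι F), IsFieldSubalgebra 2 K₂ ∧
      IsAdjointClosedFor (polar Q) K₂ ∧ H ≤ subalgebraNormalizer K₂) := by
  have hf := hermForm_polar hQ
  have hb := hQ.polar_bilinear
  have hsymm : ∀ u v, polar Q u v = polar Q v u := fun u v => polar_comm Q u v
  have halt : ∀ v, polar Q v v = 0 := fun v => by rw [polar_self_two hQ, h2, zero_mul]
  have hself := form_self_eq_zero_two halt h2 hK hsa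
  obtain ⟨ℓ₀, hℓ₀, hℓ₀Q⟩ := exists_repr_two hQ h2 hK hsa
  let S : Set (Matrix ι ι F) := {ℓ | (∀ k ∈ K, ℓ * k = k * ℓ) ∧ ∃ s ∈ K, ∀ v, polar Q v (ℓ *ᵥ v) = Q (s *ᵥ v)}
  have hKS : ∀ k ∈ K, k ∈ S := fun k hk => ⟨fun l hl => hK.comm k hk l hl, 0, K.zero_mem, fun v => by
    rw [Matrix.zero_mulVec, Q_zero hQ, polar_comm, hself k hk]⟩
  have hScomm : ∀ y ∈ S, ∀ z ∈ S, y * z = z * y := by
    rintro y ⟨hy, s, hs, hys⟩ z ⟨hz, s', hs', hzs⟩
    by_cases hs0 : s = 0
    · have hyK : y ∈ K := mem_of_alt_two hb hsymm hQ.nondegenerate halt h2 hK hsa hn hy (fun v => by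
        rw [hys, hs0, Matrix.zero_mulVec, Q_zero hQ])
      exact (hz y hyK).symm
    · obtain ⟨i, hi, hsi⟩ := hK.inv s hs hs0
      -- `t = s' s⁻¹`, `k = t²`
      have ht : s' * i ∈ K := K.mul_mem hs' hi
      set t := s' * i with htdef
      have hst : s * t = s' := by
        rw [htdef, ← mul_assoc, hK.comm s hs s' hs', mul_assoc, hsi, mul_one]
      have hzK : z - (t * t) * y ∈ K := by
        refine mem_of_alt_two hb hsymm hQ.nondegenerate halt h2 hK hsa hn (fun k hk => ?_) (fun v => ?_)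
        · have e1 : (t * t) * y * k = k * ((t * t) * y) := by
            calc (t * t) * y * k = (t * t) * (y * k) := mul_assoc _ _ _
              _ = (t * t) * (k * y) := by rw [hy k hk]
              _ = ((t * t) * k) * y := (mul_assoc _ _ _).symm
              _ = (k * (t * t)) * y := by rw [hK.comm (t * t) (K.mul_mem ht ht) k hk]
              _ = k * ((t * t) * y) := mul_assoc _ _ _
          rw [sub_mul, mul_sub, hz k hk, e1]
        · have h1 : polar Q v (((t * t) * y) *ᵥ v) = Q (s' *ᵥ v) := by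
            have h3 : ((t * t) * y) *ᵥ v = t *ᵥ (y *ᵥ (t *ᵥ v)) := by
              have e4 : (t * t) * y = t * (y * t) := by rw [hy t ht, mul_assoc]
              rw [e4, Matrix.mulVec_mulVec, Matrix.mulVec_mulVec, mul_assoc t y t]
            rw [h3, ← hsa t ht, hys, Matrix.mulVec_mulVec, hst]
          rw [Matrix.sub_mulVec, sub_eq_add_neg, ← neg_one_smul F, hb.add_right, hb.smul_right, h1, hzs]
          ring
      have h1 : z = (z - (t * t) * y) + (t * t) * y := by abel
      rw [h1, mul_add, add_mul, ← hy _ hzK]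
      congr 1
      rw [← mul_assoc, hy _ (K.mul_mem ht ht), mul_assoc]
  have hSconj : ∀ h ∈ H, ∀ s ∈ S, (h : Matrix ι ι F) * s * ((h⁻¹ : GL ι F) : Matrix ι ι F) ∈ S := by
    rintro h hh y ⟨hy, s, hs, hys⟩
    refine ⟨conj_centralizes (hN hh) hy, _, (hN hh s).1 hs, fun v => ?_⟩
    have hgi : (h : Matrix ι ι F) *ᵥ (((h⁻¹ : GL ι F) : Matrix ι ι F) *ᵥ v) = v := by
      rw [Matrix.mulVec_mulVec, ← Units.val_mul, mul_inv_cancel, Units.val_one, Matrix.one_mulVec]
    have e2 : polar Q v (((h : Matrix ι ι F) * y * ((h⁻¹ : GL ι F) : Matrix ι ι F)) *ᵥ v) =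
        polar Q ((h : Matrix ι ι F) *ᵥ (((h⁻¹ : GL ι F) : Matrix ι ι F) *ᵥ v))
          ((h : Matrix ι ι F) *ᵥ (y *ᵥ (((h⁻¹ : GL ι F) : Matrix ι ι F) *ᵥ v))) := by
      rw [hgi, Matrix.mulVec_mulVec, Matrix.mulVec_mulVec, mul_assoc]
    have e3 : Q (((h : Matrix ι ι F) * s * ((h⁻¹ : GL ι F) : Matrix ι ι F)) *ᵥ v) =
        Q ((h : Matrix ι ι F) *ᵥ (s *ᵥ (((h⁻¹ : GL ι F) : Matrix ι ι F) *ᵥ v))) := by
      rw [Matrix.mulVec_mulVec, Matrix.mulVec_mulVec, mul_assoc]
    rw [e2, e3, polar_iso (hH hh), hys, H925.mem_iso_iff.1 (hH hh)]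
  have hSadj : ∀ s ∈ S, adjM (RingEquiv.refl F) (polar Q) s ∈ S := by
    rintro y ⟨hy, s, hs, hys⟩
    refine ⟨fun k hk => ?_, s, hs, fun v => ?_⟩
    · have h1 := congrArg (adjM (RingEquiv.refl F) (polar Q)) (hy k hk)
      rw [adjM_mul hf, adjM_mul hf, adjM_eq hf (hsa k hk)] at h1
      exact h1.symm
    · rw [← isAdj_adjM hf y v v, polar_comm, hys]
  refine comm_over hf hirr (fun g hg u v => polar_iso (hH hg) u v) (le_normalizer_adjoin_set hSconj)
    (adjoin_comm hScomm) (adjointClosed_adjoin hf hSadj) hK hn ?_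
  refine lt_of_le_of_ne (fun y hy => Algebra.subset_adjoin (hKS y hy)) (fun heq => ?_)
  have hℓK : ℓ₀ ∈ K := by
    rw [heq]
    exact Algebra.subset_adjoin ⟨hℓ₀, 1, K.one_mem, fun v => by rw [hℓ₀Q, Matrix.one_mulVec]⟩
  have hQ0 : ∀ v, Q v = 0 := fun v => by rw [← hℓ₀Q, polar_comm, hself ℓ₀ hℓK]
  obtain ⟨i⟩ := (inferInstance : Nonempty ι)
  have hne : (Pi.single i 1 : ι → F) ≠ 0 := by
    intro h
    have := congrFun h i
    simp at this
  obtain ⟨y, hy⟩ := (hQ.nondegenerate _ hne).2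
  apply hy
  simp only [polar, hQ0, sub_zero]

/-- **Half-degree fields**: every characteristic, for an irreducible group of isometries of `Q` normalising an
adjoint-closed field subalgebra of odd degree `r`, `card ι = 2 r`. -/
theorem half_degree [Nonempty ι] [Finite F] {Q : (ι → F) → F} (hQ : IsNondegenerateQuadraticForm Q)
    {H : Subgroup (GL ι F)} (hirr : ActsIrreducibly (matrixSet H)) (hH : H ≤ Cfsg.isometryGroup F Q)
    {r : ℕ} {K : Subalgebra F (Matrix ι ι F)} (hK : IsFieldSubalgebra r K) (hsa : IsSelfAdjointFor (polar Q) K)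
    (hn : Fintype.card ι = 2 * r) (hN : H ≤ subalgebraNormalizer K) :
    (∃ (t m : ℕ) (D : Fin t → Submodule F (ι → F)), IsNondegenerateMDecomposition (polar Q) m D ∧
      H ≤ decompositionStabilizer D ∧
      (∀ i j, ∃ h ∈ H, (D i).map (Matrix.toLin' (h : Matrix ι ι F)) = D j)) ∨
    (∃ (m : ℕ) (D : Fin 2 → Submodule F (ι → F)), IsMDecomposition m D ∧
      (∀ i, IsTotallySingularFor (polar Q) (D i)) ∧ H ≤ decompositionStabilizer D) ∨
    (∃ K₂ : Subalgebra F (Matrix ι ι F), IsFieldSubalgebra 2 K₂ ∧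
      IsAdjointClosedFor (polar Q) K₂ ∧ H ≤ subalgebraNormalizer K₂) := by
  by_cases h2 : (2 : F) = 0
  · exact half_cases_two hQ h2 hirr hH hK hsa hn hN
  · exact half_cases (hermForm_polar hQ) h2 hirr (fun g hg u v => polar_iso (hH hg) u v) hK hsa hn hN

end Cfsg.Agent.H926
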