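import Cfsg.Agent.LieClassical.OrthFinite

/-!
# Splitting hyperbolic planes off a nondegenerate subspace (helper926)

`K` a finite field, `Q` a quadratic form on `V`, `W` a subspace on which the polar form is nondegenerate.
* `exists_hyp_of_sing` : a nonzero singular vector of `W` has a hyperbolic partner in `W`;
* `cut` : `W ⊓ {e, f}^⊥` for a hyperbolic pair `e, f` of `W`: nondegenerate, codimension two;
* `split` : if `3 ≤ dim W` there is a hyperbolic pair in `W`.
-/

set_option autoImplicit false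
set_option linter.unusedSectionVars false

namespace Cfsg.Agent.H926

open QuadraticMap
open Cfsg.Agent.LieClassical.OrthCore Cfsg.Agent.LieClassical.OrthTrans Cfsg.Agent.LieClassical.OrthFinite

variable {K V : Type*} [Field K] [AddCommGroup V] [Module K V]

/-- The polar form is nondegenerate on `W`. -/
def NdOn (Q : QuadraticForm K V) (W : Submodule K V) : Prop :=
  ∀ w ∈ W, w ≠ 0 → ∃ x ∈ W, polar Q w x ≠ 0

theorem exists_hyp_of_sing {Q : QuadraticForm K V} {W : Submodule K V} (hW : NdOn Q W) {e : V} (he : e ∈ W)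
    (he0 : e ≠ 0) (hQe : Q e = 0) : ∃ f ∈ W, Hyp Q e f := by
  obtain ⟨x, hx, hne⟩ := hW e he he0
  refine ⟨(polar Q e x)⁻¹ • x - ((polar Q e x)⁻¹ * (polar Q e x)⁻¹ * Q x) • e,
    W.sub_mem (W.smul_mem _ hx) (W.smul_mem _ he), ⟨hQe, ?_, ?_⟩⟩
  · rw [sub_eq_add_neg, ← neg_smul, Q_add, QuadraticMap.map_smul, QuadraticMap.map_smul, polar_smul_left,
      polar_smul_right, hQe, polar_comm Q x e]
    simp only [smul_eq_mul]
    field_simp
    ring
  · rw [polar_sub_right, polar_smul_right, polar_smul_right, polar_self_of_sing hQe]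
    simp only [smul_eq_mul]
    field_simp
    ring

/-- The part of `W` orthogonal to `e` and `f`. -/
def cut (Q : QuadraticForm K V) (W : Submodule K V) (e f : V) : Submodule K V :=
  W ⊓ (LinearMap.ker (polarBilin Q e) ⊓ LinearMap.ker (polarBilin Q f))

theorem mem_cut {Q : QuadraticForm K V} {W : Submodule K V} {e f x : V} :
    x ∈ cut Q W e f ↔ x ∈ W ∧ polar Q e x = 0 ∧ polar Q f x = 0 := Iff.rfl

theorem proj_mem_cut {Q : QuadraticForm K V} {W : Submodule K V} {e f : V} (h : Hyp Q e f) (he : e ∈ W)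
    (hf : f ∈ W) {x : V} (hx : x ∈ W) : proj Q e f x ∈ cut Q W e f := by
  refine mem_cut.2 ⟨W.sub_mem (W.sub_mem hx (W.smul_mem _ he)) (W.smul_mem _ hf), polar_proj_left h x,
    polar_proj_right h x⟩

theorem eq_proj_add (Q : QuadraticForm K V) (e f x : V) :
    x = Cfsg.Agent.LieClassical.OrthTrans.proj Q e f x + (polar Q f x • e + polar Q e x • f) := by
  unfold Cfsg.Agent.LieClassical.OrthTrans.proj; module

theorem ndOn_cut {Q : QuadraticForm K V} {W : Submodule K V} (hW : NdOn Q W) {e f : V} (h : Hyp Q e f)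
    (he : e ∈ W) (hf : f ∈ W) : NdOn Q (cut Q W e f) := by
  intro w hw hw0
  obtain ⟨hwW, hew, hfw⟩ := mem_cut.1 hw
  obtain ⟨x, hx, hne⟩ := hW w hwW hw0
  refine ⟨proj Q e f x, proj_mem_cut h he hf hx, ?_⟩
  rw [polar_proj_of_perp hew hfw]
  exact hne

theorem finrank_cut {Q : QuadraticForm K V} {W : Submodule K V} [FiniteDimensional K V] {e f : V} (h : Hyp Q e f)
    (he : e ∈ W) (hf : f ∈ W) : Module.finrank K (cut Q W e f) + 2 = Module.finrank K W := by
  let φ : W →ₗ[K] (Fin 2 → K) := (LinearMap.pi ![polarBilin Q e, polarBilin Q f]).comp W.subtype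
  have hker : (LinearMap.ker φ).map W.subtype = cut Q W e f := by
    ext x
    constructor
    · rintro ⟨y, hy, rfl⟩
      have hy' := LinearMap.mem_ker.1 hy
      exact mem_cut.2 ⟨y.2, congrFun hy' 0, congrFun hy' 1⟩
    · intro hx
      obtain ⟨h1, h2, h3⟩ := mem_cut.1 hx
      refine ⟨⟨x, h1⟩, LinearMap.mem_ker.2 ?_, rfl⟩
      funext i
      fin_cases i
      · exact h2
      · exact h3
  have hrange : LinearMap.range φ = ⊤ := by
    rw [LinearMap.range_eq_top]
    intro y
    refine ⟨⟨y 0 • f + y 1 • e, W.add_mem (W.smul_mem _ hf) (W.smul_mem _ he)⟩, ?_⟩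
    funext i
    fin_cases i
    · show polar Q e (y 0 • f + y 1 • e) = y 0
      rw [polar_add_right, polar_smul_right, polar_smul_right, h.pair, h.polar_left]
      simp
    · show polar Q f (y 0 • f + y 1 • e) = y 1
      rw [polar_add_right, polar_smul_right, polar_smul_right, h.pair', h.polar_right]
      simp
  have h1 := LinearMap.finrank_range_add_finrank_ker φ
  have h2 : Module.finrank K ((LinearMap.ker φ).map W.subtype) = Module.finrank K (LinearMap.ker φ) :=
    Submodule.finrank_map_subtype_eq W (LinearMap.ker φ)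
  rw [hrange, finrank_top, Module.finrank_fin_fun] at h1
  rw [hker] at h2
  omega

theorem split [Finite K] {Q : QuadraticForm K V} {W : Submodule K V} (hW : NdOn Q W) (h3 : 3 ≤ Module.finrank K W) :
    ∃ e ∈ W, ∃ f ∈ W, Hyp Q e f := by
  obtain ⟨e, he, he0, hQe⟩ := exists_sing_mem (Q := Q) W h3
  obtain ⟨f, hf, h⟩ := exists_hyp_of_sing hW he he0 hQe
  exact ⟨e, he, f, hf, h⟩

/-- Combination of totally singular subspaces: adding a hyperbolic vector. -/
theorem sing_sup {Q : QuadraticForm K V} [FiniteDimensional K V] {e f : V} (h : Hyp Q e f) {U : Submodule K V}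
    (hU : ∀ u ∈ U, Q u = 0) (heU : ∀ u ∈ U, polar Q e u = 0) (hfU : ∀ u ∈ U, polar Q f u = 0) :
    (∀ u ∈ U ⊔ Submodule.span K {e}, Q u = 0) ∧
      Module.finrank K (U ⊔ Submodule.span K {e} : Submodule K V) = Module.finrank K U + 1 := by
  refine ⟨fun u hu => ?_, ?_⟩
  · obtain ⟨a, ha, b, hb, rfl⟩ := Submodule.mem_sup.1 hu
    obtain ⟨c, rfl⟩ := Submodule.mem_span_singleton.1 hb
    rw [Q_add, hU a ha, QuadraticMap.map_smul, h.left, polar_smul_right, polar_comm, heU a ha]
    simp
  · have hinf : U ⊓ Submodule.span K {e} = ⊥ := by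
      rw [Submodule.eq_bot_iff]
      intro x hx
      obtain ⟨c, rfl⟩ := Submodule.mem_span_singleton.1 (Submodule.mem_inf.1 hx).2
      have h1 := hfU _ (Submodule.mem_inf.1 hx).1
      rw [polar_smul_right, h.pair'] at h1
      simp only [smul_eq_mul, mul_one] at h1
      rw [h1, zero_smul]
    have h2 := Submodule.finrank_sup_add_finrank_inf_eq U (Submodule.span K {e})
    rw [hinf, finrank_bot, add_zero, finrank_span_singleton h.left_ne] at h2
    exact h2

end Cfsg.Agent.H926
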